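import Cfsg.Agent.Lib.Helper11.PRMain
import Cfsg.Prelude.Def_SporCoxeter

/-! # Glue between the Coxeter-style presentations and the certificate checkers
(all generators are involutions, i.e. nodes of the graph) -/

set_option autoImplicit false

namespace Cfsg.Agent.Lib.Helper11.Cox

open Cfsg.Spor Cfsg.Agent.Lib.Helper11.TC Cfsg.Agent.Lib.Helper11

variable {α : Type} [DecidableEq α]

/-- decoding of the letter codes -/
def genOf {P : Type*} [Group P] (dec : ℕ → Option α) (f : α → P) (l : ℕ) : P :=
  match dec l with
  | some x => f x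
  | none => 1

theorem genOf_code {P : Type*} [Group P] (dec : ℕ → Option α) (code : α → ℕ)
    (h : ∀ x, dec (code x) = some x) (f : α → P) (x : α) : genOf dec f (code x) = f x := by
  unfold genOf; rw [h]

theorem ev_flatten_replicate {P : Type*} [Group P] (g : ℕ → P) (w : List ℕ) (k : ℕ) :
    ev g (List.replicate k w).flatten = (ev g w) ^ k := by
  induction k with
  | zero => simp
  | succ k ih =>
    rw [List.replicate_succ, List.flatten_cons, pow_succ']
    unfold ev at ih ⊢
    rw [List.map_append, List.prod_append, ih]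

/-- the word of a Coxeter relator -/
def cw (edges : List (α × ℕ × α)) (code : α → ℕ) (x y : α) : List ℕ :=
  (List.replicate (coxLabel edges x y) [code x, code y]).flatten

/-- the same with the two letters exchanged -/
def cw' (edges : List (α × ℕ × α)) (code : α → ℕ) (x y : α) : List ℕ :=
  (List.replicate (coxLabel edges x y) [code y, code x]).flatten

theorem pow_swap {P : Type*} [Group P] (a b : P) (m : ℕ) (h : (a * b) ^ m = 1) : (b * a) ^ m = 1 := by
  have : b * a = b * (a * b) * b⁻¹ := by group
  rw [this, conj_pow, h]; group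

/-- The side conditions on the encoding of a presentation, all decidable or proved by `simp`. -/
structure Enc (edges : List (α × ℕ × α)) (extra : List (FreeGroup α)) (dec : ℕ → Option α)
    (code : α → ℕ) (Ls : List ℕ) (coxW extraW : List (List ℕ)) : Prop where
  dec_code : ∀ x, dec (code x) = some x
  dec31 : dec 31 = none
  node : ∀ x, x ∈ coxNodes edges
  ls : ∀ l ∈ Ls, (dec l).map code = some l
  code_ls : ∀ x, code x ∈ Ls
  c1 : ∀ r ∈ coxW, ∃ x ∈ coxNodes edges, ∃ y ∈ coxNodes edges, r = cw edges code x y
  c2 : ∀ x ∈ coxNodes edges, ∀ y ∈ coxNodes edges,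
    x = y ∨ cw edges code x y ∈ coxW ∨ cw' edges code x y ∈ coxW
  ex : ∀ (P : Type) [Group P] (f : α → P), (∀ x, f x * f x = 1) →
    extra.map (FreeGroup.lift f) = extraW.map (ev (genOf dec f))
  wl : ∀ r ∈ coxW ++ extraW, ∀ l ∈ r, l ∈ Ls

section
variable {edges : List (α × ℕ × α)} {extra : List (FreeGroup α)} {dec : ℕ → Option α}
  {code : α → ℕ} {Ls : List ℕ} {coxW extraW : List (List ℕ)}

theorem lift_of_eq_mk (R : Set (FreeGroup α)) :
    FreeGroup.lift (PresentedGroup.of : α → PresentedGroup R) = PresentedGroup.mk R := by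
  ext x; simp [PresentedGroup.of]

theorem of_sq (x : α) (hx : x ∈ coxNodes edges) :
    (PresentedGroup.of x : CoxPresented α edges extra) * PresentedGroup.of x = 1 := by
  have hm : (FreeGroup.of x * FreeGroup.of x) ^ coxLabel edges x x ∈
      coxRelators edges ∪ {r | r ∈ extra} := Or.inl ⟨x, hx, x, hx, rfl⟩
  have := PresentedGroup.one_of_mem hm
  simpa [coxLabel, PresentedGroup.of] using this

/-- the relator words hold in the presented group -/
theorem words_hold (E : Enc edges extra dec code Ls coxW extraW) :
    ∀ r ∈ coxW ++ extraW,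
      ev (genOf dec (PresentedGroup.of : α → CoxPresented α edges extra)) r = 1 := by
  intro r hr
  rcases List.mem_append.mp hr with hr | hr
  · obtain ⟨x, hx, y, hy, rfl⟩ := E.c1 r hr
    unfold cw
    rw [ev_flatten_replicate]
    simp only [ev_cons, ev_nil, mul_one, genOf_code dec code E.dec_code]
    have hm : (FreeGroup.of x * FreeGroup.of y) ^ coxLabel edges x y ∈
      coxRelators edges ∪ {r | r ∈ extra} := Or.inl ⟨x, hx, y, hy, rfl⟩
    have := PresentedGroup.one_of_mem hm
    simpa [PresentedGroup.of] using this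
  · have h := E.ex (CoxPresented α edges extra) PresentedGroup.of (fun x => of_sq x (E.node x))
    have hm : ev (genOf dec (PresentedGroup.of : α → CoxPresented α edges extra)) r ∈
        extraW.map (ev (genOf dec (PresentedGroup.of : α → CoxPresented α edges extra))) :=
      List.mem_map_of_mem hr
    rw [← h] at hm
    obtain ⟨r0, hr0, hr1⟩ := List.mem_map.mp hm
    rw [← hr1, lift_of_eq_mk]
    exact PresentedGroup.one_of_mem (Or.inr hr0)

/-- a family of involutions satisfying the relator words gives a homomorphism -/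
theorem lift_ok (E : Enc edges extra dec code Ls coxW extraW) {P : Type} [Group P] (f : α → P)
    (hsq : ∀ x, f x * f x = 1) (hw : ∀ r ∈ coxW ++ extraW, ev (genOf dec f) r = 1) :
    ∀ r ∈ coxRelators edges ∪ {r | r ∈ extra}, FreeGroup.lift f r = 1 := by
  intro r hr
  rcases hr with ⟨x, hx, y, hy, rfl⟩ | hr
  · simp only [map_pow, map_mul, FreeGroup.lift_apply_of]
    rcases E.c2 x hx y hy with rfl | h | h
    · simp [coxLabel, hsq]
    · have := hw _ (List.mem_append_left _ h)
      unfold cw at this
      rw [ev_flatten_replicate] at this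
      simpa only [ev_cons, ev_nil, mul_one, genOf_code dec code E.dec_code] using this
    · have := hw _ (List.mem_append_left _ h)
      unfold cw' at this
      rw [ev_flatten_replicate] at this
      simp only [ev_cons, ev_nil, mul_one, genOf_code dec code E.dec_code] at this
      exact pow_swap _ _ _ this
  · have h := E.ex P f hsq
    have hm : FreeGroup.lift f r ∈ extra.map (FreeGroup.lift f) := List.mem_map_of_mem hr
    rw [h] at hm
    obtain ⟨w, hw0, hw1⟩ := List.mem_map.mp hm
    rw [← hw1]
    exact hw _ (List.mem_append_right _ hw0)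

theorem submonoid_closure_top {G : Type*} [Group G] (S : Set G) (hS : Subgroup.closure S = ⊤)
    (hinv : ∀ g ∈ S, g⁻¹ ∈ S) : Submonoid.closure S = ⊤ := by
  have h := Subgroup.closure_toSubmonoid S
  rw [hS] at h
  have h2 : S ∪ S⁻¹ = S := by
    apply Set.union_eq_self_of_subset_right
    intro g hg
    have := hinv _ (Set.mem_inv.mp hg)
    simpa using this
  rw [h2] at h
  rw [← h]; rfl

/-- **Master theorem**: index and suborbits of a subgroup of a Coxeter-style presented group from a
coset enumeration certificate and a verified permutation representation. -/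
theorem master (E : Enc edges extra dec code Ls coxW extraW)
    {n : ℕ} {F : ℕ → ℕ} {adm : List Adm} {letters : List (ℕ × ℕ)} {subs : List (List ℕ)}
    {tbl : ℕ → ℕ → ℕ} {ivs : List (ℕ × ℕ)}
    (hclosed : ∀ {Q : Type} (act : ℕ → Q → Q) (q0 : Q), (∀ x, act 31 x = x) →
      (∀ a ∈ adm, AdmOK act q0 a) → (∀ e ∈ letters, PairOK act e) →
      ∀ e ∈ letters, ∀ u < n, ∃ v ≤ n - 1, act e.1 (kap act q0 F u) = kap act q0 F v)
    (hadm : adm.all (admCheck (fun l => l) (coxW ++ extraW) subs) = true)
    (hlet : letters = Ls.map (fun l => (l, l * 1048576))) (hL32 : ∀ l ∈ Ls, l < 32)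
    (hT : PR.Tables n tbl (fun l => l) Ls)
    (hR : ∀ r ∈ coxW ++ extraW, ∀ u < n, PR.trace (r.map tbl) u = u)
    (hO : PR.Orbits n tbl Ls subs ivs)
    (S : Set (FreeGroup α))
    (hS : (PresentedGroup.mk (coxRelators edges ∪ {r | r ∈ extra})) '' S =
      {g | ∃ s ∈ subs, g = ev (genOf dec (PresentedGroup.of : α → CoxPresented α edges extra)) s}) :
    ((Subgroup.closure S).map (PresentedGroup.mk (coxRelators edges ∪ {r | r ∈ extra}))).index = n ∧
    ∃ Φ : CoxPresented α edges extra ⧸
        ((Subgroup.closure S).map (PresentedGroup.mk (coxRelators edges ∪ {r | r ∈ extra}))) → Fin n,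
      Function.Injective Φ ∧ ∀ iv ∈ ivs, ∃ q,
        Φ '' (MulAction.orbit ((Subgroup.closure S).map
          (PresentedGroup.mk (coxRelators edges ∪ {r | r ∈ extra}))) q) =
          {u : Fin n | iv.1 ≤ u.1 ∧ u.1 < iv.2} := by
  set G := CoxPresented α edges extra with hG
  set gen : ℕ → G := genOf dec (PresentedGroup.of : α → CoxPresented α edges extra) with hgen
  set H : Subgroup G := (Subgroup.closure S).map (PresentedGroup.mk (coxRelators edges ∪ {r | r ∈ extra})) with hHdef
  have hH : H = Subgroup.closure {g | ∃ s ∈ subs, g = ev gen s} := by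
    rw [hHdef, MonoidHom.map_closure, hS]
  have hn : 0 < n := by
    have := (hO.le _ hO.first); simp at this; omega
  have h31 : gen 31 = 1 := by simp [hgen, genOf, E.dec31]
  have hsq : ∀ l, gen l * gen l = 1 := by
    intro l
    simp only [hgen, genOf]
    cases dec l with
    | none => simp
    | some x => exact of_sq x (E.node x)
  have hinv : ∀ l, gen ((fun l => l) l) = (gen l)⁻¹ := fun l => eq_inv_of_mul_eq_one_left (hsq l)
  have hrel : ∀ r ∈ coxW ++ extraW, ev gen r = 1 := words_hold E
  have hsub : ∀ s ∈ subs, ev gen s ∈ H := by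
    intro s hs
    rw [hH]; exact Subgroup.subset_closure ⟨s, hs, rfl⟩
  have hadm' : ∀ a ∈ adm, AdmOK (cact H gen) ((1 : G) : G ⧸ H) a := fun a ha =>
    admOK_of_check H gen _ _ subs h31 hinv hrel hsub a (List.all_eq_true.mp hadm a ha)
  have hpair : ∀ e ∈ letters, PairOK (cact H gen) e := by
    intro e he
    rw [hlet] at he
    obtain ⟨l, hl, rfl⟩ := List.mem_map.mp he
    refine ⟨hL32 l hl, l, hL32 l hl, rfl, ?_, ?_⟩ <;>
    · intro x
      simp only [cact]
      rw [← mul_smul, ← mul_inv_rev, hsq]; simp
  have hcl := hclosed (cact H gen) ((1 : G) : G ⧸ H) (cact_31 H gen h31) hadm' hpair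
  -- index bound
  have hsurj := index_le_of_closed H (kap (cact H gen) ((1 : G) : G ⧸ H) F) n hn
    (kap_zero _ _ _) {g | ∃ l ∈ Ls, g = (gen l)⁻¹} (by
      apply submonoid_closure_top
      · rw [eq_top_iff, ← PresentedGroup.closure_range_of, Subgroup.closure_le]
        rintro _ ⟨x, rfl⟩
        apply Subgroup.subset_closure
        refine ⟨code x, E.code_ls x, ?_⟩
        rw [← hinv]
        simp only [hgen, genOf_code dec code E.dec_code]
      · rintro _ ⟨l, hl, rfl⟩
        exact ⟨l, hl, by rw [inv_inv]; exact hinv l⟩) (by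
      rintro _ ⟨l, hl, rfl⟩ u hu
      obtain ⟨v, hv, hv2⟩ := hcl (l, l * 1048576) (by rw [hlet]; exact List.mem_map_of_mem hl) u hu
      exact ⟨v, by omega, hv2⟩)
  obtain ⟨hi1, hi2⟩ := index_le_of_surj H _ n hsurj
  -- the permutation representation
  have hpsq : ∀ l ∈ Ls, PR.pg n tbl (fun l => l) Ls l * PR.pg n tbl (fun l => l) Ls l = 1 := by
    intro l hl
    have h1 : PR.pg n tbl (fun l => l) Ls l = (PR.pg n tbl (fun l => l) Ls l)⁻¹ := PR.pg_inv hT l hl
    nth_rewrite 1 [h1]
    simp
  have hgp : ∀ l ∈ Ls, genOf dec (fun x => PR.pg n tbl (fun l => l) Ls (code x)) l =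
      PR.pg n tbl (fun l => l) Ls l := by
    intro l hl
    have := E.ls l hl
    unfold genOf
    cases hd : dec l with
    | none => rw [hd] at this; simp at this
    | some x =>
      rw [hd] at this
      simp only [Option.map_some, Option.some.injEq] at this
      simp only [this]
  have hev : ∀ r : List ℕ, (∀ l ∈ r, l ∈ Ls) →
      ev (genOf dec (fun x => PR.pg n tbl (fun l => l) Ls (code x))) r =
      ev (PR.pg n tbl (fun l => l) Ls) r := by
    intro r hr
    induction r with
    | nil => rfl
    | cons l r ih =>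
      rw [ev_cons, ev_cons, hgp l (hr l List.mem_cons_self),
        ih (fun l' hl' => hr l' (List.mem_cons_of_mem _ hl'))]
  have hlift := lift_ok E (fun x => PR.pg n tbl (fun l => l) Ls (code x))
    (fun x => hpsq _ (E.code_ls x)) (by
      intro r hr
      rw [hev r (E.wl r hr)]
      exact PR.ev_pg_eq_one hT r (E.wl r hr) (hR r hr))
  let φ : G →* Equiv.Perm (Fin n) := PresentedGroup.toGroup hlift
  have hφ : ∀ l ∈ Ls, φ (gen l) = PR.pg n tbl (fun l => l) Ls l := by
    intro l hl
    have := E.ls l hl
    simp only [hgen, genOf]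
    cases hd : dec l with
    | none => rw [hd] at this; simp at this
    | some x =>
      rw [hd] at this
      simp only [Option.map_some, Option.some.injEq] at this
      show (PresentedGroup.toGroup hlift) (PresentedGroup.of x) = _
      rw [PresentedGroup.toGroup.of, this]
  exact PR.main hT hO φ gen hφ H hH hi1 hi2

end

end Cfsg.Agent.Lib.Helper11.Cox
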