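import Cfsg.Agent.Lib.Helper11.Fi22aPT

set_option autoImplicit false
set_option maxRecDepth 1000000
set_option Elab.async false

namespace Cfsg.Agent.Lib.Helper11.Fi22a

open Cfsg.Agent.Lib.Helper11

theorem rng0_0 : PR.allR (PR.mapsF [tb0] 0 3509) 0 3510 = true := by decide +kernel

theorem sq0_0 : PR.allR (PR.fixF [tb0, tb0]) 0 3510 = true := by decide +kernel

theorem rng2_0 : PR.allR (PR.mapsF [tb2] 0 3509) 0 3510 = true := by decide +kernel

theorem sq2_0 : PR.allR (PR.fixF [tb2, tb2]) 0 3510 = true := by decide +kernel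

theorem rng4_0 : PR.allR (PR.mapsF [tb4] 0 3509) 0 3510 = true := by decide +kernel

theorem sq4_0 : PR.allR (PR.fixF [tb4, tb4]) 0 3510 = true := by decide +kernel

theorem rng6_0 : PR.allR (PR.mapsF [tb6] 0 3509) 0 3510 = true := by decide +kernel

theorem sq6_0 : PR.allR (PR.fixF [tb6, tb6]) 0 3510 = true := by decide +kernel

theorem rng8_0 : PR.allR (PR.mapsF [tb8] 0 3509) 0 3510 = true := by decide +kernel

theorem sq8_0 : PR.allR (PR.fixF [tb8, tb8]) 0 3510 = true := by decide +kernel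

theorem rng10_0 : PR.allR (PR.mapsF [tb10] 0 3509) 0 3510 = true := by decide +kernel

theorem sq10_0 : PR.allR (PR.fixF [tb10, tb10]) 0 3510 = true := by decide +kernel

theorem rng12_0 : PR.allR (PR.mapsF [tb12] 0 3509) 0 3510 = true := by decide +kernel

theorem sq12_0 : PR.allR (PR.fixF [tb12, tb12]) 0 3510 = true := by decide +kernel

theorem rng14_0 : PR.allR (PR.mapsF [tb14] 0 3509) 0 3510 = true := by decide +kernel

theorem sq14_0 : PR.allR (PR.fixF [tb14, tb14]) 0 3510 = true := by decide +kernel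

theorem rng16_0 : PR.allR (PR.mapsF [tb16] 0 3509) 0 3510 = true := by decide +kernel

theorem sq16_0 : PR.allR (PR.fixF [tb16, tb16]) 0 3510 = true := by decide +kernel

theorem rel0_0 : PR.allR (PR.fixF [tb0, tb2, tb0, tb2, tb0, tb2]) 0 3510 = true := by decide +kernel

theorem rel1_0 : PR.allR (PR.fixF [tb0, tb4, tb0, tb4]) 0 3510 = true := by decide +kernel

theorem rel2_0 : PR.allR (PR.fixF [tb0, tb6, tb0, tb6]) 0 3510 = true := by decide +kernel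

theorem rel3_0 : PR.allR (PR.fixF [tb0, tb8, tb0, tb8]) 0 3510 = true := by decide +kernel

theorem rel4_0 : PR.allR (PR.fixF [tb0, tb14, tb0, tb14]) 0 3510 = true := by decide +kernel

theorem rel5_0 : PR.allR (PR.fixF [tb0, tb10, tb0, tb10]) 0 3510 = true := by decide +kernel

theorem rel6_0 : PR.allR (PR.fixF [tb0, tb12, tb0, tb12]) 0 3510 = true := by decide +kernel

theorem rel7_0 : PR.allR (PR.fixF [tb0, tb16, tb0, tb16]) 0 3510 = true := by decide +kernel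

theorem rel8_0 : PR.allR (PR.fixF [tb2, tb4, tb2, tb4, tb2, tb4]) 0 3510 = true := by decide +kernel

theorem rel9_0 : PR.allR (PR.fixF [tb2, tb6, tb2, tb6]) 0 3510 = true := by decide +kernel

theorem rel10_0 : PR.allR (PR.fixF [tb2, tb8, tb2, tb8]) 0 3510 = true := by decide +kernel

theorem rel11_0 : PR.allR (PR.fixF [tb2, tb14, tb2, tb14]) 0 3510 = true := by decide +kernel

theorem rel12_0 : PR.allR (PR.fixF [tb2, tb10, tb2, tb10]) 0 3510 = true := by decide +kernel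

theorem rel13_0 : PR.allR (PR.fixF [tb2, tb12, tb2, tb12]) 0 3510 = true := by decide +kernel

theorem rel14_0 : PR.allR (PR.fixF [tb2, tb16, tb2, tb16]) 0 3510 = true := by decide +kernel

theorem rel15_0 : PR.allR (PR.fixF [tb4, tb6, tb4, tb6, tb4, tb6]) 0 3510 = true := by decide +kernel

theorem rel16_0 : PR.allR (PR.fixF [tb4, tb8, tb4, tb8]) 0 3510 = true := by decide +kernel

theorem rel17_0 : PR.allR (PR.fixF [tb4, tb14, tb4, tb14]) 0 3510 = true := by decide +kernel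

theorem rel18_0 : PR.allR (PR.fixF [tb4, tb10, tb4, tb10]) 0 3510 = true := by decide +kernel

theorem rel19_0 : PR.allR (PR.fixF [tb4, tb12, tb4, tb12]) 0 3510 = true := by decide +kernel

theorem rel20_0 : PR.allR (PR.fixF [tb4, tb16, tb4, tb16]) 0 3510 = true := by decide +kernel

theorem rel21_0 : PR.allR (PR.fixF [tb6, tb8, tb6, tb8, tb6, tb8]) 0 3510 = true := by decide +kernel

theorem rel22_0 : PR.allR (PR.fixF [tb6, tb14, tb6, tb14, tb6, tb14]) 0 3510 = true := by decide +kernel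

theorem rel23_0 : PR.allR (PR.fixF [tb6, tb10, tb6, tb10]) 0 3510 = true := by decide +kernel

theorem rel24_0 : PR.allR (PR.fixF [tb6, tb12, tb6, tb12]) 0 3510 = true := by decide +kernel

theorem rel25_0 : PR.allR (PR.fixF [tb6, tb16, tb6, tb16]) 0 3510 = true := by decide +kernel

theorem rel26_0 : PR.allR (PR.fixF [tb8, tb14, tb8, tb14]) 0 3510 = true := by decide +kernel

theorem rel27_0 : PR.allR (PR.fixF [tb8, tb10, tb8, tb10, tb8, tb10]) 0 3510 = true := by decide +kernel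

theorem rel28_0 : PR.allR (PR.fixF [tb8, tb12, tb8, tb12]) 0 3510 = true := by decide +kernel

theorem rel29_0 : PR.allR (PR.fixF [tb8, tb16, tb8, tb16]) 0 3510 = true := by decide +kernel

theorem rel30_0 : PR.allR (PR.fixF [tb14, tb10, tb14, tb10]) 0 3510 = true := by decide +kernel

theorem rel31_0 : PR.allR (PR.fixF [tb14, tb12, tb14, tb12]) 0 3510 = true := by decide +kernel

theorem rel32_0 : PR.allR (PR.fixF [tb14, tb16, tb14, tb16, tb14, tb16]) 0 3510 = true := by decide +kernel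

theorem rel33_0 : PR.allR (PR.fixF [tb10, tb12, tb10, tb12, tb10, tb12]) 0 3510 = true := by decide +kernel

theorem rel34_0 : PR.allR (PR.fixF [tb10, tb16, tb10, tb16]) 0 3510 = true := by decide +kernel

theorem rel35_0 : PR.allR (PR.fixF [tb12, tb16, tb12, tb16]) 0 3510 = true := by decide +kernel

theorem rel36_0 : PR.allR (PR.fixF [tb6, tb4, tb2, tb6, tb8, tb10, tb6, tb14, tb16, tb6, tb4, tb2, tb6, tb8, tb10, tb6, tb14, tb16, tb6, tb4, tb2, tb6, tb8, tb10, tb6, tb14, tb16, tb6, tb4, tb2, tb6, tb8, tb10, tb6, tb14, tb16, tb6, tb4, tb2, tb6, tb8, tb10, tb6, tb14, tb16, tb6, tb4, tb2, tb6, tb8, tb10, tb6, tb14, tb16, tb6, tb4, tb2, tb6, tb8, tb10, tb6, tb14, tb16, tb6, tb4, tb2, tb6, tb8, tb10, tb6, tb14, tb16, tb6, tb4, tb2, tb6, tb8, tb10, tb6, tb14, tb16, tb6, tb4, tb2, tb6, tb8, tb10, tb6, tb14, tb16]) 0 767 = true := by decide +kernel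

theorem rel36_1 : PR.allR (PR.fixF [tb6, tb4, tb2, tb6, tb8, tb10, tb6, tb14, tb16, tb6, tb4, tb2, tb6, tb8, tb10, tb6, tb14, tb16, tb6, tb4, tb2, tb6, tb8, tb10, tb6, tb14, tb16, tb6, tb4, tb2, tb6, tb8, tb10, tb6, tb14, tb16, tb6, tb4, tb2, tb6, tb8, tb10, tb6, tb14, tb16, tb6, tb4, tb2, tb6, tb8, tb10, tb6, tb14, tb16, tb6, tb4, tb2, tb6, tb8, tb10, tb6, tb14, tb16, tb6, tb4, tb2, tb6, tb8, tb10, tb6, tb14, tb16, tb6, tb4, tb2, tb6, tb8, tb10, tb6, tb14, tb16, tb6, tb4, tb2, tb6, tb8, tb10, tb6, tb14, tb16]) 767 767 = true := by decide +kernel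

theorem rel36_2 : PR.allR (PR.fixF [tb6, tb4, tb2, tb6, tb8, tb10, tb6, tb14, tb16, tb6, tb4, tb2, tb6, tb8, tb10, tb6, tb14, tb16, tb6, tb4, tb2, tb6, tb8, tb10, tb6, tb14, tb16, tb6, tb4, tb2, tb6, tb8, tb10, tb6, tb14, tb16, tb6, tb4, tb2, tb6, tb8, tb10, tb6, tb14, tb16, tb6, tb4, tb2, tb6, tb8, tb10, tb6, tb14, tb16, tb6, tb4, tb2, tb6, tb8, tb10, tb6, tb14, tb16, tb6, tb4, tb2, tb6, tb8, tb10, tb6, tb14, tb16, tb6, tb4, tb2, tb6, tb8, tb10, tb6, tb14, tb16, tb6, tb4, tb2, tb6, tb8, tb10, tb6, tb14, tb16]) 1534 767 = true := by decide +kernel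

theorem rel36_3 : PR.allR (PR.fixF [tb6, tb4, tb2, tb6, tb8, tb10, tb6, tb14, tb16, tb6, tb4, tb2, tb6, tb8, tb10, tb6, tb14, tb16, tb6, tb4, tb2, tb6, tb8, tb10, tb6, tb14, tb16, tb6, tb4, tb2, tb6, tb8, tb10, tb6, tb14, tb16, tb6, tb4, tb2, tb6, tb8, tb10, tb6, tb14, tb16, tb6, tb4, tb2, tb6, tb8, tb10, tb6, tb14, tb16, tb6, tb4, tb2, tb6, tb8, tb10, tb6, tb14, tb16, tb6, tb4, tb2, tb6, tb8, tb10, tb6, tb14, tb16, tb6, tb4, tb2, tb6, tb8, tb10, tb6, tb14, tb16, tb6, tb4, tb2, tb6, tb8, tb10, tb6, tb14, tb16]) 2301 767 = true := by decide +kernel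

theorem rel36_4 : PR.allR (PR.fixF [tb6, tb4, tb2, tb6, tb8, tb10, tb6, tb14, tb16, tb6, tb4, tb2, tb6, tb8, tb10, tb6, tb14, tb16, tb6, tb4, tb2, tb6, tb8, tb10, tb6, tb14, tb16, tb6, tb4, tb2, tb6, tb8, tb10, tb6, tb14, tb16, tb6, tb4, tb2, tb6, tb8, tb10, tb6, tb14, tb16, tb6, tb4, tb2, tb6, tb8, tb10, tb6, tb14, tb16, tb6, tb4, tb2, tb6, tb8, tb10, tb6, tb14, tb16, tb6, tb4, tb2, tb6, tb8, tb10, tb6, tb14, tb16, tb6, tb4, tb2, tb6, tb8, tb10, tb6, tb14, tb16, tb6, tb4, tb2, tb6, tb8, tb10, tb6, tb14, tb16]) 3068 442 = true := by decide +kernel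

theorem rel37_0 : PR.allR (PR.fixF [tb0, tb2, tb4, tb6, tb8, tb10, tb14, tb0, tb2, tb4, tb6, tb8, tb10, tb14, tb0, tb2, tb4, tb6, tb8, tb10, tb14, tb0, tb2, tb4, tb6, tb8, tb10, tb14, tb0, tb2, tb4, tb6, tb8, tb10, tb14, tb0, tb2, tb4, tb6, tb8, tb10, tb14, tb0, tb2, tb4, tb6, tb8, tb10, tb14, tb0, tb2, tb4, tb6, tb8, tb10, tb14, tb0, tb2, tb4, tb6, tb8, tb10, tb14]) 0 1095 = true := by decide +kernel

theorem rel37_1 : PR.allR (PR.fixF [tb0, tb2, tb4, tb6, tb8, tb10, tb14, tb0, tb2, tb4, tb6, tb8, tb10, tb14, tb0, tb2, tb4, tb6, tb8, tb10, tb14, tb0, tb2, tb4, tb6, tb8, tb10, tb14, tb0, tb2, tb4, tb6, tb8, tb10, tb14, tb0, tb2, tb4, tb6, tb8, tb10, tb14, tb0, tb2, tb4, tb6, tb8, tb10, tb14, tb0, tb2, tb4, tb6, tb8, tb10, tb14, tb0, tb2, tb4, tb6, tb8, tb10, tb14]) 1095 1095 = true := by decide +kernel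

theorem rel37_2 : PR.allR (PR.fixF [tb0, tb2, tb4, tb6, tb8, tb10, tb14, tb0, tb2, tb4, tb6, tb8, tb10, tb14, tb0, tb2, tb4, tb6, tb8, tb10, tb14, tb0, tb2, tb4, tb6, tb8, tb10, tb14, tb0, tb2, tb4, tb6, tb8, tb10, tb14, tb0, tb2, tb4, tb6, tb8, tb10, tb14, tb0, tb2, tb4, tb6, tb8, tb10, tb14, tb0, tb2, tb4, tb6, tb8, tb10, tb14, tb0, tb2, tb4, tb6, tb8, tb10, tb14]) 2190 1095 = true := by decide +kernel

theorem rel37_3 : PR.allR (PR.fixF [tb0, tb2, tb4, tb6, tb8, tb10, tb14, tb0, tb2, tb4, tb6, tb8, tb10, tb14, tb0, tb2, tb4, tb6, tb8, tb10, tb14, tb0, tb2, tb4, tb6, tb8, tb10, tb14, tb0, tb2, tb4, tb6, tb8, tb10, tb14, tb0, tb2, tb4, tb6, tb8, tb10, tb14, tb0, tb2, tb4, tb6, tb8, tb10, tb14, tb0, tb2, tb4, tb6, tb8, tb10, tb14, tb0, tb2, tb4, tb6, tb8, tb10, tb14]) 3285 225 = true := by decide +kernel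

theorem rel38_0 : PR.allR (PR.fixF [tb2, tb4, tb6, tb8, tb10, tb12, tb14, tb2, tb4, tb6, tb8, tb10, tb12, tb14, tb2, tb4, tb6, tb8, tb10, tb12, tb14, tb2, tb4, tb6, tb8, tb10, tb12, tb14, tb2, tb4, tb6, tb8, tb10, tb12, tb14, tb2, tb4, tb6, tb8, tb10, tb12, tb14, tb2, tb4, tb6, tb8, tb10, tb12, tb14, tb2, tb4, tb6, tb8, tb10, tb12, tb14, tb2, tb4, tb6, tb8, tb10, tb12, tb14]) 0 1095 = true := by decide +kernel

theorem rel38_1 : PR.allR (PR.fixF [tb2, tb4, tb6, tb8, tb10, tb12, tb14, tb2, tb4, tb6, tb8, tb10, tb12, tb14, tb2, tb4, tb6, tb8, tb10, tb12, tb14, tb2, tb4, tb6, tb8, tb10, tb12, tb14, tb2, tb4, tb6, tb8, tb10, tb12, tb14, tb2, tb4, tb6, tb8, tb10, tb12, tb14, tb2, tb4, tb6, tb8, tb10, tb12, tb14, tb2, tb4, tb6, tb8, tb10, tb12, tb14, tb2, tb4, tb6, tb8, tb10, tb12, tb14]) 1095 1095 = true := by decide +kernel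

theorem rel38_2 : PR.allR (PR.fixF [tb2, tb4, tb6, tb8, tb10, tb12, tb14, tb2, tb4, tb6, tb8, tb10, tb12, tb14, tb2, tb4, tb6, tb8, tb10, tb12, tb14, tb2, tb4, tb6, tb8, tb10, tb12, tb14, tb2, tb4, tb6, tb8, tb10, tb12, tb14, tb2, tb4, tb6, tb8, tb10, tb12, tb14, tb2, tb4, tb6, tb8, tb10, tb12, tb14, tb2, tb4, tb6, tb8, tb10, tb12, tb14, tb2, tb4, tb6, tb8, tb10, tb12, tb14]) 2190 1095 = true := by decide +kernel

theorem rel38_3 : PR.allR (PR.fixF [tb2, tb4, tb6, tb8, tb10, tb12, tb14, tb2, tb4, tb6, tb8, tb10, tb12, tb14, tb2, tb4, tb6, tb8, tb10, tb12, tb14, tb2, tb4, tb6, tb8, tb10, tb12, tb14, tb2, tb4, tb6, tb8, tb10, tb12, tb14, tb2, tb4, tb6, tb8, tb10, tb12, tb14, tb2, tb4, tb6, tb8, tb10, tb12, tb14, tb2, tb4, tb6, tb8, tb10, tb12, tb14, tb2, tb4, tb6, tb8, tb10, tb12, tb14]) 3285 225 = true := by decide +kernel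

theorem mp0_0_0 : PR.allR (PR.mapsF [tb0] 0 0) 0 1 = true := by decide +kernel

theorem mp0_1_0 : PR.allR (PR.mapsF [tb4] 0 0) 0 1 = true := by decide +kernel

theorem mp0_2_0 : PR.allR (PR.mapsF [tb6] 0 0) 0 1 = true := by decide +kernel

theorem mp0_3_0 : PR.allR (PR.mapsF [tb8] 0 0) 0 1 = true := by decide +kernel

theorem mp0_4_0 : PR.allR (PR.mapsF [tb10] 0 0) 0 1 = true := by decide +kernel

theorem mp0_5_0 : PR.allR (PR.mapsF [tb12] 0 0) 0 1 = true := by decide +kernel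

theorem mp0_6_0 : PR.allR (PR.mapsF [tb14] 0 0) 0 1 = true := by decide +kernel

theorem mp0_7_0 : PR.allR (PR.mapsF [tb16] 0 0) 0 1 = true := by decide +kernel

theorem mp0_8_0 : PR.allR (PR.mapsF [tb0, tb2, tb4, tb6, tb8, tb14, tb0, tb2, tb4, tb6, tb8, tb14, tb0, tb2, tb4, tb6, tb8, tb14, tb0, tb2, tb4, tb6, tb8, tb14, tb0, tb2, tb4, tb6, tb8, tb14] 0 0) 0 1 = true := by decide +kernel

theorem mp1_0_0 : PR.allR (PR.mapsF [tb0] 1 2816) 1 2816 = true := by decide +kernel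

theorem mp1_1_0 : PR.allR (PR.mapsF [tb4] 1 2816) 1 2816 = true := by decide +kernel

theorem mp1_2_0 : PR.allR (PR.mapsF [tb6] 1 2816) 1 2816 = true := by decide +kernel

theorem mp1_3_0 : PR.allR (PR.mapsF [tb8] 1 2816) 1 2816 = true := by decide +kernel

theorem mp1_4_0 : PR.allR (PR.mapsF [tb10] 1 2816) 1 2816 = true := by decide +kernel

theorem mp1_5_0 : PR.allR (PR.mapsF [tb12] 1 2816) 1 2816 = true := by decide +kernel

theorem mp1_6_0 : PR.allR (PR.mapsF [tb14] 1 2816) 1 2816 = true := by decide +kernel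

theorem mp1_7_0 : PR.allR (PR.mapsF [tb16] 1 2816) 1 2816 = true := by decide +kernel

theorem mp1_8_0 : PR.allR (PR.mapsF [tb0, tb2, tb4, tb6, tb8, tb14, tb0, tb2, tb4, tb6, tb8, tb14, tb0, tb2, tb4, tb6, tb8, tb14, tb0, tb2, tb4, tb6, tb8, tb14, tb0, tb2, tb4, tb6, tb8, tb14] 1 2816) 1 2301 = true := by decide +kernel

theorem mp1_8_1 : PR.allR (PR.mapsF [tb0, tb2, tb4, tb6, tb8, tb14, tb0, tb2, tb4, tb6, tb8, tb14, tb0, tb2, tb4, tb6, tb8, tb14, tb0, tb2, tb4, tb6, tb8, tb14, tb0, tb2, tb4, tb6, tb8, tb14] 1 2816) 2302 515 = true := by decide +kernel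

theorem tre1_0 : PR.allR (PR.treeF tbW [[tb0], [tb4], [tb6], [tb8], [tb10], [tb12], [tb14], [tb16], [tb0, tb2, tb4, tb6, tb8, tb14, tb0, tb2, tb4, tb6, tb8, tb14, tb0, tb2, tb4, tb6, tb8, tb14, tb0, tb2, tb4, tb6, tb8, tb14, tb0, tb2, tb4, tb6, tb8, tb14]] 1) 2 2157 = true := by decide +kernel

theorem tre1_1 : PR.allR (PR.treeF tbW [[tb0], [tb4], [tb6], [tb8], [tb10], [tb12], [tb14], [tb16], [tb0, tb2, tb4, tb6, tb8, tb14, tb0, tb2, tb4, tb6, tb8, tb14, tb0, tb2, tb4, tb6, tb8, tb14, tb0, tb2, tb4, tb6, tb8, tb14, tb0, tb2, tb4, tb6, tb8, tb14]] 1) 2159 658 = true := by decide +kernel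

theorem mp2_0_0 : PR.allR (PR.mapsF [tb0] 2817 3509) 2817 693 = true := by decide +kernel

theorem mp2_1_0 : PR.allR (PR.mapsF [tb4] 2817 3509) 2817 693 = true := by decide +kernel

theorem mp2_2_0 : PR.allR (PR.mapsF [tb6] 2817 3509) 2817 693 = true := by decide +kernel

theorem mp2_3_0 : PR.allR (PR.mapsF [tb8] 2817 3509) 2817 693 = true := by decide +kernel

theorem mp2_4_0 : PR.allR (PR.mapsF [tb10] 2817 3509) 2817 693 = true := by decide +kernel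

theorem mp2_5_0 : PR.allR (PR.mapsF [tb12] 2817 3509) 2817 693 = true := by decide +kernel

theorem mp2_6_0 : PR.allR (PR.mapsF [tb14] 2817 3509) 2817 693 = true := by decide +kernel

theorem mp2_7_0 : PR.allR (PR.mapsF [tb16] 2817 3509) 2817 693 = true := by decide +kernel

theorem mp2_8_0 : PR.allR (PR.mapsF [tb0, tb2, tb4, tb6, tb8, tb14, tb0, tb2, tb4, tb6, tb8, tb14, tb0, tb2, tb4, tb6, tb8, tb14, tb0, tb2, tb4, tb6, tb8, tb14, tb0, tb2, tb4, tb6, tb8, tb14] 2817 3509) 2817 693 = true := by decide +kernel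

theorem tre2_0 : PR.allR (PR.treeF tbW [[tb0], [tb4], [tb6], [tb8], [tb10], [tb12], [tb14], [tb16], [tb0, tb2, tb4, tb6, tb8, tb14, tb0, tb2, tb4, tb6, tb8, tb14, tb0, tb2, tb4, tb6, tb8, tb14, tb0, tb2, tb4, tb6, tb8, tb14, tb0, tb2, tb4, tb6, tb8, tb14]] 2817) 2818 692 = true := by decide +kernel

theorem root0 : PR.trace [] 0 = 0 := by decide +kernel

theorem root1 : PR.trace [tb2] 0 = 1 := by decide +kernel

theorem root2 : PR.trace [tb2, tb0, tb4, tb2] 0 = 2817 := by decide +kernel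

end Cfsg.Agent.Lib.Helper11.Fi22a
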