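import Cfsg.Agent.Lib.Helper11.Fi22bPT

set_option autoImplicit false
set_option maxRecDepth 1000000
set_option Elab.async false

namespace Cfsg.Agent.Lib.Helper11.Fi22b

open Cfsg.Agent.Lib.Helper11

theorem rng0_0 : PR.allR (PR.mapsF [tb0] 0 14079) 0 14080 = true := by decide +kernel

theorem sq0_0 : PR.allR (PR.fixF [tb0, tb0]) 0 14080 = true := by decide +kernel

theorem rng2_0 : PR.allR (PR.mapsF [tb2] 0 14079) 0 14080 = true := by decide +kernel

theorem sq2_0 : PR.allR (PR.fixF [tb2, tb2]) 0 14080 = true := by decide +kernel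

theorem rng4_0 : PR.allR (PR.mapsF [tb4] 0 14079) 0 14080 = true := by decide +kernel

theorem sq4_0 : PR.allR (PR.fixF [tb4, tb4]) 0 14080 = true := by decide +kernel

theorem rng6_0 : PR.allR (PR.mapsF [tb6] 0 14079) 0 14080 = true := by decide +kernel

theorem sq6_0 : PR.allR (PR.fixF [tb6, tb6]) 0 14080 = true := by decide +kernel

theorem rng8_0 : PR.allR (PR.mapsF [tb8] 0 14079) 0 14080 = true := by decide +kernel

theorem sq8_0 : PR.allR (PR.fixF [tb8, tb8]) 0 14080 = true := by decide +kernel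

theorem rng10_0 : PR.allR (PR.mapsF [tb10] 0 14079) 0 14080 = true := by decide +kernel

theorem sq10_0 : PR.allR (PR.fixF [tb10, tb10]) 0 14080 = true := by decide +kernel

theorem rng12_0 : PR.allR (PR.mapsF [tb12] 0 14079) 0 14080 = true := by decide +kernel

theorem sq12_0 : PR.allR (PR.fixF [tb12, tb12]) 0 14080 = true := by decide +kernel

theorem rng14_0 : PR.allR (PR.mapsF [tb14] 0 14079) 0 14080 = true := by decide +kernel

theorem sq14_0 : PR.allR (PR.fixF [tb14, tb14]) 0 14080 = true := by decide +kernel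

theorem rng16_0 : PR.allR (PR.mapsF [tb16] 0 14079) 0 14080 = true := by decide +kernel

theorem sq16_0 : PR.allR (PR.fixF [tb16, tb16]) 0 14080 = true := by decide +kernel

theorem rel0_0 : PR.allR (PR.fixF [tb0, tb2, tb0, tb2, tb0, tb2]) 0 5954 = true := by decide +kernel

theorem rel0_1 : PR.allR (PR.fixF [tb0, tb2, tb0, tb2, tb0, tb2]) 5954 5954 = true := by decide +kernel

theorem rel0_2 : PR.allR (PR.fixF [tb0, tb2, tb0, tb2, tb0, tb2]) 11908 2172 = true := by decide +kernel

theorem rel1_0 : PR.allR (PR.fixF [tb0, tb4, tb0, tb4]) 0 8931 = true := by decide +kernel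

theorem rel1_1 : PR.allR (PR.fixF [tb0, tb4, tb0, tb4]) 8931 5149 = true := by decide +kernel

theorem rel2_0 : PR.allR (PR.fixF [tb0, tb6, tb0, tb6]) 0 8931 = true := by decide +kernel

theorem rel2_1 : PR.allR (PR.fixF [tb0, tb6, tb0, tb6]) 8931 5149 = true := by decide +kernel

theorem rel3_0 : PR.allR (PR.fixF [tb0, tb8, tb0, tb8]) 0 8931 = true := by decide +kernel

theorem rel3_1 : PR.allR (PR.fixF [tb0, tb8, tb0, tb8]) 8931 5149 = true := by decide +kernel

theorem rel4_0 : PR.allR (PR.fixF [tb0, tb14, tb0, tb14]) 0 8931 = true := by decide +kernel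

theorem rel4_1 : PR.allR (PR.fixF [tb0, tb14, tb0, tb14]) 8931 5149 = true := by decide +kernel

theorem rel5_0 : PR.allR (PR.fixF [tb0, tb10, tb0, tb10]) 0 8931 = true := by decide +kernel

theorem rel5_1 : PR.allR (PR.fixF [tb0, tb10, tb0, tb10]) 8931 5149 = true := by decide +kernel

theorem rel6_0 : PR.allR (PR.fixF [tb0, tb12, tb0, tb12]) 0 8931 = true := by decide +kernel

theorem rel6_1 : PR.allR (PR.fixF [tb0, tb12, tb0, tb12]) 8931 5149 = true := by decide +kernel

theorem rel7_0 : PR.allR (PR.fixF [tb0, tb16, tb0, tb16]) 0 8931 = true := by decide +kernel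

theorem rel7_1 : PR.allR (PR.fixF [tb0, tb16, tb0, tb16]) 8931 5149 = true := by decide +kernel

theorem rel8_0 : PR.allR (PR.fixF [tb2, tb4, tb2, tb4, tb2, tb4]) 0 5954 = true := by decide +kernel

theorem rel8_1 : PR.allR (PR.fixF [tb2, tb4, tb2, tb4, tb2, tb4]) 5954 5954 = true := by decide +kernel

theorem rel8_2 : PR.allR (PR.fixF [tb2, tb4, tb2, tb4, tb2, tb4]) 11908 2172 = true := by decide +kernel

theorem rel9_0 : PR.allR (PR.fixF [tb2, tb6, tb2, tb6]) 0 8931 = true := by decide +kernel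

theorem rel9_1 : PR.allR (PR.fixF [tb2, tb6, tb2, tb6]) 8931 5149 = true := by decide +kernel

theorem rel10_0 : PR.allR (PR.fixF [tb2, tb8, tb2, tb8]) 0 8931 = true := by decide +kernel

theorem rel10_1 : PR.allR (PR.fixF [tb2, tb8, tb2, tb8]) 8931 5149 = true := by decide +kernel

theorem rel11_0 : PR.allR (PR.fixF [tb2, tb14, tb2, tb14]) 0 8931 = true := by decide +kernel

theorem rel11_1 : PR.allR (PR.fixF [tb2, tb14, tb2, tb14]) 8931 5149 = true := by decide +kernel

theorem rel12_0 : PR.allR (PR.fixF [tb2, tb10, tb2, tb10]) 0 8931 = true := by decide +kernel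

theorem rel12_1 : PR.allR (PR.fixF [tb2, tb10, tb2, tb10]) 8931 5149 = true := by decide +kernel

theorem rel13_0 : PR.allR (PR.fixF [tb2, tb12, tb2, tb12]) 0 8931 = true := by decide +kernel

theorem rel13_1 : PR.allR (PR.fixF [tb2, tb12, tb2, tb12]) 8931 5149 = true := by decide +kernel

theorem rel14_0 : PR.allR (PR.fixF [tb2, tb16, tb2, tb16]) 0 8931 = true := by decide +kernel

theorem rel14_1 : PR.allR (PR.fixF [tb2, tb16, tb2, tb16]) 8931 5149 = true := by decide +kernel

theorem rel15_0 : PR.allR (PR.fixF [tb4, tb6, tb4, tb6, tb4, tb6]) 0 5954 = true := by decide +kernel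

theorem rel15_1 : PR.allR (PR.fixF [tb4, tb6, tb4, tb6, tb4, tb6]) 5954 5954 = true := by decide +kernel

theorem rel15_2 : PR.allR (PR.fixF [tb4, tb6, tb4, tb6, tb4, tb6]) 11908 2172 = true := by decide +kernel

theorem rel16_0 : PR.allR (PR.fixF [tb4, tb8, tb4, tb8]) 0 8931 = true := by decide +kernel

theorem rel16_1 : PR.allR (PR.fixF [tb4, tb8, tb4, tb8]) 8931 5149 = true := by decide +kernel

theorem rel17_0 : PR.allR (PR.fixF [tb4, tb14, tb4, tb14]) 0 8931 = true := by decide +kernel

theorem rel17_1 : PR.allR (PR.fixF [tb4, tb14, tb4, tb14]) 8931 5149 = true := by decide +kernel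

theorem rel18_0 : PR.allR (PR.fixF [tb4, tb10, tb4, tb10]) 0 8931 = true := by decide +kernel

theorem rel18_1 : PR.allR (PR.fixF [tb4, tb10, tb4, tb10]) 8931 5149 = true := by decide +kernel

theorem rel19_0 : PR.allR (PR.fixF [tb4, tb12, tb4, tb12]) 0 8931 = true := by decide +kernel

theorem rel19_1 : PR.allR (PR.fixF [tb4, tb12, tb4, tb12]) 8931 5149 = true := by decide +kernel

theorem rel20_0 : PR.allR (PR.fixF [tb4, tb16, tb4, tb16]) 0 8931 = true := by decide +kernel

theorem rel20_1 : PR.allR (PR.fixF [tb4, tb16, tb4, tb16]) 8931 5149 = true := by decide +kernel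

theorem rel21_0 : PR.allR (PR.fixF [tb6, tb8, tb6, tb8, tb6, tb8]) 0 5954 = true := by decide +kernel

theorem rel21_1 : PR.allR (PR.fixF [tb6, tb8, tb6, tb8, tb6, tb8]) 5954 5954 = true := by decide +kernel

theorem rel21_2 : PR.allR (PR.fixF [tb6, tb8, tb6, tb8, tb6, tb8]) 11908 2172 = true := by decide +kernel

theorem rel22_0 : PR.allR (PR.fixF [tb6, tb14, tb6, tb14, tb6, tb14]) 0 5954 = true := by decide +kernel

theorem rel22_1 : PR.allR (PR.fixF [tb6, tb14, tb6, tb14, tb6, tb14]) 5954 5954 = true := by decide +kernel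

theorem rel22_2 : PR.allR (PR.fixF [tb6, tb14, tb6, tb14, tb6, tb14]) 11908 2172 = true := by decide +kernel

theorem rel23_0 : PR.allR (PR.fixF [tb6, tb10, tb6, tb10]) 0 8931 = true := by decide +kernel

theorem rel23_1 : PR.allR (PR.fixF [tb6, tb10, tb6, tb10]) 8931 5149 = true := by decide +kernel

theorem rel24_0 : PR.allR (PR.fixF [tb6, tb12, tb6, tb12]) 0 8931 = true := by decide +kernel

theorem rel24_1 : PR.allR (PR.fixF [tb6, tb12, tb6, tb12]) 8931 5149 = true := by decide +kernel

theorem rel25_0 : PR.allR (PR.fixF [tb6, tb16, tb6, tb16]) 0 8931 = true := by decide +kernel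

theorem rel25_1 : PR.allR (PR.fixF [tb6, tb16, tb6, tb16]) 8931 5149 = true := by decide +kernel

theorem rel26_0 : PR.allR (PR.fixF [tb8, tb14, tb8, tb14]) 0 8931 = true := by decide +kernel

end Cfsg.Agent.Lib.Helper11.Fi22b
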