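import Cfsg.Agent.Lib.Helper11.Fi22bPT

set_option autoImplicit false
set_option maxRecDepth 1000000
set_option Elab.async false

namespace Cfsg.Agent.Lib.Helper11.Fi22b

open Cfsg.Agent.Lib.Helper11

theorem rel37_4 : PR.allR (PR.fixF [tb0, tb2, tb4, tb6, tb8, tb10, tb14, tb0, tb2, tb4, tb6, tb8, tb10, tb14, tb0, tb2, tb4, tb6, tb8, tb10, tb14, tb0, tb2, tb4, tb6, tb8, tb10, tb14, tb0, tb2, tb4, tb6, tb8, tb10, tb14, tb0, tb2, tb4, tb6, tb8, tb10, tb14, tb0, tb2, tb4, tb6, tb8, tb10, tb14, tb0, tb2, tb4, tb6, tb8, tb10, tb14, tb0, tb2, tb4, tb6, tb8, tb10, tb14]) 2268 567 = true := by decide +kernel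

theorem rel37_5 : PR.allR (PR.fixF [tb0, tb2, tb4, tb6, tb8, tb10, tb14, tb0, tb2, tb4, tb6, tb8, tb10, tb14, tb0, tb2, tb4, tb6, tb8, tb10, tb14, tb0, tb2, tb4, tb6, tb8, tb10, tb14, tb0, tb2, tb4, tb6, tb8, tb10, tb14, tb0, tb2, tb4, tb6, tb8, tb10, tb14, tb0, tb2, tb4, tb6, tb8, tb10, tb14, tb0, tb2, tb4, tb6, tb8, tb10, tb14, tb0, tb2, tb4, tb6, tb8, tb10, tb14]) 2835 567 = true := by decide +kernel

theorem rel37_6 : PR.allR (PR.fixF [tb0, tb2, tb4, tb6, tb8, tb10, tb14, tb0, tb2, tb4, tb6, tb8, tb10, tb14, tb0, tb2, tb4, tb6, tb8, tb10, tb14, tb0, tb2, tb4, tb6, tb8, tb10, tb14, tb0, tb2, tb4, tb6, tb8, tb10, tb14, tb0, tb2, tb4, tb6, tb8, tb10, tb14, tb0, tb2, tb4, tb6, tb8, tb10, tb14, tb0, tb2, tb4, tb6, tb8, tb10, tb14, tb0, tb2, tb4, tb6, tb8, tb10, tb14]) 3402 567 = true := by decide +kernel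

theorem rel37_7 : PR.allR (PR.fixF [tb0, tb2, tb4, tb6, tb8, tb10, tb14, tb0, tb2, tb4, tb6, tb8, tb10, tb14, tb0, tb2, tb4, tb6, tb8, tb10, tb14, tb0, tb2, tb4, tb6, tb8, tb10, tb14, tb0, tb2, tb4, tb6, tb8, tb10, tb14, tb0, tb2, tb4, tb6, tb8, tb10, tb14, tb0, tb2, tb4, tb6, tb8, tb10, tb14, tb0, tb2, tb4, tb6, tb8, tb10, tb14, tb0, tb2, tb4, tb6, tb8, tb10, tb14]) 3969 567 = true := by decide +kernel

theorem rel37_8 : PR.allR (PR.fixF [tb0, tb2, tb4, tb6, tb8, tb10, tb14, tb0, tb2, tb4, tb6, tb8, tb10, tb14, tb0, tb2, tb4, tb6, tb8, tb10, tb14, tb0, tb2, tb4, tb6, tb8, tb10, tb14, tb0, tb2, tb4, tb6, tb8, tb10, tb14, tb0, tb2, tb4, tb6, tb8, tb10, tb14, tb0, tb2, tb4, tb6, tb8, tb10, tb14, tb0, tb2, tb4, tb6, tb8, tb10, tb14, tb0, tb2, tb4, tb6, tb8, tb10, tb14]) 4536 567 = true := by decide +kernel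

theorem rel37_9 : PR.allR (PR.fixF [tb0, tb2, tb4, tb6, tb8, tb10, tb14, tb0, tb2, tb4, tb6, tb8, tb10, tb14, tb0, tb2, tb4, tb6, tb8, tb10, tb14, tb0, tb2, tb4, tb6, tb8, tb10, tb14, tb0, tb2, tb4, tb6, tb8, tb10, tb14, tb0, tb2, tb4, tb6, tb8, tb10, tb14, tb0, tb2, tb4, tb6, tb8, tb10, tb14, tb0, tb2, tb4, tb6, tb8, tb10, tb14, tb0, tb2, tb4, tb6, tb8, tb10, tb14]) 5103 567 = true := by decide +kernel

theorem rel37_10 : PR.allR (PR.fixF [tb0, tb2, tb4, tb6, tb8, tb10, tb14, tb0, tb2, tb4, tb6, tb8, tb10, tb14, tb0, tb2, tb4, tb6, tb8, tb10, tb14, tb0, tb2, tb4, tb6, tb8, tb10, tb14, tb0, tb2, tb4, tb6, tb8, tb10, tb14, tb0, tb2, tb4, tb6, tb8, tb10, tb14, tb0, tb2, tb4, tb6, tb8, tb10, tb14, tb0, tb2, tb4, tb6, tb8, tb10, tb14, tb0, tb2, tb4, tb6, tb8, tb10, tb14]) 5670 567 = true := by decide +kernel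

theorem rel37_11 : PR.allR (PR.fixF [tb0, tb2, tb4, tb6, tb8, tb10, tb14, tb0, tb2, tb4, tb6, tb8, tb10, tb14, tb0, tb2, tb4, tb6, tb8, tb10, tb14, tb0, tb2, tb4, tb6, tb8, tb10, tb14, tb0, tb2, tb4, tb6, tb8, tb10, tb14, tb0, tb2, tb4, tb6, tb8, tb10, tb14, tb0, tb2, tb4, tb6, tb8, tb10, tb14, tb0, tb2, tb4, tb6, tb8, tb10, tb14, tb0, tb2, tb4, tb6, tb8, tb10, tb14]) 6237 567 = true := by decide +kernel

theorem rel37_12 : PR.allR (PR.fixF [tb0, tb2, tb4, tb6, tb8, tb10, tb14, tb0, tb2, tb4, tb6, tb8, tb10, tb14, tb0, tb2, tb4, tb6, tb8, tb10, tb14, tb0, tb2, tb4, tb6, tb8, tb10, tb14, tb0, tb2, tb4, tb6, tb8, tb10, tb14, tb0, tb2, tb4, tb6, tb8, tb10, tb14, tb0, tb2, tb4, tb6, tb8, tb10, tb14, tb0, tb2, tb4, tb6, tb8, tb10, tb14, tb0, tb2, tb4, tb6, tb8, tb10, tb14]) 6804 567 = true := by decide +kernel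

theorem rel37_13 : PR.allR (PR.fixF [tb0, tb2, tb4, tb6, tb8, tb10, tb14, tb0, tb2, tb4, tb6, tb8, tb10, tb14, tb0, tb2, tb4, tb6, tb8, tb10, tb14, tb0, tb2, tb4, tb6, tb8, tb10, tb14, tb0, tb2, tb4, tb6, tb8, tb10, tb14, tb0, tb2, tb4, tb6, tb8, tb10, tb14, tb0, tb2, tb4, tb6, tb8, tb10, tb14, tb0, tb2, tb4, tb6, tb8, tb10, tb14, tb0, tb2, tb4, tb6, tb8, tb10, tb14]) 7371 567 = true := by decide +kernel

theorem rel37_14 : PR.allR (PR.fixF [tb0, tb2, tb4, tb6, tb8, tb10, tb14, tb0, tb2, tb4, tb6, tb8, tb10, tb14, tb0, tb2, tb4, tb6, tb8, tb10, tb14, tb0, tb2, tb4, tb6, tb8, tb10, tb14, tb0, tb2, tb4, tb6, tb8, tb10, tb14, tb0, tb2, tb4, tb6, tb8, tb10, tb14, tb0, tb2, tb4, tb6, tb8, tb10, tb14, tb0, tb2, tb4, tb6, tb8, tb10, tb14, tb0, tb2, tb4, tb6, tb8, tb10, tb14]) 7938 567 = true := by decide +kernel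

theorem rel37_15 : PR.allR (PR.fixF [tb0, tb2, tb4, tb6, tb8, tb10, tb14, tb0, tb2, tb4, tb6, tb8, tb10, tb14, tb0, tb2, tb4, tb6, tb8, tb10, tb14, tb0, tb2, tb4, tb6, tb8, tb10, tb14, tb0, tb2, tb4, tb6, tb8, tb10, tb14, tb0, tb2, tb4, tb6, tb8, tb10, tb14, tb0, tb2, tb4, tb6, tb8, tb10, tb14, tb0, tb2, tb4, tb6, tb8, tb10, tb14, tb0, tb2, tb4, tb6, tb8, tb10, tb14]) 8505 567 = true := by decide +kernel

theorem rel37_16 : PR.allR (PR.fixF [tb0, tb2, tb4, tb6, tb8, tb10, tb14, tb0, tb2, tb4, tb6, tb8, tb10, tb14, tb0, tb2, tb4, tb6, tb8, tb10, tb14, tb0, tb2, tb4, tb6, tb8, tb10, tb14, tb0, tb2, tb4, tb6, tb8, tb10, tb14, tb0, tb2, tb4, tb6, tb8, tb10, tb14, tb0, tb2, tb4, tb6, tb8, tb10, tb14, tb0, tb2, tb4, tb6, tb8, tb10, tb14, tb0, tb2, tb4, tb6, tb8, tb10, tb14]) 9072 567 = true := by decide +kernel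

theorem rel37_17 : PR.allR (PR.fixF [tb0, tb2, tb4, tb6, tb8, tb10, tb14, tb0, tb2, tb4, tb6, tb8, tb10, tb14, tb0, tb2, tb4, tb6, tb8, tb10, tb14, tb0, tb2, tb4, tb6, tb8, tb10, tb14, tb0, tb2, tb4, tb6, tb8, tb10, tb14, tb0, tb2, tb4, tb6, tb8, tb10, tb14, tb0, tb2, tb4, tb6, tb8, tb10, tb14, tb0, tb2, tb4, tb6, tb8, tb10, tb14, tb0, tb2, tb4, tb6, tb8, tb10, tb14]) 9639 567 = true := by decide +kernel

theorem rel37_18 : PR.allR (PR.fixF [tb0, tb2, tb4, tb6, tb8, tb10, tb14, tb0, tb2, tb4, tb6, tb8, tb10, tb14, tb0, tb2, tb4, tb6, tb8, tb10, tb14, tb0, tb2, tb4, tb6, tb8, tb10, tb14, tb0, tb2, tb4, tb6, tb8, tb10, tb14, tb0, tb2, tb4, tb6, tb8, tb10, tb14, tb0, tb2, tb4, tb6, tb8, tb10, tb14, tb0, tb2, tb4, tb6, tb8, tb10, tb14, tb0, tb2, tb4, tb6, tb8, tb10, tb14]) 10206 567 = true := by decide +kernel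

theorem rel37_19 : PR.allR (PR.fixF [tb0, tb2, tb4, tb6, tb8, tb10, tb14, tb0, tb2, tb4, tb6, tb8, tb10, tb14, tb0, tb2, tb4, tb6, tb8, tb10, tb14, tb0, tb2, tb4, tb6, tb8, tb10, tb14, tb0, tb2, tb4, tb6, tb8, tb10, tb14, tb0, tb2, tb4, tb6, tb8, tb10, tb14, tb0, tb2, tb4, tb6, tb8, tb10, tb14, tb0, tb2, tb4, tb6, tb8, tb10, tb14, tb0, tb2, tb4, tb6, tb8, tb10, tb14]) 10773 567 = true := by decide +kernel

theorem rel37_20 : PR.allR (PR.fixF [tb0, tb2, tb4, tb6, tb8, tb10, tb14, tb0, tb2, tb4, tb6, tb8, tb10, tb14, tb0, tb2, tb4, tb6, tb8, tb10, tb14, tb0, tb2, tb4, tb6, tb8, tb10, tb14, tb0, tb2, tb4, tb6, tb8, tb10, tb14, tb0, tb2, tb4, tb6, tb8, tb10, tb14, tb0, tb2, tb4, tb6, tb8, tb10, tb14, tb0, tb2, tb4, tb6, tb8, tb10, tb14, tb0, tb2, tb4, tb6, tb8, tb10, tb14]) 11340 567 = true := by decide +kernel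

theorem rel37_21 : PR.allR (PR.fixF [tb0, tb2, tb4, tb6, tb8, tb10, tb14, tb0, tb2, tb4, tb6, tb8, tb10, tb14, tb0, tb2, tb4, tb6, tb8, tb10, tb14, tb0, tb2, tb4, tb6, tb8, tb10, tb14, tb0, tb2, tb4, tb6, tb8, tb10, tb14, tb0, tb2, tb4, tb6, tb8, tb10, tb14, tb0, tb2, tb4, tb6, tb8, tb10, tb14, tb0, tb2, tb4, tb6, tb8, tb10, tb14, tb0, tb2, tb4, tb6, tb8, tb10, tb14]) 11907 567 = true := by decide +kernel

theorem rel37_22 : PR.allR (PR.fixF [tb0, tb2, tb4, tb6, tb8, tb10, tb14, tb0, tb2, tb4, tb6, tb8, tb10, tb14, tb0, tb2, tb4, tb6, tb8, tb10, tb14, tb0, tb2, tb4, tb6, tb8, tb10, tb14, tb0, tb2, tb4, tb6, tb8, tb10, tb14, tb0, tb2, tb4, tb6, tb8, tb10, tb14, tb0, tb2, tb4, tb6, tb8, tb10, tb14, tb0, tb2, tb4, tb6, tb8, tb10, tb14, tb0, tb2, tb4, tb6, tb8, tb10, tb14]) 12474 567 = true := by decide +kernel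

theorem rel37_23 : PR.allR (PR.fixF [tb0, tb2, tb4, tb6, tb8, tb10, tb14, tb0, tb2, tb4, tb6, tb8, tb10, tb14, tb0, tb2, tb4, tb6, tb8, tb10, tb14, tb0, tb2, tb4, tb6, tb8, tb10, tb14, tb0, tb2, tb4, tb6, tb8, tb10, tb14, tb0, tb2, tb4, tb6, tb8, tb10, tb14, tb0, tb2, tb4, tb6, tb8, tb10, tb14, tb0, tb2, tb4, tb6, tb8, tb10, tb14, tb0, tb2, tb4, tb6, tb8, tb10, tb14]) 13041 567 = true := by decide +kernel

theorem rel37_24 : PR.allR (PR.fixF [tb0, tb2, tb4, tb6, tb8, tb10, tb14, tb0, tb2, tb4, tb6, tb8, tb10, tb14, tb0, tb2, tb4, tb6, tb8, tb10, tb14, tb0, tb2, tb4, tb6, tb8, tb10, tb14, tb0, tb2, tb4, tb6, tb8, tb10, tb14, tb0, tb2, tb4, tb6, tb8, tb10, tb14, tb0, tb2, tb4, tb6, tb8, tb10, tb14, tb0, tb2, tb4, tb6, tb8, tb10, tb14, tb0, tb2, tb4, tb6, tb8, tb10, tb14]) 13608 472 = true := by decide +kernel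

theorem rel38_0 : PR.allR (PR.fixF [tb2, tb4, tb6, tb8, tb10, tb12, tb14, tb2, tb4, tb6, tb8, tb10, tb12, tb14, tb2, tb4, tb6, tb8, tb10, tb12, tb14, tb2, tb4, tb6, tb8, tb10, tb12, tb14, tb2, tb4, tb6, tb8, tb10, tb12, tb14, tb2, tb4, tb6, tb8, tb10, tb12, tb14, tb2, tb4, tb6, tb8, tb10, tb12, tb14, tb2, tb4, tb6, tb8, tb10, tb12, tb14, tb2, tb4, tb6, tb8, tb10, tb12, tb14]) 0 567 = true := by decide +kernel

theorem rel38_1 : PR.allR (PR.fixF [tb2, tb4, tb6, tb8, tb10, tb12, tb14, tb2, tb4, tb6, tb8, tb10, tb12, tb14, tb2, tb4, tb6, tb8, tb10, tb12, tb14, tb2, tb4, tb6, tb8, tb10, tb12, tb14, tb2, tb4, tb6, tb8, tb10, tb12, tb14, tb2, tb4, tb6, tb8, tb10, tb12, tb14, tb2, tb4, tb6, tb8, tb10, tb12, tb14, tb2, tb4, tb6, tb8, tb10, tb12, tb14, tb2, tb4, tb6, tb8, tb10, tb12, tb14]) 567 567 = true := by decide +kernel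

theorem rel38_2 : PR.allR (PR.fixF [tb2, tb4, tb6, tb8, tb10, tb12, tb14, tb2, tb4, tb6, tb8, tb10, tb12, tb14, tb2, tb4, tb6, tb8, tb10, tb12, tb14, tb2, tb4, tb6, tb8, tb10, tb12, tb14, tb2, tb4, tb6, tb8, tb10, tb12, tb14, tb2, tb4, tb6, tb8, tb10, tb12, tb14, tb2, tb4, tb6, tb8, tb10, tb12, tb14, tb2, tb4, tb6, tb8, tb10, tb12, tb14, tb2, tb4, tb6, tb8, tb10, tb12, tb14]) 1134 567 = true := by decide +kernel

theorem rel38_3 : PR.allR (PR.fixF [tb2, tb4, tb6, tb8, tb10, tb12, tb14, tb2, tb4, tb6, tb8, tb10, tb12, tb14, tb2, tb4, tb6, tb8, tb10, tb12, tb14, tb2, tb4, tb6, tb8, tb10, tb12, tb14, tb2, tb4, tb6, tb8, tb10, tb12, tb14, tb2, tb4, tb6, tb8, tb10, tb12, tb14, tb2, tb4, tb6, tb8, tb10, tb12, tb14, tb2, tb4, tb6, tb8, tb10, tb12, tb14, tb2, tb4, tb6, tb8, tb10, tb12, tb14]) 1701 567 = true := by decide +kernel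

theorem rel38_4 : PR.allR (PR.fixF [tb2, tb4, tb6, tb8, tb10, tb12, tb14, tb2, tb4, tb6, tb8, tb10, tb12, tb14, tb2, tb4, tb6, tb8, tb10, tb12, tb14, tb2, tb4, tb6, tb8, tb10, tb12, tb14, tb2, tb4, tb6, tb8, tb10, tb12, tb14, tb2, tb4, tb6, tb8, tb10, tb12, tb14, tb2, tb4, tb6, tb8, tb10, tb12, tb14, tb2, tb4, tb6, tb8, tb10, tb12, tb14, tb2, tb4, tb6, tb8, tb10, tb12, tb14]) 2268 567 = true := by decide +kernel

theorem rel38_5 : PR.allR (PR.fixF [tb2, tb4, tb6, tb8, tb10, tb12, tb14, tb2, tb4, tb6, tb8, tb10, tb12, tb14, tb2, tb4, tb6, tb8, tb10, tb12, tb14, tb2, tb4, tb6, tb8, tb10, tb12, tb14, tb2, tb4, tb6, tb8, tb10, tb12, tb14, tb2, tb4, tb6, tb8, tb10, tb12, tb14, tb2, tb4, tb6, tb8, tb10, tb12, tb14, tb2, tb4, tb6, tb8, tb10, tb12, tb14, tb2, tb4, tb6, tb8, tb10, tb12, tb14]) 2835 567 = true := by decide +kernel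

theorem rel38_6 : PR.allR (PR.fixF [tb2, tb4, tb6, tb8, tb10, tb12, tb14, tb2, tb4, tb6, tb8, tb10, tb12, tb14, tb2, tb4, tb6, tb8, tb10, tb12, tb14, tb2, tb4, tb6, tb8, tb10, tb12, tb14, tb2, tb4, tb6, tb8, tb10, tb12, tb14, tb2, tb4, tb6, tb8, tb10, tb12, tb14, tb2, tb4, tb6, tb8, tb10, tb12, tb14, tb2, tb4, tb6, tb8, tb10, tb12, tb14, tb2, tb4, tb6, tb8, tb10, tb12, tb14]) 3402 567 = true := by decide +kernel

theorem rel38_7 : PR.allR (PR.fixF [tb2, tb4, tb6, tb8, tb10, tb12, tb14, tb2, tb4, tb6, tb8, tb10, tb12, tb14, tb2, tb4, tb6, tb8, tb10, tb12, tb14, tb2, tb4, tb6, tb8, tb10, tb12, tb14, tb2, tb4, tb6, tb8, tb10, tb12, tb14, tb2, tb4, tb6, tb8, tb10, tb12, tb14, tb2, tb4, tb6, tb8, tb10, tb12, tb14, tb2, tb4, tb6, tb8, tb10, tb12, tb14, tb2, tb4, tb6, tb8, tb10, tb12, tb14]) 3969 567 = true := by decide +kernel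

theorem rel38_8 : PR.allR (PR.fixF [tb2, tb4, tb6, tb8, tb10, tb12, tb14, tb2, tb4, tb6, tb8, tb10, tb12, tb14, tb2, tb4, tb6, tb8, tb10, tb12, tb14, tb2, tb4, tb6, tb8, tb10, tb12, tb14, tb2, tb4, tb6, tb8, tb10, tb12, tb14, tb2, tb4, tb6, tb8, tb10, tb12, tb14, tb2, tb4, tb6, tb8, tb10, tb12, tb14, tb2, tb4, tb6, tb8, tb10, tb12, tb14, tb2, tb4, tb6, tb8, tb10, tb12, tb14]) 4536 567 = true := by decide +kernel

theorem rel38_9 : PR.allR (PR.fixF [tb2, tb4, tb6, tb8, tb10, tb12, tb14, tb2, tb4, tb6, tb8, tb10, tb12, tb14, tb2, tb4, tb6, tb8, tb10, tb12, tb14, tb2, tb4, tb6, tb8, tb10, tb12, tb14, tb2, tb4, tb6, tb8, tb10, tb12, tb14, tb2, tb4, tb6, tb8, tb10, tb12, tb14, tb2, tb4, tb6, tb8, tb10, tb12, tb14, tb2, tb4, tb6, tb8, tb10, tb12, tb14, tb2, tb4, tb6, tb8, tb10, tb12, tb14]) 5103 567 = true := by decide +kernel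

theorem rel38_10 : PR.allR (PR.fixF [tb2, tb4, tb6, tb8, tb10, tb12, tb14, tb2, tb4, tb6, tb8, tb10, tb12, tb14, tb2, tb4, tb6, tb8, tb10, tb12, tb14, tb2, tb4, tb6, tb8, tb10, tb12, tb14, tb2, tb4, tb6, tb8, tb10, tb12, tb14, tb2, tb4, tb6, tb8, tb10, tb12, tb14, tb2, tb4, tb6, tb8, tb10, tb12, tb14, tb2, tb4, tb6, tb8, tb10, tb12, tb14, tb2, tb4, tb6, tb8, tb10, tb12, tb14]) 5670 567 = true := by decide +kernel

theorem rel38_11 : PR.allR (PR.fixF [tb2, tb4, tb6, tb8, tb10, tb12, tb14, tb2, tb4, tb6, tb8, tb10, tb12, tb14, tb2, tb4, tb6, tb8, tb10, tb12, tb14, tb2, tb4, tb6, tb8, tb10, tb12, tb14, tb2, tb4, tb6, tb8, tb10, tb12, tb14, tb2, tb4, tb6, tb8, tb10, tb12, tb14, tb2, tb4, tb6, tb8, tb10, tb12, tb14, tb2, tb4, tb6, tb8, tb10, tb12, tb14, tb2, tb4, tb6, tb8, tb10, tb12, tb14]) 6237 567 = true := by decide +kernel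

theorem rel38_12 : PR.allR (PR.fixF [tb2, tb4, tb6, tb8, tb10, tb12, tb14, tb2, tb4, tb6, tb8, tb10, tb12, tb14, tb2, tb4, tb6, tb8, tb10, tb12, tb14, tb2, tb4, tb6, tb8, tb10, tb12, tb14, tb2, tb4, tb6, tb8, tb10, tb12, tb14, tb2, tb4, tb6, tb8, tb10, tb12, tb14, tb2, tb4, tb6, tb8, tb10, tb12, tb14, tb2, tb4, tb6, tb8, tb10, tb12, tb14, tb2, tb4, tb6, tb8, tb10, tb12, tb14]) 6804 567 = true := by decide +kernel

theorem rel38_13 : PR.allR (PR.fixF [tb2, tb4, tb6, tb8, tb10, tb12, tb14, tb2, tb4, tb6, tb8, tb10, tb12, tb14, tb2, tb4, tb6, tb8, tb10, tb12, tb14, tb2, tb4, tb6, tb8, tb10, tb12, tb14, tb2, tb4, tb6, tb8, tb10, tb12, tb14, tb2, tb4, tb6, tb8, tb10, tb12, tb14, tb2, tb4, tb6, tb8, tb10, tb12, tb14, tb2, tb4, tb6, tb8, tb10, tb12, tb14, tb2, tb4, tb6, tb8, tb10, tb12, tb14]) 7371 567 = true := by decide +kernel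

theorem rel38_14 : PR.allR (PR.fixF [tb2, tb4, tb6, tb8, tb10, tb12, tb14, tb2, tb4, tb6, tb8, tb10, tb12, tb14, tb2, tb4, tb6, tb8, tb10, tb12, tb14, tb2, tb4, tb6, tb8, tb10, tb12, tb14, tb2, tb4, tb6, tb8, tb10, tb12, tb14, tb2, tb4, tb6, tb8, tb10, tb12, tb14, tb2, tb4, tb6, tb8, tb10, tb12, tb14, tb2, tb4, tb6, tb8, tb10, tb12, tb14, tb2, tb4, tb6, tb8, tb10, tb12, tb14]) 7938 567 = true := by decide +kernel

theorem rel38_15 : PR.allR (PR.fixF [tb2, tb4, tb6, tb8, tb10, tb12, tb14, tb2, tb4, tb6, tb8, tb10, tb12, tb14, tb2, tb4, tb6, tb8, tb10, tb12, tb14, tb2, tb4, tb6, tb8, tb10, tb12, tb14, tb2, tb4, tb6, tb8, tb10, tb12, tb14, tb2, tb4, tb6, tb8, tb10, tb12, tb14, tb2, tb4, tb6, tb8, tb10, tb12, tb14, tb2, tb4, tb6, tb8, tb10, tb12, tb14, tb2, tb4, tb6, tb8, tb10, tb12, tb14]) 8505 567 = true := by decide +kernel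

theorem rel38_16 : PR.allR (PR.fixF [tb2, tb4, tb6, tb8, tb10, tb12, tb14, tb2, tb4, tb6, tb8, tb10, tb12, tb14, tb2, tb4, tb6, tb8, tb10, tb12, tb14, tb2, tb4, tb6, tb8, tb10, tb12, tb14, tb2, tb4, tb6, tb8, tb10, tb12, tb14, tb2, tb4, tb6, tb8, tb10, tb12, tb14, tb2, tb4, tb6, tb8, tb10, tb12, tb14, tb2, tb4, tb6, tb8, tb10, tb12, tb14, tb2, tb4, tb6, tb8, tb10, tb12, tb14]) 9072 567 = true := by decide +kernel

theorem rel38_17 : PR.allR (PR.fixF [tb2, tb4, tb6, tb8, tb10, tb12, tb14, tb2, tb4, tb6, tb8, tb10, tb12, tb14, tb2, tb4, tb6, tb8, tb10, tb12, tb14, tb2, tb4, tb6, tb8, tb10, tb12, tb14, tb2, tb4, tb6, tb8, tb10, tb12, tb14, tb2, tb4, tb6, tb8, tb10, tb12, tb14, tb2, tb4, tb6, tb8, tb10, tb12, tb14, tb2, tb4, tb6, tb8, tb10, tb12, tb14, tb2, tb4, tb6, tb8, tb10, tb12, tb14]) 9639 567 = true := by decide +kernel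

theorem rel38_18 : PR.allR (PR.fixF [tb2, tb4, tb6, tb8, tb10, tb12, tb14, tb2, tb4, tb6, tb8, tb10, tb12, tb14, tb2, tb4, tb6, tb8, tb10, tb12, tb14, tb2, tb4, tb6, tb8, tb10, tb12, tb14, tb2, tb4, tb6, tb8, tb10, tb12, tb14, tb2, tb4, tb6, tb8, tb10, tb12, tb14, tb2, tb4, tb6, tb8, tb10, tb12, tb14, tb2, tb4, tb6, tb8, tb10, tb12, tb14, tb2, tb4, tb6, tb8, tb10, tb12, tb14]) 10206 567 = true := by decide +kernel

theorem rel38_19 : PR.allR (PR.fixF [tb2, tb4, tb6, tb8, tb10, tb12, tb14, tb2, tb4, tb6, tb8, tb10, tb12, tb14, tb2, tb4, tb6, tb8, tb10, tb12, tb14, tb2, tb4, tb6, tb8, tb10, tb12, tb14, tb2, tb4, tb6, tb8, tb10, tb12, tb14, tb2, tb4, tb6, tb8, tb10, tb12, tb14, tb2, tb4, tb6, tb8, tb10, tb12, tb14, tb2, tb4, tb6, tb8, tb10, tb12, tb14, tb2, tb4, tb6, tb8, tb10, tb12, tb14]) 10773 567 = true := by decide +kernel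

theorem rel38_20 : PR.allR (PR.fixF [tb2, tb4, tb6, tb8, tb10, tb12, tb14, tb2, tb4, tb6, tb8, tb10, tb12, tb14, tb2, tb4, tb6, tb8, tb10, tb12, tb14, tb2, tb4, tb6, tb8, tb10, tb12, tb14, tb2, tb4, tb6, tb8, tb10, tb12, tb14, tb2, tb4, tb6, tb8, tb10, tb12, tb14, tb2, tb4, tb6, tb8, tb10, tb12, tb14, tb2, tb4, tb6, tb8, tb10, tb12, tb14, tb2, tb4, tb6, tb8, tb10, tb12, tb14]) 11340 567 = true := by decide +kernel

theorem rel38_21 : PR.allR (PR.fixF [tb2, tb4, tb6, tb8, tb10, tb12, tb14, tb2, tb4, tb6, tb8, tb10, tb12, tb14, tb2, tb4, tb6, tb8, tb10, tb12, tb14, tb2, tb4, tb6, tb8, tb10, tb12, tb14, tb2, tb4, tb6, tb8, tb10, tb12, tb14, tb2, tb4, tb6, tb8, tb10, tb12, tb14, tb2, tb4, tb6, tb8, tb10, tb12, tb14, tb2, tb4, tb6, tb8, tb10, tb12, tb14, tb2, tb4, tb6, tb8, tb10, tb12, tb14]) 11907 567 = true := by decide +kernel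

theorem rel38_22 : PR.allR (PR.fixF [tb2, tb4, tb6, tb8, tb10, tb12, tb14, tb2, tb4, tb6, tb8, tb10, tb12, tb14, tb2, tb4, tb6, tb8, tb10, tb12, tb14, tb2, tb4, tb6, tb8, tb10, tb12, tb14, tb2, tb4, tb6, tb8, tb10, tb12, tb14, tb2, tb4, tb6, tb8, tb10, tb12, tb14, tb2, tb4, tb6, tb8, tb10, tb12, tb14, tb2, tb4, tb6, tb8, tb10, tb12, tb14, tb2, tb4, tb6, tb8, tb10, tb12, tb14]) 12474 567 = true := by decide +kernel

theorem rel38_23 : PR.allR (PR.fixF [tb2, tb4, tb6, tb8, tb10, tb12, tb14, tb2, tb4, tb6, tb8, tb10, tb12, tb14, tb2, tb4, tb6, tb8, tb10, tb12, tb14, tb2, tb4, tb6, tb8, tb10, tb12, tb14, tb2, tb4, tb6, tb8, tb10, tb12, tb14, tb2, tb4, tb6, tb8, tb10, tb12, tb14, tb2, tb4, tb6, tb8, tb10, tb12, tb14, tb2, tb4, tb6, tb8, tb10, tb12, tb14, tb2, tb4, tb6, tb8, tb10, tb12, tb14]) 13041 567 = true := by decide +kernel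

theorem rel38_24 : PR.allR (PR.fixF [tb2, tb4, tb6, tb8, tb10, tb12, tb14, tb2, tb4, tb6, tb8, tb10, tb12, tb14, tb2, tb4, tb6, tb8, tb10, tb12, tb14, tb2, tb4, tb6, tb8, tb10, tb12, tb14, tb2, tb4, tb6, tb8, tb10, tb12, tb14, tb2, tb4, tb6, tb8, tb10, tb12, tb14, tb2, tb4, tb6, tb8, tb10, tb12, tb14, tb2, tb4, tb6, tb8, tb10, tb12, tb14, tb2, tb4, tb6, tb8, tb10, tb12, tb14]) 13608 472 = true := by decide +kernel

theorem mp0_0_0 : PR.allR (PR.mapsF [tb2] 0 0) 0 1 = true := by decide +kernel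

theorem mp0_1_0 : PR.allR (PR.mapsF [tb4] 0 0) 0 1 = true := by decide +kernel

theorem mp0_2_0 : PR.allR (PR.mapsF [tb6] 0 0) 0 1 = true := by decide +kernel

theorem mp0_3_0 : PR.allR (PR.mapsF [tb8] 0 0) 0 1 = true := by decide +kernel

theorem mp0_4_0 : PR.allR (PR.mapsF [tb10] 0 0) 0 1 = true := by decide +kernel

theorem mp0_5_0 : PR.allR (PR.mapsF [tb12] 0 0) 0 1 = true := by decide +kernel

theorem mp0_6_0 : PR.allR (PR.mapsF [tb14] 0 0) 0 1 = true := by decide +kernel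

theorem mp0_7_0 : PR.allR (PR.mapsF [tb16] 0 0) 0 1 = true := by decide +kernel

theorem mp1_0_0 : PR.allR (PR.mapsF [tb2] 1 3159) 1 3159 = true := by decide +kernel

theorem mp1_1_0 : PR.allR (PR.mapsF [tb4] 1 3159) 1 3159 = true := by decide +kernel

theorem mp1_2_0 : PR.allR (PR.mapsF [tb6] 1 3159) 1 3159 = true := by decide +kernel

theorem mp1_3_0 : PR.allR (PR.mapsF [tb8] 1 3159) 1 3159 = true := by decide +kernel

theorem mp1_4_0 : PR.allR (PR.mapsF [tb10] 1 3159) 1 3159 = true := by decide +kernel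

theorem mp1_5_0 : PR.allR (PR.mapsF [tb12] 1 3159) 1 3159 = true := by decide +kernel

theorem mp1_6_0 : PR.allR (PR.mapsF [tb14] 1 3159) 1 3159 = true := by decide +kernel

theorem mp1_7_0 : PR.allR (PR.mapsF [tb16] 1 3159) 1 3159 = true := by decide +kernel

theorem tre1_0 : PR.allR (PR.treeF tbW [[tb2], [tb4], [tb6], [tb8], [tb10], [tb12], [tb14], [tb16]] 1) 2 3158 = true := by decide +kernel

theorem mp2_0_0 : PR.allR (PR.mapsF [tb2] 3160 14079) 3160 10920 = true := by decide +kernel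

theorem mp2_1_0 : PR.allR (PR.mapsF [tb4] 3160 14079) 3160 10920 = true := by decide +kernel

theorem mp2_2_0 : PR.allR (PR.mapsF [tb6] 3160 14079) 3160 10920 = true := by decide +kernel

theorem mp2_3_0 : PR.allR (PR.mapsF [tb8] 3160 14079) 3160 10920 = true := by decide +kernel

theorem mp2_4_0 : PR.allR (PR.mapsF [tb10] 3160 14079) 3160 10920 = true := by decide +kernel

theorem mp2_5_0 : PR.allR (PR.mapsF [tb12] 3160 14079) 3160 10920 = true := by decide +kernel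

theorem mp2_6_0 : PR.allR (PR.mapsF [tb14] 3160 14079) 3160 10920 = true := by decide +kernel

theorem mp2_7_0 : PR.allR (PR.mapsF [tb16] 3160 14079) 3160 10920 = true := by decide +kernel

theorem tre2_0 : PR.allR (PR.treeF tbW [[tb2], [tb4], [tb6], [tb8], [tb10], [tb12], [tb14], [tb16]] 3160) 3161 10919 = true := by decide +kernel

theorem root0 : PR.trace [] 0 = 0 := by decide +kernel

theorem root1 : PR.trace [tb0] 0 = 1 := by decide +kernel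

theorem root2 : PR.trace [tb0, tb2, tb4, tb6, tb8, tb10, tb14, tb6, tb8, tb16, tb14, tb6, tb4, tb2, tb0] 0 = 3160 := by decide +kernel

end Cfsg.Agent.Lib.Helper11.Fi22b
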