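import Cfsg.Agent.Lib.Helper11.Fi23aPT

set_option autoImplicit false
set_option maxRecDepth 1000000
set_option Elab.async false

namespace Cfsg.Agent.Lib.Helper11.Fi23a

open Cfsg.Agent.Lib.Helper11

theorem rng0_0 : PR.allR (PR.mapsF [tb0] 0 31670) 0 19814 = true := by decide +kernel

theorem rng0_1 : PR.allR (PR.mapsF [tb0] 0 31670) 19814 11857 = true := by decide +kernel

theorem sq0_0 : PR.allR (PR.fixF [tb0, tb0]) 0 9907 = true := by decide +kernel

theorem sq0_1 : PR.allR (PR.fixF [tb0, tb0]) 9907 9907 = true := by decide +kernel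

theorem sq0_2 : PR.allR (PR.fixF [tb0, tb0]) 19814 9907 = true := by decide +kernel

theorem sq0_3 : PR.allR (PR.fixF [tb0, tb0]) 29721 1950 = true := by decide +kernel

theorem rng2_0 : PR.allR (PR.mapsF [tb2] 0 31670) 0 19814 = true := by decide +kernel

theorem rng2_1 : PR.allR (PR.mapsF [tb2] 0 31670) 19814 11857 = true := by decide +kernel

theorem sq2_0 : PR.allR (PR.fixF [tb2, tb2]) 0 9907 = true := by decide +kernel

theorem sq2_1 : PR.allR (PR.fixF [tb2, tb2]) 9907 9907 = true := by decide +kernel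

theorem sq2_2 : PR.allR (PR.fixF [tb2, tb2]) 19814 9907 = true := by decide +kernel

theorem sq2_3 : PR.allR (PR.fixF [tb2, tb2]) 29721 1950 = true := by decide +kernel

theorem rng4_0 : PR.allR (PR.mapsF [tb4] 0 31670) 0 19814 = true := by decide +kernel

theorem rng4_1 : PR.allR (PR.mapsF [tb4] 0 31670) 19814 11857 = true := by decide +kernel

theorem sq4_0 : PR.allR (PR.fixF [tb4, tb4]) 0 9907 = true := by decide +kernel

theorem sq4_1 : PR.allR (PR.fixF [tb4, tb4]) 9907 9907 = true := by decide +kernel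

theorem sq4_2 : PR.allR (PR.fixF [tb4, tb4]) 19814 9907 = true := by decide +kernel

theorem sq4_3 : PR.allR (PR.fixF [tb4, tb4]) 29721 1950 = true := by decide +kernel

theorem rng6_0 : PR.allR (PR.mapsF [tb6] 0 31670) 0 19814 = true := by decide +kernel

theorem rng6_1 : PR.allR (PR.mapsF [tb6] 0 31670) 19814 11857 = true := by decide +kernel

theorem sq6_0 : PR.allR (PR.fixF [tb6, tb6]) 0 9907 = true := by decide +kernel

theorem sq6_1 : PR.allR (PR.fixF [tb6, tb6]) 9907 9907 = true := by decide +kernel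

theorem sq6_2 : PR.allR (PR.fixF [tb6, tb6]) 19814 9907 = true := by decide +kernel

theorem sq6_3 : PR.allR (PR.fixF [tb6, tb6]) 29721 1950 = true := by decide +kernel

theorem rng8_0 : PR.allR (PR.mapsF [tb8] 0 31670) 0 19814 = true := by decide +kernel

theorem rng8_1 : PR.allR (PR.mapsF [tb8] 0 31670) 19814 11857 = true := by decide +kernel

theorem sq8_0 : PR.allR (PR.fixF [tb8, tb8]) 0 9907 = true := by decide +kernel

theorem sq8_1 : PR.allR (PR.fixF [tb8, tb8]) 9907 9907 = true := by decide +kernel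

theorem sq8_2 : PR.allR (PR.fixF [tb8, tb8]) 19814 9907 = true := by decide +kernel

theorem sq8_3 : PR.allR (PR.fixF [tb8, tb8]) 29721 1950 = true := by decide +kernel

theorem rng10_0 : PR.allR (PR.mapsF [tb10] 0 31670) 0 19814 = true := by decide +kernel

theorem rng10_1 : PR.allR (PR.mapsF [tb10] 0 31670) 19814 11857 = true := by decide +kernel

theorem sq10_0 : PR.allR (PR.fixF [tb10, tb10]) 0 9907 = true := by decide +kernel

theorem sq10_1 : PR.allR (PR.fixF [tb10, tb10]) 9907 9907 = true := by decide +kernel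

theorem sq10_2 : PR.allR (PR.fixF [tb10, tb10]) 19814 9907 = true := by decide +kernel

theorem sq10_3 : PR.allR (PR.fixF [tb10, tb10]) 29721 1950 = true := by decide +kernel

theorem rng12_0 : PR.allR (PR.mapsF [tb12] 0 31670) 0 19814 = true := by decide +kernel

theorem rng12_1 : PR.allR (PR.mapsF [tb12] 0 31670) 19814 11857 = true := by decide +kernel

theorem sq12_0 : PR.allR (PR.fixF [tb12, tb12]) 0 9907 = true := by decide +kernel

theorem sq12_1 : PR.allR (PR.fixF [tb12, tb12]) 9907 9907 = true := by decide +kernel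

theorem sq12_2 : PR.allR (PR.fixF [tb12, tb12]) 19814 9907 = true := by decide +kernel

theorem sq12_3 : PR.allR (PR.fixF [tb12, tb12]) 29721 1950 = true := by decide +kernel

theorem rng14_0 : PR.allR (PR.mapsF [tb14] 0 31670) 0 19814 = true := by decide +kernel

theorem rng14_1 : PR.allR (PR.mapsF [tb14] 0 31670) 19814 11857 = true := by decide +kernel

theorem sq14_0 : PR.allR (PR.fixF [tb14, tb14]) 0 9907 = true := by decide +kernel

theorem sq14_1 : PR.allR (PR.fixF [tb14, tb14]) 9907 9907 = true := by decide +kernel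

theorem sq14_2 : PR.allR (PR.fixF [tb14, tb14]) 19814 9907 = true := by decide +kernel

theorem sq14_3 : PR.allR (PR.fixF [tb14, tb14]) 29721 1950 = true := by decide +kernel

theorem rng16_0 : PR.allR (PR.mapsF [tb16] 0 31670) 0 19814 = true := by decide +kernel

theorem rng16_1 : PR.allR (PR.mapsF [tb16] 0 31670) 19814 11857 = true := by decide +kernel

theorem sq16_0 : PR.allR (PR.fixF [tb16, tb16]) 0 9907 = true := by decide +kernel

theorem sq16_1 : PR.allR (PR.fixF [tb16, tb16]) 9907 9907 = true := by decide +kernel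

theorem sq16_2 : PR.allR (PR.fixF [tb16, tb16]) 19814 9907 = true := by decide +kernel

theorem sq16_3 : PR.allR (PR.fixF [tb16, tb16]) 29721 1950 = true := by decide +kernel

theorem rng18_0 : PR.allR (PR.mapsF [tb18] 0 31670) 0 19814 = true := by decide +kernel

theorem rng18_1 : PR.allR (PR.mapsF [tb18] 0 31670) 19814 11857 = true := by decide +kernel

theorem sq18_0 : PR.allR (PR.fixF [tb18, tb18]) 0 9907 = true := by decide +kernel

theorem sq18_1 : PR.allR (PR.fixF [tb18, tb18]) 9907 9907 = true := by decide +kernel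

theorem sq18_2 : PR.allR (PR.fixF [tb18, tb18]) 19814 9907 = true := by decide +kernel

theorem sq18_3 : PR.allR (PR.fixF [tb18, tb18]) 29721 1950 = true := by decide +kernel

theorem rel0_0 : PR.allR (PR.fixF [tb0, tb2, tb0, tb2, tb0, tb2]) 0 3302 = true := by decide +kernel

theorem rel0_1 : PR.allR (PR.fixF [tb0, tb2, tb0, tb2, tb0, tb2]) 3302 3302 = true := by decide +kernel

theorem rel0_2 : PR.allR (PR.fixF [tb0, tb2, tb0, tb2, tb0, tb2]) 6604 3302 = true := by decide +kernel

theorem rel0_3 : PR.allR (PR.fixF [tb0, tb2, tb0, tb2, tb0, tb2]) 9906 3302 = true := by decide +kernel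

theorem rel0_4 : PR.allR (PR.fixF [tb0, tb2, tb0, tb2, tb0, tb2]) 13208 3302 = true := by decide +kernel

theorem rel0_5 : PR.allR (PR.fixF [tb0, tb2, tb0, tb2, tb0, tb2]) 16510 3302 = true := by decide +kernel

theorem rel0_6 : PR.allR (PR.fixF [tb0, tb2, tb0, tb2, tb0, tb2]) 19812 3302 = true := by decide +kernel

theorem rel0_7 : PR.allR (PR.fixF [tb0, tb2, tb0, tb2, tb0, tb2]) 23114 3302 = true := by decide +kernel

theorem rel0_8 : PR.allR (PR.fixF [tb0, tb2, tb0, tb2, tb0, tb2]) 26416 3302 = true := by decide +kernel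

theorem rel0_9 : PR.allR (PR.fixF [tb0, tb2, tb0, tb2, tb0, tb2]) 29718 1953 = true := by decide +kernel

theorem rel1_0 : PR.allR (PR.fixF [tb0, tb4, tb0, tb4]) 0 4953 = true := by decide +kernel

theorem rel1_1 : PR.allR (PR.fixF [tb0, tb4, tb0, tb4]) 4953 4953 = true := by decide +kernel

theorem rel1_2 : PR.allR (PR.fixF [tb0, tb4, tb0, tb4]) 9906 4953 = true := by decide +kernel

theorem rel1_3 : PR.allR (PR.fixF [tb0, tb4, tb0, tb4]) 14859 4953 = true := by decide +kernel

theorem rel1_4 : PR.allR (PR.fixF [tb0, tb4, tb0, tb4]) 19812 4953 = true := by decide +kernel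

theorem rel1_5 : PR.allR (PR.fixF [tb0, tb4, tb0, tb4]) 24765 4953 = true := by decide +kernel

theorem rel1_6 : PR.allR (PR.fixF [tb0, tb4, tb0, tb4]) 29718 1953 = true := by decide +kernel

theorem rel2_0 : PR.allR (PR.fixF [tb0, tb6, tb0, tb6]) 0 4953 = true := by decide +kernel

theorem rel2_1 : PR.allR (PR.fixF [tb0, tb6, tb0, tb6]) 4953 4953 = true := by decide +kernel

theorem rel2_2 : PR.allR (PR.fixF [tb0, tb6, tb0, tb6]) 9906 4953 = true := by decide +kernel

theorem rel2_3 : PR.allR (PR.fixF [tb0, tb6, tb0, tb6]) 14859 4953 = true := by decide +kernel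

theorem rel2_4 : PR.allR (PR.fixF [tb0, tb6, tb0, tb6]) 19812 4953 = true := by decide +kernel

theorem rel2_5 : PR.allR (PR.fixF [tb0, tb6, tb0, tb6]) 24765 4953 = true := by decide +kernel

theorem rel2_6 : PR.allR (PR.fixF [tb0, tb6, tb0, tb6]) 29718 1953 = true := by decide +kernel

theorem rel3_0 : PR.allR (PR.fixF [tb0, tb8, tb0, tb8]) 0 4953 = true := by decide +kernel

theorem rel3_1 : PR.allR (PR.fixF [tb0, tb8, tb0, tb8]) 4953 4953 = true := by decide +kernel

theorem rel3_2 : PR.allR (PR.fixF [tb0, tb8, tb0, tb8]) 9906 4953 = true := by decide +kernel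

theorem rel3_3 : PR.allR (PR.fixF [tb0, tb8, tb0, tb8]) 14859 4953 = true := by decide +kernel

theorem rel3_4 : PR.allR (PR.fixF [tb0, tb8, tb0, tb8]) 19812 4953 = true := by decide +kernel

theorem rel3_5 : PR.allR (PR.fixF [tb0, tb8, tb0, tb8]) 24765 4953 = true := by decide +kernel

theorem rel3_6 : PR.allR (PR.fixF [tb0, tb8, tb0, tb8]) 29718 1953 = true := by decide +kernel

theorem rel4_0 : PR.allR (PR.fixF [tb0, tb14, tb0, tb14]) 0 4953 = true := by decide +kernel

theorem rel4_1 : PR.allR (PR.fixF [tb0, tb14, tb0, tb14]) 4953 4953 = true := by decide +kernel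

theorem rel4_2 : PR.allR (PR.fixF [tb0, tb14, tb0, tb14]) 9906 4953 = true := by decide +kernel

theorem rel4_3 : PR.allR (PR.fixF [tb0, tb14, tb0, tb14]) 14859 4953 = true := by decide +kernel

theorem rel4_4 : PR.allR (PR.fixF [tb0, tb14, tb0, tb14]) 19812 4953 = true := by decide +kernel

theorem rel4_5 : PR.allR (PR.fixF [tb0, tb14, tb0, tb14]) 24765 4953 = true := by decide +kernel

theorem rel4_6 : PR.allR (PR.fixF [tb0, tb14, tb0, tb14]) 29718 1953 = true := by decide +kernel

theorem rel5_0 : PR.allR (PR.fixF [tb0, tb10, tb0, tb10]) 0 4953 = true := by decide +kernel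

theorem rel5_1 : PR.allR (PR.fixF [tb0, tb10, tb0, tb10]) 4953 4953 = true := by decide +kernel

theorem rel5_2 : PR.allR (PR.fixF [tb0, tb10, tb0, tb10]) 9906 4953 = true := by decide +kernel

theorem rel5_3 : PR.allR (PR.fixF [tb0, tb10, tb0, tb10]) 14859 4953 = true := by decide +kernel

theorem rel5_4 : PR.allR (PR.fixF [tb0, tb10, tb0, tb10]) 19812 4953 = true := by decide +kernel

theorem rel5_5 : PR.allR (PR.fixF [tb0, tb10, tb0, tb10]) 24765 4953 = true := by decide +kernel

theorem rel5_6 : PR.allR (PR.fixF [tb0, tb10, tb0, tb10]) 29718 1953 = true := by decide +kernel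

theorem rel6_0 : PR.allR (PR.fixF [tb0, tb12, tb0, tb12]) 0 4953 = true := by decide +kernel

theorem rel6_1 : PR.allR (PR.fixF [tb0, tb12, tb0, tb12]) 4953 4953 = true := by decide +kernel

theorem rel6_2 : PR.allR (PR.fixF [tb0, tb12, tb0, tb12]) 9906 4953 = true := by decide +kernel

theorem rel6_3 : PR.allR (PR.fixF [tb0, tb12, tb0, tb12]) 14859 4953 = true := by decide +kernel

theorem rel6_4 : PR.allR (PR.fixF [tb0, tb12, tb0, tb12]) 19812 4953 = true := by decide +kernel

theorem rel6_5 : PR.allR (PR.fixF [tb0, tb12, tb0, tb12]) 24765 4953 = true := by decide +kernel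

theorem rel6_6 : PR.allR (PR.fixF [tb0, tb12, tb0, tb12]) 29718 1953 = true := by decide +kernel

theorem rel7_0 : PR.allR (PR.fixF [tb0, tb18, tb0, tb18]) 0 4953 = true := by decide +kernel

theorem rel7_1 : PR.allR (PR.fixF [tb0, tb18, tb0, tb18]) 4953 4953 = true := by decide +kernel

theorem rel7_2 : PR.allR (PR.fixF [tb0, tb18, tb0, tb18]) 9906 4953 = true := by decide +kernel

theorem rel7_3 : PR.allR (PR.fixF [tb0, tb18, tb0, tb18]) 14859 4953 = true := by decide +kernel

theorem rel7_4 : PR.allR (PR.fixF [tb0, tb18, tb0, tb18]) 19812 4953 = true := by decide +kernel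

theorem rel7_5 : PR.allR (PR.fixF [tb0, tb18, tb0, tb18]) 24765 4953 = true := by decide +kernel

end Cfsg.Agent.Lib.Helper11.Fi23a
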