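import Cfsg.Agent.Lib.Helper11.Fi23aPT

set_option autoImplicit false
set_option maxRecDepth 1000000
set_option Elab.async false

namespace Cfsg.Agent.Lib.Helper11.Fi23a

open Cfsg.Agent.Lib.Helper11

theorem rel7_6 : PR.allR (PR.fixF [tb0, tb18, tb0, tb18]) 29718 1953 = true := by decide +kernel

theorem rel8_0 : PR.allR (PR.fixF [tb0, tb16, tb0, tb16]) 0 4953 = true := by decide +kernel

theorem rel8_1 : PR.allR (PR.fixF [tb0, tb16, tb0, tb16]) 4953 4953 = true := by decide +kernel

theorem rel8_2 : PR.allR (PR.fixF [tb0, tb16, tb0, tb16]) 9906 4953 = true := by decide +kernel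

theorem rel8_3 : PR.allR (PR.fixF [tb0, tb16, tb0, tb16]) 14859 4953 = true := by decide +kernel

theorem rel8_4 : PR.allR (PR.fixF [tb0, tb16, tb0, tb16]) 19812 4953 = true := by decide +kernel

theorem rel8_5 : PR.allR (PR.fixF [tb0, tb16, tb0, tb16]) 24765 4953 = true := by decide +kernel

theorem rel8_6 : PR.allR (PR.fixF [tb0, tb16, tb0, tb16]) 29718 1953 = true := by decide +kernel

theorem rel9_0 : PR.allR (PR.fixF [tb2, tb4, tb2, tb4, tb2, tb4]) 0 3302 = true := by decide +kernel

theorem rel9_1 : PR.allR (PR.fixF [tb2, tb4, tb2, tb4, tb2, tb4]) 3302 3302 = true := by decide +kernel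

theorem rel9_2 : PR.allR (PR.fixF [tb2, tb4, tb2, tb4, tb2, tb4]) 6604 3302 = true := by decide +kernel

theorem rel9_3 : PR.allR (PR.fixF [tb2, tb4, tb2, tb4, tb2, tb4]) 9906 3302 = true := by decide +kernel

theorem rel9_4 : PR.allR (PR.fixF [tb2, tb4, tb2, tb4, tb2, tb4]) 13208 3302 = true := by decide +kernel

theorem rel9_5 : PR.allR (PR.fixF [tb2, tb4, tb2, tb4, tb2, tb4]) 16510 3302 = true := by decide +kernel

theorem rel9_6 : PR.allR (PR.fixF [tb2, tb4, tb2, tb4, tb2, tb4]) 19812 3302 = true := by decide +kernel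

theorem rel9_7 : PR.allR (PR.fixF [tb2, tb4, tb2, tb4, tb2, tb4]) 23114 3302 = true := by decide +kernel

theorem rel9_8 : PR.allR (PR.fixF [tb2, tb4, tb2, tb4, tb2, tb4]) 26416 3302 = true := by decide +kernel

theorem rel9_9 : PR.allR (PR.fixF [tb2, tb4, tb2, tb4, tb2, tb4]) 29718 1953 = true := by decide +kernel

theorem rel10_0 : PR.allR (PR.fixF [tb2, tb6, tb2, tb6]) 0 4953 = true := by decide +kernel

theorem rel10_1 : PR.allR (PR.fixF [tb2, tb6, tb2, tb6]) 4953 4953 = true := by decide +kernel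

theorem rel10_2 : PR.allR (PR.fixF [tb2, tb6, tb2, tb6]) 9906 4953 = true := by decide +kernel

theorem rel10_3 : PR.allR (PR.fixF [tb2, tb6, tb2, tb6]) 14859 4953 = true := by decide +kernel

theorem rel10_4 : PR.allR (PR.fixF [tb2, tb6, tb2, tb6]) 19812 4953 = true := by decide +kernel

theorem rel10_5 : PR.allR (PR.fixF [tb2, tb6, tb2, tb6]) 24765 4953 = true := by decide +kernel

theorem rel10_6 : PR.allR (PR.fixF [tb2, tb6, tb2, tb6]) 29718 1953 = true := by decide +kernel

theorem rel11_0 : PR.allR (PR.fixF [tb2, tb8, tb2, tb8]) 0 4953 = true := by decide +kernel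

theorem rel11_1 : PR.allR (PR.fixF [tb2, tb8, tb2, tb8]) 4953 4953 = true := by decide +kernel

theorem rel11_2 : PR.allR (PR.fixF [tb2, tb8, tb2, tb8]) 9906 4953 = true := by decide +kernel

theorem rel11_3 : PR.allR (PR.fixF [tb2, tb8, tb2, tb8]) 14859 4953 = true := by decide +kernel

theorem rel11_4 : PR.allR (PR.fixF [tb2, tb8, tb2, tb8]) 19812 4953 = true := by decide +kernel

theorem rel11_5 : PR.allR (PR.fixF [tb2, tb8, tb2, tb8]) 24765 4953 = true := by decide +kernel

theorem rel11_6 : PR.allR (PR.fixF [tb2, tb8, tb2, tb8]) 29718 1953 = true := by decide +kernel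

theorem rel12_0 : PR.allR (PR.fixF [tb2, tb14, tb2, tb14]) 0 4953 = true := by decide +kernel

theorem rel12_1 : PR.allR (PR.fixF [tb2, tb14, tb2, tb14]) 4953 4953 = true := by decide +kernel

theorem rel12_2 : PR.allR (PR.fixF [tb2, tb14, tb2, tb14]) 9906 4953 = true := by decide +kernel

theorem rel12_3 : PR.allR (PR.fixF [tb2, tb14, tb2, tb14]) 14859 4953 = true := by decide +kernel

theorem rel12_4 : PR.allR (PR.fixF [tb2, tb14, tb2, tb14]) 19812 4953 = true := by decide +kernel

theorem rel12_5 : PR.allR (PR.fixF [tb2, tb14, tb2, tb14]) 24765 4953 = true := by decide +kernel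

theorem rel12_6 : PR.allR (PR.fixF [tb2, tb14, tb2, tb14]) 29718 1953 = true := by decide +kernel

theorem rel13_0 : PR.allR (PR.fixF [tb2, tb10, tb2, tb10]) 0 4953 = true := by decide +kernel

theorem rel13_1 : PR.allR (PR.fixF [tb2, tb10, tb2, tb10]) 4953 4953 = true := by decide +kernel

theorem rel13_2 : PR.allR (PR.fixF [tb2, tb10, tb2, tb10]) 9906 4953 = true := by decide +kernel

theorem rel13_3 : PR.allR (PR.fixF [tb2, tb10, tb2, tb10]) 14859 4953 = true := by decide +kernel

theorem rel13_4 : PR.allR (PR.fixF [tb2, tb10, tb2, tb10]) 19812 4953 = true := by decide +kernel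

theorem rel13_5 : PR.allR (PR.fixF [tb2, tb10, tb2, tb10]) 24765 4953 = true := by decide +kernel

theorem rel13_6 : PR.allR (PR.fixF [tb2, tb10, tb2, tb10]) 29718 1953 = true := by decide +kernel

theorem rel14_0 : PR.allR (PR.fixF [tb2, tb12, tb2, tb12]) 0 4953 = true := by decide +kernel

theorem rel14_1 : PR.allR (PR.fixF [tb2, tb12, tb2, tb12]) 4953 4953 = true := by decide +kernel

theorem rel14_2 : PR.allR (PR.fixF [tb2, tb12, tb2, tb12]) 9906 4953 = true := by decide +kernel

theorem rel14_3 : PR.allR (PR.fixF [tb2, tb12, tb2, tb12]) 14859 4953 = true := by decide +kernel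

theorem rel14_4 : PR.allR (PR.fixF [tb2, tb12, tb2, tb12]) 19812 4953 = true := by decide +kernel

theorem rel14_5 : PR.allR (PR.fixF [tb2, tb12, tb2, tb12]) 24765 4953 = true := by decide +kernel

theorem rel14_6 : PR.allR (PR.fixF [tb2, tb12, tb2, tb12]) 29718 1953 = true := by decide +kernel

theorem rel15_0 : PR.allR (PR.fixF [tb2, tb18, tb2, tb18]) 0 4953 = true := by decide +kernel

theorem rel15_1 : PR.allR (PR.fixF [tb2, tb18, tb2, tb18]) 4953 4953 = true := by decide +kernel

theorem rel15_2 : PR.allR (PR.fixF [tb2, tb18, tb2, tb18]) 9906 4953 = true := by decide +kernel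

theorem rel15_3 : PR.allR (PR.fixF [tb2, tb18, tb2, tb18]) 14859 4953 = true := by decide +kernel

theorem rel15_4 : PR.allR (PR.fixF [tb2, tb18, tb2, tb18]) 19812 4953 = true := by decide +kernel

theorem rel15_5 : PR.allR (PR.fixF [tb2, tb18, tb2, tb18]) 24765 4953 = true := by decide +kernel

theorem rel15_6 : PR.allR (PR.fixF [tb2, tb18, tb2, tb18]) 29718 1953 = true := by decide +kernel

theorem rel16_0 : PR.allR (PR.fixF [tb2, tb16, tb2, tb16]) 0 4953 = true := by decide +kernel

theorem rel16_1 : PR.allR (PR.fixF [tb2, tb16, tb2, tb16]) 4953 4953 = true := by decide +kernel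

theorem rel16_2 : PR.allR (PR.fixF [tb2, tb16, tb2, tb16]) 9906 4953 = true := by decide +kernel

theorem rel16_3 : PR.allR (PR.fixF [tb2, tb16, tb2, tb16]) 14859 4953 = true := by decide +kernel

theorem rel16_4 : PR.allR (PR.fixF [tb2, tb16, tb2, tb16]) 19812 4953 = true := by decide +kernel

theorem rel16_5 : PR.allR (PR.fixF [tb2, tb16, tb2, tb16]) 24765 4953 = true := by decide +kernel

theorem rel16_6 : PR.allR (PR.fixF [tb2, tb16, tb2, tb16]) 29718 1953 = true := by decide +kernel

theorem rel17_0 : PR.allR (PR.fixF [tb4, tb6, tb4, tb6, tb4, tb6]) 0 3302 = true := by decide +kernel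

theorem rel17_1 : PR.allR (PR.fixF [tb4, tb6, tb4, tb6, tb4, tb6]) 3302 3302 = true := by decide +kernel

theorem rel17_2 : PR.allR (PR.fixF [tb4, tb6, tb4, tb6, tb4, tb6]) 6604 3302 = true := by decide +kernel

theorem rel17_3 : PR.allR (PR.fixF [tb4, tb6, tb4, tb6, tb4, tb6]) 9906 3302 = true := by decide +kernel

theorem rel17_4 : PR.allR (PR.fixF [tb4, tb6, tb4, tb6, tb4, tb6]) 13208 3302 = true := by decide +kernel

theorem rel17_5 : PR.allR (PR.fixF [tb4, tb6, tb4, tb6, tb4, tb6]) 16510 3302 = true := by decide +kernel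

theorem rel17_6 : PR.allR (PR.fixF [tb4, tb6, tb4, tb6, tb4, tb6]) 19812 3302 = true := by decide +kernel

theorem rel17_7 : PR.allR (PR.fixF [tb4, tb6, tb4, tb6, tb4, tb6]) 23114 3302 = true := by decide +kernel

theorem rel17_8 : PR.allR (PR.fixF [tb4, tb6, tb4, tb6, tb4, tb6]) 26416 3302 = true := by decide +kernel

theorem rel17_9 : PR.allR (PR.fixF [tb4, tb6, tb4, tb6, tb4, tb6]) 29718 1953 = true := by decide +kernel

theorem rel18_0 : PR.allR (PR.fixF [tb4, tb8, tb4, tb8]) 0 4953 = true := by decide +kernel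

theorem rel18_1 : PR.allR (PR.fixF [tb4, tb8, tb4, tb8]) 4953 4953 = true := by decide +kernel

theorem rel18_2 : PR.allR (PR.fixF [tb4, tb8, tb4, tb8]) 9906 4953 = true := by decide +kernel

theorem rel18_3 : PR.allR (PR.fixF [tb4, tb8, tb4, tb8]) 14859 4953 = true := by decide +kernel

theorem rel18_4 : PR.allR (PR.fixF [tb4, tb8, tb4, tb8]) 19812 4953 = true := by decide +kernel

theorem rel18_5 : PR.allR (PR.fixF [tb4, tb8, tb4, tb8]) 24765 4953 = true := by decide +kernel

theorem rel18_6 : PR.allR (PR.fixF [tb4, tb8, tb4, tb8]) 29718 1953 = true := by decide +kernel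

theorem rel19_0 : PR.allR (PR.fixF [tb4, tb14, tb4, tb14]) 0 4953 = true := by decide +kernel

theorem rel19_1 : PR.allR (PR.fixF [tb4, tb14, tb4, tb14]) 4953 4953 = true := by decide +kernel

theorem rel19_2 : PR.allR (PR.fixF [tb4, tb14, tb4, tb14]) 9906 4953 = true := by decide +kernel

theorem rel19_3 : PR.allR (PR.fixF [tb4, tb14, tb4, tb14]) 14859 4953 = true := by decide +kernel

theorem rel19_4 : PR.allR (PR.fixF [tb4, tb14, tb4, tb14]) 19812 4953 = true := by decide +kernel

theorem rel19_5 : PR.allR (PR.fixF [tb4, tb14, tb4, tb14]) 24765 4953 = true := by decide +kernel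

theorem rel19_6 : PR.allR (PR.fixF [tb4, tb14, tb4, tb14]) 29718 1953 = true := by decide +kernel

theorem rel20_0 : PR.allR (PR.fixF [tb4, tb10, tb4, tb10]) 0 4953 = true := by decide +kernel

theorem rel20_1 : PR.allR (PR.fixF [tb4, tb10, tb4, tb10]) 4953 4953 = true := by decide +kernel

theorem rel20_2 : PR.allR (PR.fixF [tb4, tb10, tb4, tb10]) 9906 4953 = true := by decide +kernel

theorem rel20_3 : PR.allR (PR.fixF [tb4, tb10, tb4, tb10]) 14859 4953 = true := by decide +kernel

theorem rel20_4 : PR.allR (PR.fixF [tb4, tb10, tb4, tb10]) 19812 4953 = true := by decide +kernel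

theorem rel20_5 : PR.allR (PR.fixF [tb4, tb10, tb4, tb10]) 24765 4953 = true := by decide +kernel

theorem rel20_6 : PR.allR (PR.fixF [tb4, tb10, tb4, tb10]) 29718 1953 = true := by decide +kernel

theorem rel21_0 : PR.allR (PR.fixF [tb4, tb12, tb4, tb12]) 0 4953 = true := by decide +kernel

theorem rel21_1 : PR.allR (PR.fixF [tb4, tb12, tb4, tb12]) 4953 4953 = true := by decide +kernel

theorem rel21_2 : PR.allR (PR.fixF [tb4, tb12, tb4, tb12]) 9906 4953 = true := by decide +kernel

theorem rel21_3 : PR.allR (PR.fixF [tb4, tb12, tb4, tb12]) 14859 4953 = true := by decide +kernel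

theorem rel21_4 : PR.allR (PR.fixF [tb4, tb12, tb4, tb12]) 19812 4953 = true := by decide +kernel

theorem rel21_5 : PR.allR (PR.fixF [tb4, tb12, tb4, tb12]) 24765 4953 = true := by decide +kernel

theorem rel21_6 : PR.allR (PR.fixF [tb4, tb12, tb4, tb12]) 29718 1953 = true := by decide +kernel

theorem rel22_0 : PR.allR (PR.fixF [tb4, tb18, tb4, tb18]) 0 4953 = true := by decide +kernel

theorem rel22_1 : PR.allR (PR.fixF [tb4, tb18, tb4, tb18]) 4953 4953 = true := by decide +kernel

theorem rel22_2 : PR.allR (PR.fixF [tb4, tb18, tb4, tb18]) 9906 4953 = true := by decide +kernel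

theorem rel22_3 : PR.allR (PR.fixF [tb4, tb18, tb4, tb18]) 14859 4953 = true := by decide +kernel

theorem rel22_4 : PR.allR (PR.fixF [tb4, tb18, tb4, tb18]) 19812 4953 = true := by decide +kernel

end Cfsg.Agent.Lib.Helper11.Fi23a
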