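import Cfsg.Agent.Lib.Helper11.Fi23aPT

set_option autoImplicit false
set_option maxRecDepth 1000000
set_option Elab.async false

namespace Cfsg.Agent.Lib.Helper11.Fi23a

open Cfsg.Agent.Lib.Helper11

theorem rel22_5 : PR.allR (PR.fixF [tb4, tb18, tb4, tb18]) 24765 4953 = true := by decide +kernel

theorem rel22_6 : PR.allR (PR.fixF [tb4, tb18, tb4, tb18]) 29718 1953 = true := by decide +kernel

theorem rel23_0 : PR.allR (PR.fixF [tb4, tb16, tb4, tb16]) 0 4953 = true := by decide +kernel

theorem rel23_1 : PR.allR (PR.fixF [tb4, tb16, tb4, tb16]) 4953 4953 = true := by decide +kernel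

theorem rel23_2 : PR.allR (PR.fixF [tb4, tb16, tb4, tb16]) 9906 4953 = true := by decide +kernel

theorem rel23_3 : PR.allR (PR.fixF [tb4, tb16, tb4, tb16]) 14859 4953 = true := by decide +kernel

theorem rel23_4 : PR.allR (PR.fixF [tb4, tb16, tb4, tb16]) 19812 4953 = true := by decide +kernel

theorem rel23_5 : PR.allR (PR.fixF [tb4, tb16, tb4, tb16]) 24765 4953 = true := by decide +kernel

theorem rel23_6 : PR.allR (PR.fixF [tb4, tb16, tb4, tb16]) 29718 1953 = true := by decide +kernel

theorem rel24_0 : PR.allR (PR.fixF [tb6, tb8, tb6, tb8, tb6, tb8]) 0 3302 = true := by decide +kernel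

theorem rel24_1 : PR.allR (PR.fixF [tb6, tb8, tb6, tb8, tb6, tb8]) 3302 3302 = true := by decide +kernel

theorem rel24_2 : PR.allR (PR.fixF [tb6, tb8, tb6, tb8, tb6, tb8]) 6604 3302 = true := by decide +kernel

theorem rel24_3 : PR.allR (PR.fixF [tb6, tb8, tb6, tb8, tb6, tb8]) 9906 3302 = true := by decide +kernel

theorem rel24_4 : PR.allR (PR.fixF [tb6, tb8, tb6, tb8, tb6, tb8]) 13208 3302 = true := by decide +kernel

theorem rel24_5 : PR.allR (PR.fixF [tb6, tb8, tb6, tb8, tb6, tb8]) 16510 3302 = true := by decide +kernel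

theorem rel24_6 : PR.allR (PR.fixF [tb6, tb8, tb6, tb8, tb6, tb8]) 19812 3302 = true := by decide +kernel

theorem rel24_7 : PR.allR (PR.fixF [tb6, tb8, tb6, tb8, tb6, tb8]) 23114 3302 = true := by decide +kernel

theorem rel24_8 : PR.allR (PR.fixF [tb6, tb8, tb6, tb8, tb6, tb8]) 26416 3302 = true := by decide +kernel

theorem rel24_9 : PR.allR (PR.fixF [tb6, tb8, tb6, tb8, tb6, tb8]) 29718 1953 = true := by decide +kernel

theorem rel25_0 : PR.allR (PR.fixF [tb6, tb14, tb6, tb14, tb6, tb14]) 0 3302 = true := by decide +kernel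

theorem rel25_1 : PR.allR (PR.fixF [tb6, tb14, tb6, tb14, tb6, tb14]) 3302 3302 = true := by decide +kernel

theorem rel25_2 : PR.allR (PR.fixF [tb6, tb14, tb6, tb14, tb6, tb14]) 6604 3302 = true := by decide +kernel

theorem rel25_3 : PR.allR (PR.fixF [tb6, tb14, tb6, tb14, tb6, tb14]) 9906 3302 = true := by decide +kernel

theorem rel25_4 : PR.allR (PR.fixF [tb6, tb14, tb6, tb14, tb6, tb14]) 13208 3302 = true := by decide +kernel

theorem rel25_5 : PR.allR (PR.fixF [tb6, tb14, tb6, tb14, tb6, tb14]) 16510 3302 = true := by decide +kernel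

theorem rel25_6 : PR.allR (PR.fixF [tb6, tb14, tb6, tb14, tb6, tb14]) 19812 3302 = true := by decide +kernel

theorem rel25_7 : PR.allR (PR.fixF [tb6, tb14, tb6, tb14, tb6, tb14]) 23114 3302 = true := by decide +kernel

theorem rel25_8 : PR.allR (PR.fixF [tb6, tb14, tb6, tb14, tb6, tb14]) 26416 3302 = true := by decide +kernel

theorem rel25_9 : PR.allR (PR.fixF [tb6, tb14, tb6, tb14, tb6, tb14]) 29718 1953 = true := by decide +kernel

theorem rel26_0 : PR.allR (PR.fixF [tb6, tb10, tb6, tb10]) 0 4953 = true := by decide +kernel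

theorem rel26_1 : PR.allR (PR.fixF [tb6, tb10, tb6, tb10]) 4953 4953 = true := by decide +kernel

theorem rel26_2 : PR.allR (PR.fixF [tb6, tb10, tb6, tb10]) 9906 4953 = true := by decide +kernel

theorem rel26_3 : PR.allR (PR.fixF [tb6, tb10, tb6, tb10]) 14859 4953 = true := by decide +kernel

theorem rel26_4 : PR.allR (PR.fixF [tb6, tb10, tb6, tb10]) 19812 4953 = true := by decide +kernel

theorem rel26_5 : PR.allR (PR.fixF [tb6, tb10, tb6, tb10]) 24765 4953 = true := by decide +kernel

theorem rel26_6 : PR.allR (PR.fixF [tb6, tb10, tb6, tb10]) 29718 1953 = true := by decide +kernel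

theorem rel27_0 : PR.allR (PR.fixF [tb6, tb12, tb6, tb12]) 0 4953 = true := by decide +kernel

theorem rel27_1 : PR.allR (PR.fixF [tb6, tb12, tb6, tb12]) 4953 4953 = true := by decide +kernel

theorem rel27_2 : PR.allR (PR.fixF [tb6, tb12, tb6, tb12]) 9906 4953 = true := by decide +kernel

theorem rel27_3 : PR.allR (PR.fixF [tb6, tb12, tb6, tb12]) 14859 4953 = true := by decide +kernel

theorem rel27_4 : PR.allR (PR.fixF [tb6, tb12, tb6, tb12]) 19812 4953 = true := by decide +kernel

theorem rel27_5 : PR.allR (PR.fixF [tb6, tb12, tb6, tb12]) 24765 4953 = true := by decide +kernel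

theorem rel27_6 : PR.allR (PR.fixF [tb6, tb12, tb6, tb12]) 29718 1953 = true := by decide +kernel

theorem rel28_0 : PR.allR (PR.fixF [tb6, tb18, tb6, tb18]) 0 4953 = true := by decide +kernel

theorem rel28_1 : PR.allR (PR.fixF [tb6, tb18, tb6, tb18]) 4953 4953 = true := by decide +kernel

theorem rel28_2 : PR.allR (PR.fixF [tb6, tb18, tb6, tb18]) 9906 4953 = true := by decide +kernel

theorem rel28_3 : PR.allR (PR.fixF [tb6, tb18, tb6, tb18]) 14859 4953 = true := by decide +kernel

theorem rel28_4 : PR.allR (PR.fixF [tb6, tb18, tb6, tb18]) 19812 4953 = true := by decide +kernel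

theorem rel28_5 : PR.allR (PR.fixF [tb6, tb18, tb6, tb18]) 24765 4953 = true := by decide +kernel

theorem rel28_6 : PR.allR (PR.fixF [tb6, tb18, tb6, tb18]) 29718 1953 = true := by decide +kernel

theorem rel29_0 : PR.allR (PR.fixF [tb6, tb16, tb6, tb16]) 0 4953 = true := by decide +kernel

theorem rel29_1 : PR.allR (PR.fixF [tb6, tb16, tb6, tb16]) 4953 4953 = true := by decide +kernel

theorem rel29_2 : PR.allR (PR.fixF [tb6, tb16, tb6, tb16]) 9906 4953 = true := by decide +kernel

theorem rel29_3 : PR.allR (PR.fixF [tb6, tb16, tb6, tb16]) 14859 4953 = true := by decide +kernel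

theorem rel29_4 : PR.allR (PR.fixF [tb6, tb16, tb6, tb16]) 19812 4953 = true := by decide +kernel

theorem rel29_5 : PR.allR (PR.fixF [tb6, tb16, tb6, tb16]) 24765 4953 = true := by decide +kernel

theorem rel29_6 : PR.allR (PR.fixF [tb6, tb16, tb6, tb16]) 29718 1953 = true := by decide +kernel

theorem rel30_0 : PR.allR (PR.fixF [tb8, tb14, tb8, tb14]) 0 4953 = true := by decide +kernel

theorem rel30_1 : PR.allR (PR.fixF [tb8, tb14, tb8, tb14]) 4953 4953 = true := by decide +kernel

theorem rel30_2 : PR.allR (PR.fixF [tb8, tb14, tb8, tb14]) 9906 4953 = true := by decide +kernel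

theorem rel30_3 : PR.allR (PR.fixF [tb8, tb14, tb8, tb14]) 14859 4953 = true := by decide +kernel

theorem rel30_4 : PR.allR (PR.fixF [tb8, tb14, tb8, tb14]) 19812 4953 = true := by decide +kernel

theorem rel30_5 : PR.allR (PR.fixF [tb8, tb14, tb8, tb14]) 24765 4953 = true := by decide +kernel

theorem rel30_6 : PR.allR (PR.fixF [tb8, tb14, tb8, tb14]) 29718 1953 = true := by decide +kernel

theorem rel31_0 : PR.allR (PR.fixF [tb8, tb10, tb8, tb10, tb8, tb10]) 0 3302 = true := by decide +kernel

theorem rel31_1 : PR.allR (PR.fixF [tb8, tb10, tb8, tb10, tb8, tb10]) 3302 3302 = true := by decide +kernel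

theorem rel31_2 : PR.allR (PR.fixF [tb8, tb10, tb8, tb10, tb8, tb10]) 6604 3302 = true := by decide +kernel

theorem rel31_3 : PR.allR (PR.fixF [tb8, tb10, tb8, tb10, tb8, tb10]) 9906 3302 = true := by decide +kernel

theorem rel31_4 : PR.allR (PR.fixF [tb8, tb10, tb8, tb10, tb8, tb10]) 13208 3302 = true := by decide +kernel

theorem rel31_5 : PR.allR (PR.fixF [tb8, tb10, tb8, tb10, tb8, tb10]) 16510 3302 = true := by decide +kernel

theorem rel31_6 : PR.allR (PR.fixF [tb8, tb10, tb8, tb10, tb8, tb10]) 19812 3302 = true := by decide +kernel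

theorem rel31_7 : PR.allR (PR.fixF [tb8, tb10, tb8, tb10, tb8, tb10]) 23114 3302 = true := by decide +kernel

theorem rel31_8 : PR.allR (PR.fixF [tb8, tb10, tb8, tb10, tb8, tb10]) 26416 3302 = true := by decide +kernel

theorem rel31_9 : PR.allR (PR.fixF [tb8, tb10, tb8, tb10, tb8, tb10]) 29718 1953 = true := by decide +kernel

theorem rel32_0 : PR.allR (PR.fixF [tb8, tb12, tb8, tb12]) 0 4953 = true := by decide +kernel

theorem rel32_1 : PR.allR (PR.fixF [tb8, tb12, tb8, tb12]) 4953 4953 = true := by decide +kernel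

theorem rel32_2 : PR.allR (PR.fixF [tb8, tb12, tb8, tb12]) 9906 4953 = true := by decide +kernel

theorem rel32_3 : PR.allR (PR.fixF [tb8, tb12, tb8, tb12]) 14859 4953 = true := by decide +kernel

theorem rel32_4 : PR.allR (PR.fixF [tb8, tb12, tb8, tb12]) 19812 4953 = true := by decide +kernel

theorem rel32_5 : PR.allR (PR.fixF [tb8, tb12, tb8, tb12]) 24765 4953 = true := by decide +kernel

theorem rel32_6 : PR.allR (PR.fixF [tb8, tb12, tb8, tb12]) 29718 1953 = true := by decide +kernel

theorem rel33_0 : PR.allR (PR.fixF [tb8, tb18, tb8, tb18]) 0 4953 = true := by decide +kernel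

theorem rel33_1 : PR.allR (PR.fixF [tb8, tb18, tb8, tb18]) 4953 4953 = true := by decide +kernel

theorem rel33_2 : PR.allR (PR.fixF [tb8, tb18, tb8, tb18]) 9906 4953 = true := by decide +kernel

theorem rel33_3 : PR.allR (PR.fixF [tb8, tb18, tb8, tb18]) 14859 4953 = true := by decide +kernel

theorem rel33_4 : PR.allR (PR.fixF [tb8, tb18, tb8, tb18]) 19812 4953 = true := by decide +kernel

theorem rel33_5 : PR.allR (PR.fixF [tb8, tb18, tb8, tb18]) 24765 4953 = true := by decide +kernel

theorem rel33_6 : PR.allR (PR.fixF [tb8, tb18, tb8, tb18]) 29718 1953 = true := by decide +kernel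

theorem rel34_0 : PR.allR (PR.fixF [tb8, tb16, tb8, tb16]) 0 4953 = true := by decide +kernel

theorem rel34_1 : PR.allR (PR.fixF [tb8, tb16, tb8, tb16]) 4953 4953 = true := by decide +kernel

theorem rel34_2 : PR.allR (PR.fixF [tb8, tb16, tb8, tb16]) 9906 4953 = true := by decide +kernel

theorem rel34_3 : PR.allR (PR.fixF [tb8, tb16, tb8, tb16]) 14859 4953 = true := by decide +kernel

theorem rel34_4 : PR.allR (PR.fixF [tb8, tb16, tb8, tb16]) 19812 4953 = true := by decide +kernel

theorem rel34_5 : PR.allR (PR.fixF [tb8, tb16, tb8, tb16]) 24765 4953 = true := by decide +kernel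

theorem rel34_6 : PR.allR (PR.fixF [tb8, tb16, tb8, tb16]) 29718 1953 = true := by decide +kernel

theorem rel35_0 : PR.allR (PR.fixF [tb14, tb10, tb14, tb10]) 0 4953 = true := by decide +kernel

theorem rel35_1 : PR.allR (PR.fixF [tb14, tb10, tb14, tb10]) 4953 4953 = true := by decide +kernel

theorem rel35_2 : PR.allR (PR.fixF [tb14, tb10, tb14, tb10]) 9906 4953 = true := by decide +kernel

theorem rel35_3 : PR.allR (PR.fixF [tb14, tb10, tb14, tb10]) 14859 4953 = true := by decide +kernel

theorem rel35_4 : PR.allR (PR.fixF [tb14, tb10, tb14, tb10]) 19812 4953 = true := by decide +kernel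

theorem rel35_5 : PR.allR (PR.fixF [tb14, tb10, tb14, tb10]) 24765 4953 = true := by decide +kernel

theorem rel35_6 : PR.allR (PR.fixF [tb14, tb10, tb14, tb10]) 29718 1953 = true := by decide +kernel

theorem rel36_0 : PR.allR (PR.fixF [tb14, tb12, tb14, tb12]) 0 4953 = true := by decide +kernel

theorem rel36_1 : PR.allR (PR.fixF [tb14, tb12, tb14, tb12]) 4953 4953 = true := by decide +kernel

theorem rel36_2 : PR.allR (PR.fixF [tb14, tb12, tb14, tb12]) 9906 4953 = true := by decide +kernel

theorem rel36_3 : PR.allR (PR.fixF [tb14, tb12, tb14, tb12]) 14859 4953 = true := by decide +kernel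

theorem rel36_4 : PR.allR (PR.fixF [tb14, tb12, tb14, tb12]) 19812 4953 = true := by decide +kernel

theorem rel36_5 : PR.allR (PR.fixF [tb14, tb12, tb14, tb12]) 24765 4953 = true := by decide +kernel

theorem rel36_6 : PR.allR (PR.fixF [tb14, tb12, tb14, tb12]) 29718 1953 = true := by decide +kernel

theorem rel37_0 : PR.allR (PR.fixF [tb14, tb18, tb14, tb18]) 0 4953 = true := by decide +kernel

end Cfsg.Agent.Lib.Helper11.Fi23a
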