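import Cfsg.Agent.Lib.Helper11.Fi23aPT

set_option autoImplicit false
set_option maxRecDepth 1000000
set_option Elab.async false

namespace Cfsg.Agent.Lib.Helper11.Fi23a

open Cfsg.Agent.Lib.Helper11

theorem mp1_0_1 : PR.allR (PR.mapsF [tb0] 1 28160) 19815 8346 = true := by decide +kernel

theorem mp1_1_0 : PR.allR (PR.mapsF [tb2] 1 28160) 1 19814 = true := by decide +kernel

theorem mp1_1_1 : PR.allR (PR.mapsF [tb2] 1 28160) 19815 8346 = true := by decide +kernel

theorem mp1_2_0 : PR.allR (PR.mapsF [tb4] 1 28160) 1 19814 = true := by decide +kernel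

theorem mp1_2_1 : PR.allR (PR.mapsF [tb4] 1 28160) 19815 8346 = true := by decide +kernel

theorem mp1_3_0 : PR.allR (PR.mapsF [tb6] 1 28160) 1 19814 = true := by decide +kernel

theorem mp1_3_1 : PR.allR (PR.mapsF [tb6] 1 28160) 19815 8346 = true := by decide +kernel

theorem mp1_4_0 : PR.allR (PR.mapsF [tb8] 1 28160) 1 19814 = true := by decide +kernel

theorem mp1_4_1 : PR.allR (PR.mapsF [tb8] 1 28160) 19815 8346 = true := by decide +kernel

theorem mp1_5_0 : PR.allR (PR.mapsF [tb10] 1 28160) 1 19814 = true := by decide +kernel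

theorem mp1_5_1 : PR.allR (PR.mapsF [tb10] 1 28160) 19815 8346 = true := by decide +kernel

theorem mp1_6_0 : PR.allR (PR.mapsF [tb12] 1 28160) 1 19814 = true := by decide +kernel

theorem mp1_6_1 : PR.allR (PR.mapsF [tb12] 1 28160) 19815 8346 = true := by decide +kernel

theorem mp1_7_0 : PR.allR (PR.mapsF [tb14] 1 28160) 1 19814 = true := by decide +kernel

theorem mp1_7_1 : PR.allR (PR.mapsF [tb14] 1 28160) 19815 8346 = true := by decide +kernel

theorem mp1_8_0 : PR.allR (PR.mapsF [tb16] 1 28160) 1 19814 = true := by decide +kernel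

theorem mp1_8_1 : PR.allR (PR.mapsF [tb16] 1 28160) 19815 8346 = true := by decide +kernel

theorem tre1_0 : PR.allR (PR.treeF tbW [[tb0], [tb2], [tb4], [tb6], [tb8], [tb10], [tb12], [tb14], [tb16]] 1) 2 6604 = true := by decide +kernel

theorem tre1_1 : PR.allR (PR.treeF tbW [[tb0], [tb2], [tb4], [tb6], [tb8], [tb10], [tb12], [tb14], [tb16]] 1) 6606 6604 = true := by decide +kernel

theorem tre1_2 : PR.allR (PR.treeF tbW [[tb0], [tb2], [tb4], [tb6], [tb8], [tb10], [tb12], [tb14], [tb16]] 1) 13210 6604 = true := by decide +kernel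

theorem tre1_3 : PR.allR (PR.treeF tbW [[tb0], [tb2], [tb4], [tb6], [tb8], [tb10], [tb12], [tb14], [tb16]] 1) 19814 6604 = true := by decide +kernel

theorem tre1_4 : PR.allR (PR.treeF tbW [[tb0], [tb2], [tb4], [tb6], [tb8], [tb10], [tb12], [tb14], [tb16]] 1) 26418 1743 = true := by decide +kernel

theorem mp2_0_0 : PR.allR (PR.mapsF [tb0] 28161 31670) 28161 3510 = true := by decide +kernel

theorem mp2_1_0 : PR.allR (PR.mapsF [tb2] 28161 31670) 28161 3510 = true := by decide +kernel

theorem mp2_2_0 : PR.allR (PR.mapsF [tb4] 28161 31670) 28161 3510 = true := by decide +kernel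

theorem mp2_3_0 : PR.allR (PR.mapsF [tb6] 28161 31670) 28161 3510 = true := by decide +kernel

theorem mp2_4_0 : PR.allR (PR.mapsF [tb8] 28161 31670) 28161 3510 = true := by decide +kernel

theorem mp2_5_0 : PR.allR (PR.mapsF [tb10] 28161 31670) 28161 3510 = true := by decide +kernel

theorem mp2_6_0 : PR.allR (PR.mapsF [tb12] 28161 31670) 28161 3510 = true := by decide +kernel

theorem mp2_7_0 : PR.allR (PR.mapsF [tb14] 28161 31670) 28161 3510 = true := by decide +kernel

theorem mp2_8_0 : PR.allR (PR.mapsF [tb16] 28161 31670) 28161 3510 = true := by decide +kernel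

theorem tre2_0 : PR.allR (PR.treeF tbW [[tb0], [tb2], [tb4], [tb6], [tb8], [tb10], [tb12], [tb14], [tb16]] 28161) 28162 3509 = true := by decide +kernel

theorem root0 : PR.trace [] 0 = 0 := by decide +kernel

theorem root1 : PR.trace [tb18] 0 = 1 := by decide +kernel

theorem root2 : PR.trace [tb18, tb12, tb10, tb8, tb6, tb4, tb14, tb6, tb8, tb10, tb12, tb18] 0 = 28161 := by decide +kernel

end Cfsg.Agent.Lib.Helper11.Fi23a
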