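import Cfsg.Agent.Lib.Helper11.CoxGlue

/-! # Upper bounds for the order of groups generated by involutions subject to relator words,
by chains of coset enumerations -/

set_option autoImplicit false

namespace Cfsg.Agent.Lib.Helper11.UB

open Cfsg.Agent.Lib.Helper11.TC Cfsg.Agent.Lib.Helper11

/-- the type of the conclusion of a coset enumeration certificate -/
def Closed (n : ℕ) (F : ℕ → ℕ) (adm : List Adm) (letters : List (ℕ × ℕ)) : Prop :=
  ∀ {Q : Type} (act : ℕ → Q → Q) (q0 : Q), (∀ x, act 31 x = x) →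
      (∀ a ∈ adm, AdmOK act q0 a) → (∀ e ∈ letters, PairOK act e) →
      ∀ e ∈ letters, ∀ u < n, ∃ v ≤ n - 1, act e.1 (kap act q0 F u) = kap act q0 F v

theorem index_bound {G : Type} [Group G] (gen : ℕ → G) (h31 : gen 31 = 1)
    (hsq : ∀ l, gen l * gen l = 1) {rels subs : List (List ℕ)} {Ls : List ℕ}
    (hrel : ∀ r ∈ rels, ev gen r = 1)
    (hgen : Subgroup.closure {x | ∃ l ∈ Ls, x = gen l} = ⊤)
    {n : ℕ} (hn : 0 < n) {F : ℕ → ℕ} {adm : List Adm} {letters : List (ℕ × ℕ)}
    (hclosed : Closed n F adm letters)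
    (hadm : adm.all (admCheck (fun l => l) rels subs) = true)
    (hlet : letters = Ls.map (fun l => (l, l * 1048576))) (hL32 : ∀ l ∈ Ls, l < 32) :
    (Subgroup.closure {g | ∃ s ∈ subs, g = ev gen s}).index ≤ n ∧
    (Subgroup.closure {g | ∃ s ∈ subs, g = ev gen s}).index ≠ 0 := by
  set H : Subgroup G := Subgroup.closure {g | ∃ s ∈ subs, g = ev gen s} with hH
  have hinv : ∀ l, gen ((fun l => l) l) = (gen l)⁻¹ := fun l => eq_inv_of_mul_eq_one_left (hsq l)
  have hsub : ∀ s ∈ subs, ev gen s ∈ H := by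
    intro s hs
    rw [hH]; exact Subgroup.subset_closure ⟨s, hs, rfl⟩
  have hadm' : ∀ a ∈ adm, AdmOK (cact H gen) ((1 : G) : G ⧸ H) a := fun a ha =>
    admOK_of_check H gen _ _ subs h31 hinv hrel hsub a (List.all_eq_true.mp hadm a ha)
  have hpair : ∀ e ∈ letters, PairOK (cact H gen) e := by
    intro e he
    rw [hlet] at he
    obtain ⟨l, hl, rfl⟩ := List.mem_map.mp he
    refine ⟨hL32 l hl, l, hL32 l hl, rfl, ?_, ?_⟩ <;>
    · intro x
      simp only [cact]
      rw [← mul_smul, ← mul_inv_rev, hsq]; simp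
  have hcl := hclosed (cact H gen) ((1 : G) : G ⧸ H) (cact_31 H gen h31) hadm' hpair
  have hsurj := index_le_of_closed H (kap (cact H gen) ((1 : G) : G ⧸ H) F) n hn
    (kap_zero _ _ _) {g | ∃ l ∈ Ls, g = (gen l)⁻¹} (by
      apply Cox.submonoid_closure_top
      · rw [← hgen]
        congr 1
        ext x
        constructor
        · rintro ⟨l, hl, rfl⟩; exact ⟨l, hl, (hinv l).symm⟩
        · rintro ⟨l, hl, rfl⟩; exact ⟨l, hl, hinv l⟩
      · rintro _ ⟨l, hl, rfl⟩
        exact ⟨l, hl, by rw [inv_inv]; exact hinv l⟩) (by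
      rintro _ ⟨l, hl, rfl⟩ u hu
      obtain ⟨v, hv, hv2⟩ := hcl (l, l * 1048576) (by rw [hlet]; exact List.mem_map_of_mem hl) u hu
      exact ⟨v, by omega, hv2⟩)
  exact index_le_of_surj H _ n hsurj

/-- Every group generated by involutions `g l`, `l ∈ Ls`, satisfying the words `rels` is finite of
order at most `N`. -/
def Bound (Ls : List ℕ) (rels : List (List ℕ)) (N : ℕ) : Prop :=
  ∀ (Γ : Type) [Group Γ] (g : ℕ → Γ), (∀ l, g l * g l = 1) → (∀ r ∈ rels, ev g r = 1) →
    Finite (Subgroup.closure {x | ∃ l ∈ Ls, x = g l}) ∧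
    Nat.card (Subgroup.closure {x | ∃ l ∈ Ls, x = g l}) ≤ N

theorem Bound.nil (rels : List (List ℕ)) : Bound [] rels 1 := by
  intro Γ _ g _ _
  have : {x | ∃ l ∈ ([] : List ℕ), x = g l} = (∅ : Set Γ) := by ext; simp
  rw [this, Subgroup.closure_empty]
  exact ⟨inferInstance, by simp⟩

theorem Bound.step {Ls Ls' : List ℕ} {rels rels' subs : List (List ℕ)} {n N' : ℕ} (hn : 0 < n)
    {F : ℕ → ℕ} {adm : List Adm} {letters : List (ℕ × ℕ)}
    (hclosed : Closed n F adm letters)
    (hadm : adm.all (admCheck (fun l => l) rels subs) = true)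
    (hlet : letters = Ls.map (fun l => (l, l * 1048576))) (hL31 : ∀ l ∈ Ls, l < 31)
    (hwl : ∀ r ∈ rels, ∀ l ∈ r, l ∈ Ls)
    (hsubs : subs = Ls'.map (fun l => [l])) (hLs' : ∀ l ∈ Ls', l ∈ Ls)
    (hrels' : rels'.all (fun r' => rels.any (fun r => isRot r r')) = true)
    (hB : Bound Ls' rels' N') : Bound Ls rels (n * N') := by
  intro Γ _ g hsq hrel
  classical
  set K : Subgroup Γ := Subgroup.closure {x | ∃ l ∈ Ls, x = g l} with hK
  let gen : ℕ → K := fun l => if h : l ∈ Ls then ⟨g l, Subgroup.subset_closure ⟨l, h, rfl⟩⟩ else 1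
  have hgen_coe : ∀ l ∈ Ls, ((gen l : K) : Γ) = g l := by
    intro l hl; simp only [gen, dif_pos hl]
  have h31 : gen 31 = 1 := by
    have : 31 ∉ Ls := fun h => by have := hL31 31 h; omega
    simp only [gen, dif_neg this]
  have hsq' : ∀ l, gen l * gen l = 1 := by
    intro l
    by_cases h : l ∈ Ls
    · apply Subtype.ext
      rw [Subgroup.coe_mul, hgen_coe l h, hsq]; rfl
    · simp only [gen, dif_neg h, mul_one]
  have hev : ∀ w : List ℕ, (∀ l ∈ w, l ∈ Ls) → ((ev gen w : K) : Γ) = ev g w := by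
    intro w hw
    induction w with
    | nil => rfl
    | cons l w ih =>
      rw [ev_cons, ev_cons, Subgroup.coe_mul, hgen_coe l (hw l List.mem_cons_self),
        ih (fun l' hl' => hw l' (List.mem_cons_of_mem _ hl'))]
  have hrel' : ∀ r ∈ rels, ev gen r = 1 := by
    intro r hr
    apply Subtype.ext
    rw [hev r (hwl r hr), hrel r hr]; rfl
  have hgen : Subgroup.closure {x : K | ∃ l ∈ Ls, x = gen l} = ⊤ := by
    have h1 : (Subgroup.closure {x : K | ∃ l ∈ Ls, x = gen l}).map K.subtype = K := by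
      rw [MonoidHom.map_closure]
      have h2 : (K.subtype '' {x : K | ∃ l ∈ Ls, x = gen l}) = {x | ∃ l ∈ Ls, x = g l} := by
        ext x
        constructor
        · rintro ⟨_, ⟨l, hl, rfl⟩, rfl⟩; exact ⟨l, hl, hgen_coe l hl⟩
        · rintro ⟨l, hl, rfl⟩; exact ⟨gen l, ⟨l, hl, rfl⟩, hgen_coe l hl⟩
      rw [h2]
    rw [eq_top_iff]
    intro x _
    have hx : (x : Γ) ∈ (Subgroup.closure {x : K | ∃ l ∈ Ls, x = gen l}).map K.subtype := by
      rw [h1]; exact x.2
    obtain ⟨y, hy, hyx⟩ := hx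
    have : y = x := Subtype.ext hyx
    rwa [← this]
  obtain ⟨hi1, hi2⟩ := index_bound gen h31 hsq' hrel' hgen hn hclosed hadm hlet
    (fun l hl => by have := hL31 l hl; omega)
  set H : Subgroup K := Subgroup.closure {g | ∃ s ∈ subs, g = ev gen s} with hH
  -- the subgroup H is the group generated by the letters of Ls'
  have hHmap : H.map K.subtype = Subgroup.closure {x | ∃ l ∈ Ls', x = g l} := by
    rw [hH, MonoidHom.map_closure]
    congr 1
    ext x
    constructor
    · rintro ⟨_, ⟨s, hs, rfl⟩, rfl⟩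
      rw [hsubs] at hs
      obtain ⟨l, hl, rfl⟩ := List.mem_map.mp hs
      refine ⟨l, hl, ?_⟩
      simp only [Subgroup.coe_subtype, ev_cons, ev_nil, mul_one]
      exact hgen_coe l (hLs' l hl)
    · rintro ⟨l, hl, rfl⟩
      refine ⟨ev gen [l], ⟨[l], by rw [hsubs]; exact List.mem_map_of_mem hl, rfl⟩, ?_⟩
      simp only [Subgroup.coe_subtype, ev_cons, ev_nil, mul_one]
      exact hgen_coe l (hLs' l hl)
  have hrel2 : ∀ r ∈ rels', ev g r = 1 := by
    intro r hr
    exact ev_of_any_isRot g rels r (List.all_eq_true.mp hrels' r hr) hrel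
  obtain ⟨hf, hc⟩ := hB Γ g hsq hrel2
  rw [← hHmap] at hf hc
  have hcard : Nat.card (H.map K.subtype) = Nat.card H :=
    Nat.card_congr (Subgroup.equivMapOfInjective H K.subtype K.subtype_injective).symm.toEquiv
  have hfH : Finite H :=
    Finite.of_equiv _ (Subgroup.equivMapOfInjective H K.subtype K.subtype_injective).symm.toEquiv
  have hfi : H.FiniteIndex := ⟨hi2⟩
  have hfK : Finite K := by
    have : Finite (K ⧸ H) := Subgroup.finite_quotient_of_finiteIndex
    exact Finite.of_equiv _ (Subgroup.groupEquivQuotientProdSubgroup (s := H)).symm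
  refine ⟨hfK, ?_⟩
  rw [← Subgroup.index_mul_card H]
  rw [hcard] at hc
  exact Nat.mul_le_mul hi1 hc

open Cfsg.Spor in
theorem card_le_of_bound {α : Type} [DecidableEq α] {edges : List (α × ℕ × α)}
    {extra : List (FreeGroup α)} {dec : ℕ → Option α} {code : α → ℕ} {Ls : List ℕ}
    {coxW extraW : List (List ℕ)} (E : Cox.Enc edges extra dec code Ls coxW extraW) {N : ℕ}
    (hB : Bound Ls (coxW ++ extraW) N) :
    Finite (CoxPresented α edges extra) ∧ Nat.card (CoxPresented α edges extra) ≤ N := by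
  have hsq : ∀ l, Cox.genOf dec (PresentedGroup.of : α → CoxPresented α edges extra) l *
      Cox.genOf dec (PresentedGroup.of : α → CoxPresented α edges extra) l = 1 := by
    intro l
    simp only [Cox.genOf]
    cases dec l with
    | none => simp
    | some x => exact Cox.of_sq x (E.node x)
  obtain ⟨hf, hc⟩ := hB (CoxPresented α edges extra) _ hsq (Cox.words_hold E)
  have htop : Subgroup.closure {x | ∃ l ∈ Ls, x =
      Cox.genOf dec (PresentedGroup.of : α → CoxPresented α edges extra) l} = ⊤ := by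
    rw [eq_top_iff, ← PresentedGroup.closure_range_of, Subgroup.closure_le]
    rintro _ ⟨x, rfl⟩
    apply Subgroup.subset_closure
    exact ⟨code x, E.code_ls x, (Cox.genOf_code dec code E.dec_code _ x).symm⟩
  rw [htop] at hf hc
  refine ⟨Finite.of_equiv _ Subgroup.topEquiv.toEquiv, ?_⟩
  rwa [Nat.card_congr Subgroup.topEquiv.toEquiv] at hc

end Cfsg.Agent.Lib.Helper11.UB
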