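import Cfsg.Agent.Lib.Helper11.SimpleMaster2
import Cfsg.Agent.Lib.Helper11.OrderUB

/-! # Master theorems for groups with a presentation on letters with inverses
(the generators need not be involutions) -/

set_option autoImplicit false

namespace Cfsg.Agent.Lib.Helper11.GM

open Cfsg.Agent.Lib.Helper11.TC Cfsg.Agent.Lib.Helper11

/-- `G` is presented by the letters `Ls` (closed under the formal inverse `inv`) and the relator
words `rels`. -/
structure Pres (G : Type) [Group G] (gen : ℕ → G) (inv : ℕ → ℕ) (Ls : List ℕ)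
    (rels : List (List ℕ)) : Prop where
  h31 : gen 31 = 1
  hinv : ∀ l, gen (inv l) = (gen l)⁻¹
  hrel : ∀ r ∈ rels, ev gen r = 1
  hgen : Subgroup.closure {x | ∃ l ∈ Ls, x = gen l} = ⊤
  lift : ∀ (P : Type) [Group P] (p : ℕ → P), (∀ l ∈ Ls, p (inv l) = (p l)⁻¹) →
    (∀ r ∈ rels, ev p r = 1) → ∃ φ : G →* P, ∀ l ∈ Ls, φ (gen l) = p l
  invm : ∀ l ∈ Ls, inv l ∈ Ls
  l31 : ∀ l ∈ Ls, l < 31
  wl : ∀ r ∈ rels, ∀ l ∈ r, l ∈ Ls

variable {G : Type} [Group G] {gen : ℕ → G} {inv : ℕ → ℕ} {Ls : List ℕ} {rels : List (List ℕ)}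

theorem index_bound (Pr : Pres G gen inv Ls rels) {subs : List (List ℕ)}
    {n : ℕ} (hn : 0 < n) {F : ℕ → ℕ} {adm : List Adm} {letters : List (ℕ × ℕ)}
    (hclosed : UB.Closed n F adm letters)
    (hadm : adm.all (admCheck inv rels subs) = true)
    (hlet : letters = Ls.map (fun l => (l, inv l * 1048576))) :
    (Subgroup.closure {g | ∃ s ∈ subs, g = ev gen s}).index ≤ n ∧
    (Subgroup.closure {g | ∃ s ∈ subs, g = ev gen s}).index ≠ 0 := by
  set H : Subgroup G := Subgroup.closure {g | ∃ s ∈ subs, g = ev gen s} with hH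
  have hsub : ∀ s ∈ subs, ev gen s ∈ H := by
    intro s hs
    rw [hH]; exact Subgroup.subset_closure ⟨s, hs, rfl⟩
  have hadm' : ∀ a ∈ adm, AdmOK (cact H gen) ((1 : G) : G ⧸ H) a := fun a ha =>
    admOK_of_check H gen _ _ subs Pr.h31 Pr.hinv Pr.hrel hsub a (List.all_eq_true.mp hadm a ha)
  have hpair : ∀ e ∈ letters, PairOK (cact H gen) e := by
    intro e he
    rw [hlet] at he
    obtain ⟨l, hl, rfl⟩ := List.mem_map.mp he
    refine ⟨by have := Pr.l31 l hl; omega, inv l, by have := Pr.l31 _ (Pr.invm l hl); omega,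
      rfl, ?_, ?_⟩ <;>
    · intro x
      simp only [cact]
      rw [← mul_smul, ← mul_inv_rev, Pr.hinv]; simp
  have hcl := hclosed (cact H gen) ((1 : G) : G ⧸ H) (cact_31 H gen Pr.h31) hadm' hpair
  have hsurj := index_le_of_closed H (kap (cact H gen) ((1 : G) : G ⧸ H) F) n hn
    (kap_zero _ _ _) {g | ∃ l ∈ Ls, g = (gen l)⁻¹} (by
      apply Cox.submonoid_closure_top
      · rw [← Pr.hgen]
        congr 1
        ext x
        constructor
        · rintro ⟨l, hl, rfl⟩; exact ⟨inv l, Pr.invm l hl, (Pr.hinv l).symm⟩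
        · rintro ⟨l, hl, rfl⟩; exact ⟨inv l, Pr.invm l hl, by rw [Pr.hinv, inv_inv]⟩
      · rintro _ ⟨l, hl, rfl⟩
        exact ⟨inv l, Pr.invm l hl, by rw [Pr.hinv]⟩) (by
      rintro _ ⟨l, hl, rfl⟩ u hu
      obtain ⟨v, hv, hv2⟩ := hcl (l, inv l * 1048576)
        (by rw [hlet]; exact List.mem_map_of_mem (f := fun l => (l, inv l * 1048576)) hl) u hu
      exact ⟨v, by omega, hv2⟩)
  exact index_le_of_surj H _ n hsurj

/-- bound for the order: a coset enumeration over a subgroup generated by involution letters whose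
order is bounded by a chain of enumerations -/
theorem card_bound (Pr : Pres G gen inv Ls rels) {subs : List (List ℕ)}
    {n : ℕ} (hn : 0 < n) {F : ℕ → ℕ} {adm : List Adm} {letters : List (ℕ × ℕ)}
    (hclosed : UB.Closed n F adm letters)
    (hadm : adm.all (admCheck inv rels subs) = true)
    (hlet : letters = Ls.map (fun l => (l, inv l * 1048576)))
    {Ls' : List ℕ} {rels' : List (List ℕ)} {N' : ℕ}
    (hsubs : subs = Ls'.map (fun l => [l]))
    (hsq : ∀ l ∈ Ls', inv l = l) (hwl' : ∀ r ∈ rels', ∀ l ∈ r, l ∈ Ls')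
    (hrels' : rels'.all (fun r' => rels.any (fun r => isRot r r')) = true)
    (hB : UB.Bound Ls' rels' N') : Finite G ∧ Nat.card G ≤ n * N' := by
  classical
  obtain ⟨hi1, hi2⟩ := index_bound Pr hn hclosed hadm hlet
  set H : Subgroup G := Subgroup.closure {g | ∃ s ∈ subs, g = ev gen s} with hH
  let g' : ℕ → G := fun l => if l ∈ Ls' then gen l else 1
  have hg' : ∀ l ∈ Ls', g' l = gen l := fun l hl => by simp only [g', if_pos hl]
  have hsq' : ∀ l, g' l * g' l = 1 := by
    intro l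
    by_cases h : l ∈ Ls'
    · rw [hg' l h]
      have := Pr.hinv l
      rw [hsq l h] at this
      nth_rewrite 1 [this]
      simp
    · simp only [g', if_neg h, mul_one]
  have hev : ∀ w : List ℕ, (∀ l ∈ w, l ∈ Ls') → ev g' w = ev gen w := by
    intro w hw
    induction w with
    | nil => rfl
    | cons l w ih =>
      rw [ev_cons, ev_cons, hg' l (hw l List.mem_cons_self),
        ih (fun l' hl' => hw l' (List.mem_cons_of_mem _ hl'))]
  have hrel2 : ∀ r ∈ rels', ev g' r = 1 := by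
    intro r hr
    rw [hev r (hwl' r hr)]
    exact ev_of_any_isRot gen rels r (List.all_eq_true.mp hrels' r hr) Pr.hrel
  obtain ⟨hf, hc⟩ := hB G g' hsq' hrel2
  have hHeq : Subgroup.closure {x | ∃ l ∈ Ls', x = g' l} = H := by
    rw [hH]
    congr 1
    ext x
    constructor
    · rintro ⟨l, hl, rfl⟩
      refine ⟨[l], by rw [hsubs]; exact List.mem_map_of_mem (f := fun l => [l]) hl, ?_⟩
      simp only [ev_cons, ev_nil, mul_one]
      exact hg' l hl
    · rintro ⟨s, hs, rfl⟩
      rw [hsubs] at hs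
      obtain ⟨l, hl, rfl⟩ := List.mem_map.mp hs
      refine ⟨l, hl, ?_⟩
      simp only [ev_cons, ev_nil, mul_one]
      exact (hg' l hl).symm
  rw [hHeq] at hf hc
  have hfi : H.FiniteIndex := ⟨hi2⟩
  have hfK : Finite G := by
    have : Finite (G ⧸ H) := Subgroup.finite_quotient_of_finiteIndex
    exact Finite.of_equiv _ (Subgroup.groupEquivQuotientProdSubgroup (s := H)).symm
  refine ⟨hfK, ?_⟩
  rw [← Subgroup.index_mul_card H]
  exact Nat.mul_le_mul hi1 hc

/-- the permutation representation given by verified tables -/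
theorem exists_rep (Pr : Pres G gen inv Ls rels)
    {n : ℕ} {tbl : ℕ → ℕ → ℕ} (hT : PR.Tables n tbl inv Ls)
    (hR : ∀ r ∈ rels, ∀ u < n, PR.trace (r.map tbl) u = u) :
    ∃ φ : G →* Equiv.Perm (Fin n), ∀ l ∈ Ls, φ (gen l) = PR.pg n tbl inv Ls l :=
  Pr.lift _ (PR.pg n tbl inv Ls) (fun l hl => PR.pg_inv hT l hl)
    (fun r hr => PR.ev_pg_eq_one hT r (Pr.wl r hr) (hR r hr))

/-- index and suborbits -/
theorem index_master (Pr : Pres G gen inv Ls rels) {subs : List (List ℕ)}
    {n : ℕ} {F : ℕ → ℕ} {adm : List Adm} {letters : List (ℕ × ℕ)}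
    {tbl : ℕ → ℕ → ℕ} {ivs : List (ℕ × ℕ)}
    (hclosed : UB.Closed n F adm letters)
    (hadm : adm.all (admCheck inv rels subs) = true)
    (hlet : letters = Ls.map (fun l => (l, inv l * 1048576)))
    (hT : PR.Tables n tbl inv Ls)
    (hR : ∀ r ∈ rels, ∀ u < n, PR.trace (r.map tbl) u = u)
    (hO : PR.Orbits n tbl Ls subs ivs) :
    (Subgroup.closure {g | ∃ s ∈ subs, g = ev gen s}).index = n := by
  have hn : 0 < n := by
    have := (hO.le _ hO.first); simp at this; omega
  obtain ⟨hi1, hi2⟩ := index_bound Pr hn hclosed hadm hlet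
  obtain ⟨φ, hφ⟩ := exists_rep Pr hT hR
  exact (PR.main hT hO φ gen hφ _ rfl hi1 hi2).1

/-- Order, faithfulness and the solution of the word problem by base images. -/
theorem order_master
    {n N : ℕ} {tbl : ℕ → ℕ → ℕ} (hT : PR.Tables n tbl inv Ls)
    (φ : G →* Equiv.Perm (Fin n))
    (hφ : ∀ l ∈ Ls, φ (gen l) = PR.pg n tbl inv Ls l)
    (hUB : Finite G ∧ Nat.card G ≤ N)
    (base : List ℕ) (hbase : ∀ β ∈ base, β < n)
    (hLB : ∀ c, c ≤ Nat.card (PR.stabChain (PR.letterGroup n tbl inv Ls) base) →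
      N * c ≤ Nat.card (PR.letterGroup n tbl inv Ls))
    (hN : 0 < N) :
    Nat.card G = N ∧ Function.Injective φ ∧
    ∀ w : List ℕ, (∀ l ∈ w, l ∈ Ls) → (∀ β ∈ base, PR.trace (w.map tbl) β = β) →
      ev gen w = 1 := by
  obtain ⟨hfin, hle⟩ := hUB
  set A := PR.letterGroup n tbl inv Ls with hA
  have hAr : A ≤ φ.range := by
    rw [hA, PR.letterGroup, Subgroup.closure_le]
    rintro _ ⟨l, hl, rfl⟩
    exact ⟨gen l, hφ l hl⟩
  have h1 : Nat.card A ≤ Nat.card φ.range := Subgroup.card_le_of_le hAr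
  have h2 : Nat.card φ.range ≤ Nat.card G :=
    Nat.card_le_card_of_surjective φ.rangeRestrict φ.rangeRestrict_surjective
  have h3 : N ≤ Nat.card A := by
    have := hLB 1 (Nat.card_pos)
    omega
  have hcard : Nat.card G = N := by omega
  have hinj : Function.Injective φ := by
    have hb := Function.Surjective.bijective_of_nat_card_le φ.rangeRestrict_surjective
      (by omega : Nat.card G ≤ Nat.card φ.range)
    intro a b hab
    apply hb.1
    exact Subtype.ext hab
  have hbot : PR.stabChain A base = ⊥ := by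
    have h4 := hLB _ le_rfl
    have h5 : Nat.card (PR.stabChain A base) ≤ 1 := by
      by_contra hcon
      have : N * 2 ≤ N * Nat.card (PR.stabChain A base) := Nat.mul_le_mul_left _ (by omega)
      omega
    exact Subgroup.eq_bot_of_card_le _ h5
  refine ⟨hcard, hinj, ?_⟩
  intro w hw hfix
  have h6 := PR.ev_inv_mem_stabChain hT w hw base (fun β hβ => ⟨hbase β hβ, hfix β hβ⟩)
  rw [← hA, hbot, Subgroup.mem_bot, inv_eq_one] at h6
  apply hinj
  rw [PR.map_ev φ gen _ Ls hφ w hw, h6, map_one]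

/-- the formal inverse of a word -/
def invW (inv : ℕ → ℕ) (w : List ℕ) : List ℕ := (w.map inv).reverse

theorem ev_invW {Γ : Type*} [Group Γ] (g : ℕ → Γ) (inv : ℕ → ℕ) (hinv : ∀ l, g (inv l) = (g l)⁻¹)
    (w : List ℕ) : ev g (invW inv w) = (ev g w)⁻¹ := by
  induction w with
  | nil => simp [invW]
  | cons l w ih =>
    have : invW inv (l :: w) = invW inv w ++ [inv l] := by simp [invW]
    rw [this, Simp.ev_append, ih, ev_cons, ev_cons, ev_nil, mul_one, hinv, mul_inv_rev]

/-- product of conjugates of the word `xw` -/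
def conjWord (inv : ℕ → ℕ) (xw : List ℕ) (cs : List (List ℕ)) : List ℕ :=
  cs.flatMap (fun c => c ++ xw ++ invW inv c)

theorem conjWord_mem {Γ : Type*} [Group Γ] (g : ℕ → Γ) (inv : ℕ → ℕ)
    (hinv : ∀ l, g (inv l) = (g l)⁻¹) (M : Subgroup Γ) (hM : M.Normal) (xw : List ℕ)
    (hx : ev g xw ∈ M) (cs : List (List ℕ)) : ev g (conjWord inv xw cs) ∈ M := by
  induction cs with
  | nil => exact M.one_mem
  | cons c cs ih =>
    have : conjWord inv xw (c :: cs) = (c ++ xw ++ invW inv c) ++ conjWord inv xw cs := rfl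
    rw [this, Simp.ev_append, Simp.ev_append, Simp.ev_append, ev_invW g inv hinv]
    exact M.mul_mem (hM.conj_mem _ hx _) ih

/-- the collapse property used by the master theorem -/
def Collapses (inv : ℕ → ℕ) (Ls : List ℕ) (rels : List (List ℕ)) (s : ℕ) : Prop :=
  ∀ (Γ : Type) [Group Γ] (g : ℕ → Γ), (∀ l, g (inv l) = (g l)⁻¹) → g 31 = 1 →
    (∀ r ∈ rels, ev g r = 1) → g s = 1 → ∀ l ∈ Ls, g l = 1

open Simp in
/-- **Master theorem for order and simplicity.** -/
theorem simple_master (Pr : Pres G gen inv Ls rels)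
    {n N : ℕ} {tbl : ℕ → ℕ → ℕ} {subs : List (List ℕ)} {tl : List (ℕ × ℕ)}
    (hT : PR.Tables n tbl inv Ls)
    (hR : ∀ r ∈ rels, ∀ u < n, PR.trace (r.map tbl) u = u)
    (hO : PR.Orbits n tbl Ls subs ((0, 1) :: tl))
    (hUB : Finite G ∧ Nat.card G ≤ N)
    (base : List ℕ) (hbase : ∀ β ∈ base, β < n)
    (hLB : ∀ c, c ≤ Nat.card (PR.stabChain (PR.letterGroup n tbl inv Ls) base) →
      N * c ≤ Nat.card (PR.letterGroup n tbl inv Ls))
    (hN : 1 < N)
    (hchain : isChain tl 1 n = true)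
    (harith : ∀ s ∈ sums tl, (1 + s) ∣ n → s = 0 ∨ 1 + s = n)
    (e : ℕ) (hcop : Nat.Coprime e (N / n))
    (xw : List ℕ) (hxw : ∀ l ∈ xw, l ∈ Ls)
    (hxe : ∀ β ∈ base, PR.trace (((List.replicate e xw).flatten).map tbl) β = β)
    (s : ℕ) (hs : s ∈ Ls) (cs : List (List ℕ)) (hcs : ∀ c ∈ cs, ∀ l ∈ c, l ∈ Ls)
    (hid : ∀ β ∈ base, PR.trace ((s :: conjWord inv xw cs).map tbl) β = β)
    (hkill : Collapses inv Ls rels s) :
    IsSimpleGroup G ∧ Nat.card G = N := by
  obtain ⟨φ, hφ⟩ := exists_rep Pr hT hR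
  obtain ⟨hcard, hinj, hwp⟩ := order_master hT φ hφ hUB base hbase hLB (by omega)
  have hfin := hUB.1
  refine ⟨?_, hcard⟩
  have hn : 0 < n := by
    have := (hO.le _ hO.first); simp at this; omega
  obtain ⟨htr, horb⟩ := PR.act_facts hT hO φ gen hφ hn
  let _ : MulAction G (Fin n) := MulAction.compHom (Fin n) φ
  have smul_def : ∀ (g : G) (u : Fin n), g • u = φ g u := fun g u => rfl
  have : FaithfulSMul G (Fin n) := ⟨fun {a b} h => hinj (Equiv.ext h)⟩
  have : Nontrivial G := by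
    rw [← Finite.one_lt_card_iff_nontrivial, hcard]; exact hN
  have htrans : MulAction.orbit G (⟨0, hn⟩ : Fin n) = Set.univ := by
    rw [Set.eq_univ_iff_forall]
    intro u
    obtain ⟨g, hg⟩ := htr u
    exact ⟨g, hg⟩
  have hmax := maximal_stab (G := G) (⟨0, hn⟩ : Fin n) rfl htrans tl
    (fun iv hiv u v h1 h2 h3 h4 => by
      obtain ⟨k, hk1, hk2⟩ := horb iv (List.mem_cons_of_mem _ hiv) u v h1 h2 h3 h4
      exact ⟨k, hk1, hk2⟩) hchain harith
  have hidx : (MulAction.stabilizer G (⟨0, hn⟩ : Fin n)).index = n := by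
    rw [MulAction.index_stabilizer, htrans, Set.ncard_univ]; simp
  have hst : Nat.card (MulAction.stabilizer G (⟨0, hn⟩ : Fin n)) = N / n := by
    have := Subgroup.index_mul_card (MulAction.stabilizer G (⟨0, hn⟩ : Fin n))
    rw [hidx, hcard] at this
    exact (Nat.div_eq_of_eq_mul_right hn this.symm).symm
  apply simple_of_maximal (⟨0, hn⟩ : Fin n) htrans hmax e (by rw [hst]; exact hcop) (ev gen xw)
  · rw [← Cox.ev_flatten_replicate]
    apply hwp _ _ hxe
    intro l hl
    obtain ⟨w, hw, hlw⟩ := List.mem_flatten.mp hl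
    rw [List.eq_of_mem_replicate hw] at hlw
    exact hxw l hlw
  · intro M hM hx
    have h1 : ev gen (s :: conjWord inv xw cs) = 1 := by
      apply hwp _ _ hid
      intro l hl
      rcases List.mem_cons.mp hl with rfl | hl
      · exact hs
      · obtain ⟨c, hc, hlc⟩ := List.mem_flatMap.mp hl
        simp only [List.mem_append, invW, List.mem_reverse, List.mem_map] at hlc
        rcases hlc with (h | h) | ⟨l', h, rfl⟩
        · exact hcs c hc l h
        · exact hxw l h
        · exact Pr.invm _ (hcs c hc l' h)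
    have h2 : gen s ∈ M := by
      rw [ev_cons] at h1
      rw [eq_inv_of_mul_eq_one_left h1]
      exact M.inv_mem (conjWord_mem gen inv Pr.hinv M hM xw hx cs)
    have hq : ∀ w : List ℕ, ev (fun l => (gen l : G ⧸ M)) w = ((ev gen w : G) : G ⧸ M) := by
      intro w
      induction w with
      | nil => rfl
      | cons l w ih => rw [ev_cons, ev_cons, ih]; rfl
    have h3 := hkill (G ⧸ M) (fun l => (gen l : G ⧸ M))
      (fun l => by
        show ((gen (inv l) : G) : G ⧸ M) = ((gen l : G) : G ⧸ M)⁻¹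
        rw [Pr.hinv]; rfl)
      (by show ((gen 31 : G) : G ⧸ M) = 1
          rw [Pr.h31]; rfl)
      (fun r hr => by rw [hq, Pr.hrel r hr]; rfl)
      ((QuotientGroup.eq_one_iff _).mpr h2)
    rw [eq_top_iff, ← Pr.hgen, Subgroup.closure_le]
    rintro _ ⟨l, hl, rfl⟩
    exact (QuotientGroup.eq_one_iff _).mp (h3 l hl)

end Cfsg.Agent.Lib.Helper11.GM
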