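import Cfsg.Agent.Lib.Helper11.WordGroup

/-! # Complements to `GenMaster` for presentations on involutions -/

set_option autoImplicit false

namespace Cfsg.Agent.Lib.Helper11.GM

open Cfsg.Agent.Lib.Helper11.TC Cfsg.Agent.Lib.Helper11

theorem sq_of_inv {G : Type*} [Group G] {gen : ℕ → G} {inv : ℕ → ℕ}
    (hinv : ∀ l, gen (inv l) = (gen l)⁻¹) (hid : ∀ l, inv l = l) (l : ℕ) : gen l * gen l = 1 := by
  have := hinv l
  rw [hid] at this
  nth_rewrite 1 [this]
  simp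

theorem card_le_of_bound {G : Type} [Group G] {gen : ℕ → G} {inv : ℕ → ℕ} {Ls : List ℕ}
    {rels : List (List ℕ)} (Pr : Pres G gen inv Ls rels) (hid : ∀ l, inv l = l) {N : ℕ}
    (hB : UB.Bound Ls rels N) : Finite G ∧ Nat.card G ≤ N := by
  obtain ⟨hf, hc⟩ := hB G gen (sq_of_inv Pr.hinv hid) Pr.hrel
  rw [Pr.hgen] at hf hc
  refine ⟨Finite.of_equiv _ Subgroup.topEquiv.toEquiv, ?_⟩
  rwa [Nat.card_congr Subgroup.topEquiv.toEquiv] at hc

theorem collapses_of_kill {inv : ℕ → ℕ} {Ls : List ℕ} {rels : List (List ℕ)} {s : ℕ}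
    (hid : ∀ l, inv l = l) (fuel : ℕ) (h : ∀ l ∈ Ls, l ∈ Simp.killIter rels fuel [s]) :
    Collapses inv Ls rels s := by
  intro Γ _ g hinv h31 hrel hs l hl
  exact Simp.killIter_sound g (sq_of_inv hinv hid) rels hrel fuel [s]
    (fun l hl => by rw [List.mem_singleton] at hl; subst hl; exact hs) l (h l hl)

end Cfsg.Agent.Lib.Helper11.GM
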