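import Cfsg.Agent.Lib.Helper11.J1Simple
import Cfsg.Prelude.Def_Spor_J1

/-! # The presented group `J1S.P` and Janko's matrices -/

set_option autoImplicit false
set_option maxRecDepth 100000

namespace Cfsg.Agent.Lib.Helper11.J1M

open Matrix Cfsg.Agent.Lib.Helper11 Cfsg.Agent.Lib.Helper11.TC

abbrev M7 := Matrix (Fin 7) (Fin 7) (ZMod 11)

def dg : ℕ → ZMod 11
  | 0 => 0
  | 1 => 1
  | 2 => 2
  | 3 => 3
  | 4 => 4
  | 5 => 5
  | 6 => 6
  | 7 => 7
  | 8 => 8
  | 9 => 9
  | _ => 10

/-- the matrix with the given code in base 11 -/
def mx (c : ℕ) : M7 := fun i j => dg (c / 11 ^ (7 * i.val + j.val) % 11)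

def mat : ℕ → M7
  | 0 => mx 970172338301314200817573430206289219702813104723243
  | 2 => mx 877674318126269968758852510227430027753966680887932
  | 4 => mx 97017238310797740333575740133326271185722368571883
  | 6 => mx 297466779940393022057944336556718391306400472953514
  | 8 => mx 97017238310797721331176580668435032554254000425483
  | _ => 1

def mxy : ℕ → M7
  | 0 => Cfsg.jankoMatrixX
  | _ => Cfsg.jankoMatrixY

theorem mx_one : mx 97017234237464720195340918138392575865960457120487 = 1 := by decide +kernel

theorem mx_X : mx 59742217373217410912008818046396455710289787 = Cfsg.jankoMatrixX := by decide +kernel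

theorem mx_Y : mx 124412789792502026216006414760324641976925555873257 = Cfsg.jankoMatrixY := by decide +kernel

theorem rl0_2 : (mat 0 * (mat 2 * (1)) : M7) = mx 199136805501645904159531343756025395808658401103338 := by decide +kernel
theorem rl0_1 : (mat 0 * (mat 2 * (mx 199136805501645904159531343756025395808658401103338)) : M7) = mx 199355476952532600038435553161547876073120877229018 := by decide +kernel
theorem rl0_0 : (mat 0 * (mat 2 * (mx 199355476952532600038435553161547876073120877229018)) : M7) = mx 97017234237464720195340918138392575865960457120487 := by decide +kernel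
theorem rl0 : ([0, 2, 0, 2, 0, 2].map mat).prod = 1 := by
  simp only [List.map_cons, List.map_nil, List.prod_cons, List.prod_nil]
  rw [rl0_2, rl0_1, rl0_0, mx_one]

theorem rl1_1 : (mat 0 * (mat 4 * (1)) : M7) = mx 970172342374647182951010110566627775201496581936203 := by decide +kernel
theorem rl1_0 : (mat 0 * (mat 4 * (mx 970172342374647182951010110566627775201496581936203)) : M7) = mx 97017234237464720195340918138392575865960457120487 := by decide +kernel
theorem rl1 : ([0, 4, 0, 4].map mat).prod = 1 := by
  simp only [List.map_cons, List.map_nil, List.prod_cons, List.prod_nil]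
  rw [rl1_1, rl1_0, mx_one]

theorem rl2_1 : (mat 0 * (mat 6 * (1)) : M7) = mx 778549777214191077829834675287014890780021877550808 := by decide +kernel
theorem rl2_0 : (mat 0 * (mat 6 * (mx 778549777214191077829834675287014890780021877550808)) : M7) = mx 97017234237464720195340918138392575865960457120487 := by decide +kernel
theorem rl2 : ([0, 6, 0, 6].map mat).prod = 1 := by
  simp only [List.map_cons, List.map_nil, List.prod_cons, List.prod_nil]
  rw [rl2_1, rl2_0, mx_one]

theorem rl3_1 : (mat 0 * (mat 8 * (1)) : M7) = mx 970172342374647201953409092736331676391102789568363 := by decide +kernel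
theorem rl3_0 : (mat 0 * (mat 8 * (mx 970172342374647201953409092736331676391102789568363)) : M7) = mx 97017234237464720195340918138392575865960457120487 := by decide +kernel
theorem rl3 : ([0, 8, 0, 8].map mat).prod = 1 := by
  simp only [List.map_cons, List.map_nil, List.prod_cons, List.prod_nil]
  rw [rl3_1, rl3_0, mx_one]

theorem rl4_4 : (mat 2 * (mat 4 * (1)) : M7) = mx 878257438827448332323277006497146721110792523529708 := by decide +kernel
theorem rl4_3 : (mat 2 * (mat 4 * (mx 878257438827448332323277006497146721110792523529708)) : M7) = mx 686774138642492137797084949792512377829775856239802 := by decide +kernel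
theorem rl4_2 : (mat 2 * (mat 4 * (mx 686774138642492137797084949792512377829775856239802)) : M7) = mx 681088680911975860988294125974608615205415097177522 := by decide +kernel
theorem rl4_1 : (mat 2 * (mat 4 * (mx 681088680911975860988294125974608615205415097177522)) : M7) = mx 877674314961014067537123236812615564086088498558788 := by decide +kernel
theorem rl4_0 : (mat 2 * (mat 4 * (mx 877674314961014067537123236812615564086088498558788)) : M7) = mx 97017234237464720195340918138392575865960457120487 := by decide +kernel
theorem rl4 : ([2, 4, 2, 4, 2, 4, 2, 4, 2, 4].map mat).prod = 1 := by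
  simp only [List.map_cons, List.map_nil, List.prod_cons, List.prod_nil]
  rw [rl4_4, rl4_3, rl4_2, rl4_1, rl4_0, mx_one]

theorem rl5_1 : (mat 2 * (mat 6 * (1)) : M7) = mx 119052626607662276038053414496229520159904787602333 := by decide +kernel
theorem rl5_0 : (mat 2 * (mat 6 * (mx 119052626607662276038053414496229520159904787602333)) : M7) = mx 97017234237464720195340918138392575865960457120487 := by decide +kernel
theorem rl5 : ([2, 6, 2, 6].map mat).prod = 1 := by
  simp only [List.map_cons, List.map_nil, List.prod_cons, List.prod_nil]
  rw [rl5_1, rl5_0, mx_one]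

theorem rl6_1 : (mat 2 * (mat 8 * (1)) : M7) = mx 877674314961013819738201694919553337480429212553410 := by decide +kernel
theorem rl6_0 : (mat 2 * (mat 8 * (mx 877674314961013819738201694919553337480429212553410)) : M7) = mx 97017234237464720195340918138392575865960457120487 := by decide +kernel
theorem rl6 : ([2, 8, 2, 8].map mat).prod = 1 := by
  simp only [List.map_cons, List.map_nil, List.prod_cons, List.prod_nil]
  rw [rl6_1, rl6_0, mx_one]

theorem rl7_2 : (mat 4 * (mat 6 * (1)) : M7) = mx 297466776777004422468843756829087936990965013126898 := by decide +kernel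
theorem rl7_1 : (mat 4 * (mat 6 * (mx 297466776777004422468843756829087936990965013126898)) : M7) = mx 293463221779529425324880331686898799050876848020898 := by decide +kernel
theorem rl7_0 : (mat 4 * (mat 6 * (mx 293463221779529425324880331686898799050876848020898)) : M7) = mx 97017234237464720195340918138392575865960457120487 := by decide +kernel
theorem rl7 : ([4, 6, 4, 6, 4, 6].map mat).prod = 1 := by
  simp only [List.map_cons, List.map_nil, List.prod_cons, List.prod_nil]
  rw [rl7_2, rl7_1, rl7_0, mx_one]

theorem rl8_1 : (mat 4 * (mat 8 * (1)) : M7) = mx 97017234237464739197740077603284641592566369565803 := by decide +kernel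
theorem rl8_0 : (mat 4 * (mat 8 * (mx 97017234237464739197740077603284641592566369565803)) : M7) = mx 97017234237464720195340918138392575865960457120487 := by decide +kernel
theorem rl8 : ([4, 8, 4, 8].map mat).prod = 1 := by
  simp only [List.map_cons, List.map_nil, List.prod_cons, List.prod_nil]
  rw [rl8_1, rl8_0, mx_one]

theorem rl9_4 : (mat 6 * (mat 8 * (1)) : M7) = mx 297472581725384424975794430441018803778314384540982 := by decide +kernel
theorem rl9_3 : (mat 6 * (mat 8 * (mx 297472581725384424975794430441018803778314384540982)) : M7) = mx 196446044560564485443592142547490553458890495685988 := by decide +kernel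
theorem rl9_2 : (mat 6 * (mat 8 * (mx 196446044560564485443592142547490553458890495685988)) : M7) = mx 196440896784057464130994906179555061826434356632668 := by decide +kernel
theorem rl9_1 : (mat 6 * (mat 8 * (mx 196440896784057464130994906179555061826434356632668)) : M7) = mx 297466776777005685087689793730544226874309174196382 := by decide +kernel
theorem rl9_0 : (mat 6 * (mat 8 * (mx 297466776777005685087689793730544226874309174196382)) : M7) = mx 97017234237464720195340918138392575865960457120487 := by decide +kernel
theorem rl9 : ([6, 8, 6, 8, 6, 8, 6, 8, 6, 8].map mat).prod = 1 := by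
  simp only [List.map_cons, List.map_nil, List.prod_cons, List.prod_nil]
  rw [rl9_4, rl9_3, rl9_2, rl9_1, rl9_0, mx_one]

theorem rl10_7 : (mat 4 * (1) : M7) = mx 97017238310797740333575740133326271185722368571883 := by decide +kernel
theorem rl10_6 : (mat 0 * (mat 2 * (mx 97017238310797740333575740133326271185722368571883)) : M7) = mx 198553678463862634245143390777176340098546933825462 := by decide +kernel
theorem rl10_5 : (mat 2 * (mat 4 * (mx 198553678463862634245143390777176340098546933825462)) : M7) = mx 491354751882529019772559997152837335313346860707068 := by decide +kernel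
theorem rl10_4 : (mat 4 * (mat 0 * (mx 491354751882529019772559997152837335313346860707068)) : M7) = mx 585456368580129923107336809873228122348053897068998 := by decide +kernel
theorem rl10_3 : (mat 0 * (mat 2 * (mx 585456368580129923107336809873228122348053897068998)) : M7) = mx 587861752278761508980382904297630062348880779895888 := by decide +kernel
theorem rl10_2 : (mat 2 * (mat 4 * (mx 587861752278761508980382904297630062348880779895888)) : M7) = mx 877455643510127374345426976815599892936987695207290 := by decide +kernel
theorem rl10_1 : (mat 4 * (mat 0 * (mx 877455643510127374345426976815599892936987695207290)) : M7) = mx 199355476952532600038435553161547876073120877229018 := by decide +kernel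
theorem rl10_0 : (mat 0 * (mat 2 * (mx 199355476952532600038435553161547876073120877229018)) : M7) = mx 97017234237464720195340918138392575865960457120487 := by decide +kernel
theorem rl10 : ([0, 2, 4, 0, 2, 4, 0, 2, 4, 0, 2, 4, 0, 2, 4].map mat).prod = 1 := by
  simp only [List.map_cons, List.map_nil, List.prod_cons, List.prod_nil]
  rw [rl10_7, rl10_6, rl10_5, rl10_4, rl10_3, rl10_2, rl10_1, rl10_0, mx_one]

theorem rl11_7 : (mat 6 * (mat 8 * (1)) : M7) = mx 297472581725384424975794430441018803778314384540982 := by decide +kernel
theorem rl11_6 : (mat 8 * (mat 4 * (mx 297472581725384424975794430441018803778314384540982)) : M7) = mx 297472581725383162386941664078390479817997727851628 := by decide +kernel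
theorem rl11_5 : (mat 4 * (mat 6 * (mx 297472581725383162386941664078390479817997727851628)) : M7) = mx 777747926240413931956394500775494588174751952106662 := by decide +kernel
theorem rl11_4 : (mat 6 * (mat 8 * (mx 777747926240413931956394500775494588174751952106662)) : M7) = mx 292656334352049152751663413068566917969410193624988 := by decide +kernel
theorem rl11_3 : (mat 8 * (mat 4 * (mx 292656334352049152751663413068566917969410193624988)) : M7) = mx 292656334352050951659006206359618591669643904390680 := by decide +kernel
theorem rl11_2 : (mat 4 * (mat 6 * (mx 292656334352050951659006206359618591669643904390680)) : M7) = mx 782553332211667337592646461867571808578263361559068 := by decide +kernel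
theorem rl11_1 : (mat 6 * (mat 8 * (mx 782553332211667337592646461867571808578263361559068)) : M7) = mx 970172342374647182951010110566627775201496581936203 := by decide +kernel
theorem rl11_0 : (mat 0 * (mat 4 * (mx 970172342374647182951010110566627775201496581936203)) : M7) = mx 97017234237464720195340918138392575865960457120487 := by decide +kernel
theorem rl11 : ([0, 4, 6, 8, 4, 6, 8, 4, 6, 8, 4, 6, 8, 4, 6, 8].map mat).prod = 1 := by
  simp only [List.map_cons, List.map_nil, List.prod_cons, List.prod_nil]
  rw [rl11_7, rl11_6, rl11_5, rl11_4, rl11_3, rl11_2, rl11_1, rl11_0, mx_one]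

theorem wl0_3 : (mxy 1 * (1) : M7) = mx 124412789792502026216006414760324641976925555873257 := by decide +kernel
theorem wl0_2 : (mxy 1 * (mxy 1 * (mx 124412789792502026216006414760324641976925555873257)) : M7) = mx 465278071358171950631319545480254479631573283712125 := by decide +kernel
theorem wl0_1 : (mxy 0 * (mxy 1 * (mx 465278071358171950631319545480254479631573283712125)) : M7) = mx 307086847859493844920866545186154410087587044324217 := by decide +kernel
theorem wl0_0 : (mxy 0 * (mxy 1 * (mx 307086847859493844920866545186154410087587044324217)) : M7) = mx 970172338301314200817573430206289219702813104723243 := by decide +kernel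
theorem wl0 : ([0, 1, 0, 1, 1, 1, 1].map mxy).prod = mat 0 := by
  simp only [List.map_cons, List.map_nil, List.prod_cons, List.prod_nil]
  rw [wl0_3, wl0_2, wl0_1, wl0_0]
  rfl

theorem wl2_7 : (mxy 1 * (1) : M7) = mx 124412789792502026216006414760324641976925555873257 := by decide +kernel
theorem wl2_6 : (mxy 1 * (mxy 1 * (mx 124412789792502026216006414760324641976925555873257)) : M7) = mx 465278071358171950631319545480254479631573283712125 := by decide +kernel
theorem wl2_5 : (mxy 1 * (mxy 0 * (mx 465278071358171950631319545480254479631573283712125)) : M7) = mx 308090604847143747731785826128474655236511743198801 := by decide +kernel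
theorem wl2_4 : (mxy 1 * (mxy 1 * (mx 308090604847143747731785826128474655236511743198801)) : M7) = mx 592981202833172876270344753523673333040170170766058 := by decide +kernel
theorem wl2_3 : (mxy 0 * (mxy 1 * (mx 592981202833172876270344753523673333040170170766058)) : M7) = mx 448602969780487130076296033953581128755795305708373 := by decide +kernel
theorem wl2_2 : (mxy 1 * (mxy 1 * (mx 448602969780487130076296033953581128755795305708373)) : M7) = mx 722442533895557629169547762948276958068060424581775 := by decide +kernel
theorem wl2_1 : (mxy 0 * (mxy 0 * (mx 722442533895557629169547762948276958068060424581775)) : M7) = mx 929717269623135134389510564435514597604396582460375 := by decide +kernel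
theorem wl2_0 : (mxy 1 * (mxy 1 * (mx 929717269623135134389510564435514597604396582460375)) : M7) = mx 877674318126269968758852510227430027753966680887932 := by decide +kernel
theorem wl2 : ([1, 1, 0, 0, 1, 1, 0, 1, 1, 1, 1, 0, 1, 1, 1].map mxy).prod = mat 2 := by
  simp only [List.map_cons, List.map_nil, List.prod_cons, List.prod_nil]
  rw [wl2_7, wl2_6, wl2_5, wl2_4, wl2_3, wl2_2, wl2_1, wl2_0]
  rfl

theorem wl4_4 : (mxy 1 * (1) : M7) = mx 124412789792502026216006414760324641976925555873257 := by decide +kernel
theorem wl4_3 : (mxy 1 * (mxy 1 * (mx 124412789792502026216006414760324641976925555873257)) : M7) = mx 465278071358171950631319545480254479631573283712125 := by decide +kernel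
theorem wl4_2 : (mxy 0 * (mxy 1 * (mx 465278071358171950631319545480254479631573283712125)) : M7) = mx 307086847859493844920866545186154410087587044324217 := by decide +kernel
theorem wl4_1 : (mxy 1 * (mxy 0 * (mx 307086847859493844920866545186154410087587044324217)) : M7) = mx 8017953242765679197942232318732460986601196131113 := by decide +kernel
theorem wl4_0 : (mxy 0 * (mxy 0 * (mx 8017953242765679197942232318732460986601196131113)) : M7) = mx 97017238310797740333575740133326271185722368571883 := by decide +kernel
theorem wl4 : ([0, 0, 1, 0, 0, 1, 1, 1, 1].map mxy).prod = mat 4 := by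
  simp only [List.map_cons, List.map_nil, List.prod_cons, List.prod_nil]
  rw [wl4_4, wl4_3, wl4_2, wl4_1, wl4_0]
  rfl

theorem wl6_8 : (mxy 0 * (mxy 1 * (1)) : M7) = mx 871546536310489891993918370707746608067501121742907 := by decide +kernel
theorem wl6_7 : (mxy 0 * (mxy 0 * (mx 871546536310489891993918370707746608067501121742907)) : M7) = mx 271795322428931195445784507672021163917980471619057 := by decide +kernel
theorem wl6_6 : (mxy 0 * (mxy 0 * (mx 271795322428931195445784507672021163917980471619057)) : M7) = mx 1060616062048745773859117015638981077303285937473057 := by decide +kernel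
theorem wl6_5 : (mxy 1 * (mxy 1 * (mx 1060616062048745773859117015638981077303285937473057)) : M7) = mx 1056466394350327628769114526466208369974578679361573 := by decide +kernel
theorem wl6_4 : (mxy 0 * (mxy 1 * (mx 1056466394350327628769114526466208369974578679361573)) : M7) = mx 39897678892543297018982566521052431895813539750502 := by decide +kernel
theorem wl6_3 : (mxy 1 * (mxy 0 * (mx 39897678892543297018982566521052431895813539750502)) : M7) = mx 585091422989627373355024891171084494627812891271917 := by decide +kernel
theorem wl6_2 : (mxy 0 * (mxy 1 * (mx 585091422989627373355024891171084494627812891271917)) : M7) = mx 154140403190757512316078082255331580270281941067771 := by decide +kernel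
theorem wl6_1 : (mxy 1 * (mxy 1 * (mx 154140403190757512316078082255331580270281941067771)) : M7) = mx 100789894128875734586642070320980552301504237903557 := by decide +kernel
theorem wl6_0 : (mxy 0 * (mxy 1 * (mx 100789894128875734586642070320980552301504237903557)) : M7) = mx 297466779940393022057944336556718391306400472953514 := by decide +kernel
theorem wl6 : ([0, 1, 1, 1, 0, 1, 1, 0, 0, 1, 1, 1, 0, 0, 0, 0, 0, 1].map mxy).prod = mat 6 := by
  simp only [List.map_cons, List.map_nil, List.prod_cons, List.prod_nil]
  rw [wl6_8, wl6_7, wl6_6, wl6_5, wl6_4, wl6_3, wl6_2, wl6_1, wl6_0]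
  rfl

theorem wl8_3 : (mxy 0 * (1) : M7) = mx 59742217373217410912008818046396455710289787 := by decide +kernel
theorem wl8_2 : (mxy 1 * (mxy 1 * (mx 59742217373217410912008818046396455710289787)) : M7) = mx 809720744734928962170043699863419087717173625971905 := by decide +kernel
theorem wl8_1 : (mxy 1 * (mxy 1 * (mx 809720744734928962170043699863419087717173625971905)) : M7) = mx 387437683596372764960317527426463399602010095313397 := by decide +kernel
theorem wl8_0 : (mxy 1 * (mxy 0 * (mx 387437683596372764960317527426463399602010095313397)) : M7) = mx 97017238310797721331176580668435032554254000425483 := by decide +kernel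
theorem wl8 : ([1, 0, 1, 1, 1, 1, 0].map mxy).prod = mat 8 := by
  simp only [List.map_cons, List.map_nil, List.prod_cons, List.prod_nil]
  rw [wl8_3, wl8_2, wl8_1, wl8_0]
  rfl

theorem wX_6 : (mat 6 * (1) : M7) = mx 297466779940393022057944336556718391306400472953514 := by decide +kernel
theorem wX_5 : (mat 6 * (mat 8 * (mx 297466779940393022057944336556718391306400472953514)) : M7) = mx 196440896322623881816834375747287679153599230366954 := by decide +kernel
theorem wX_4 : (mat 4 * (mat 8 * (mx 196440896322623881816834375747287679153599230366954)) : M7) = mx 196440896322625169770486661983783378835325840688404 := by decide +kernel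
theorem wX_3 : (mat 2 * (mat 6 * (mx 196440896322625169770486661983783378835325840688404)) : M7) = mx 68954711219796885532320978959652732038449270920282 := by decide +kernel
theorem wX_2 : (mat 2 * (mat 4 * (mx 68954711219796885532320978959652732038449270920282)) : M7) = mx 49711464247519263538825504763758447882486095866458 := by decide +kernel
theorem wX_1 : (mat 0 * (mat 4 * (mx 49711464247519263538825504763758447882486095866458)) : M7) = mx 56126175272866663955281931902774784128948898062718 := by decide +kernel
theorem wX_0 : (mat 4 * (mat 2 * (mx 56126175272866663955281931902774784128948898062718)) : M7) = mx 59742217373217410912008818046396455710289787 := by decide +kernel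
theorem wX : ([4, 2, 0, 4, 2, 4, 2, 6, 4, 8, 6, 8, 6].map mat).prod = Cfsg.jankoMatrixX := by
  simp only [List.map_cons, List.map_nil, List.prod_cons, List.prod_nil]
  rw [wX_6, wX_5, wX_4, wX_3, wX_2, wX_1, wX_0, mx_X]

theorem wY_10 : (mat 6 * (1) : M7) = mx 297466779940393022057944336556718391306400472953514 := by decide +kernel
theorem wY_9 : (mat 0 * (mat 4 * (mx 297466779940393022057944336556718391306400472953514)) : M7) = mx 778549774050805003478428506434857789083991371240908 := by decide +kernel
theorem wY_8 : (mat 4 * (mat 2 * (mx 778549774050805003478428506434857789083991371240908)) : M7) = mx 277114599069150086310240012219450936808653671449662 := by decide +kernel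
theorem wY_7 : (mat 8 * (mat 6 * (mx 277114599069150086310240012219450936808653671449662)) : M7) = mx 388128902826511436394004947403495071710183603154014 := by decide +kernel
theorem wY_6 : (mat 8 * (mat 6 * (mx 388128902826511436394004947403495071710183603154014)) : M7) = mx 61825792756981969984028058723691252910717457899559 := by decide +kernel
theorem wY_5 : (mat 0 * (mat 4 * (mx 61825792756981969984028058723691252910717457899559)) : M7) = mx 36073415880480087901910004017531412801613008781449 := by decide +kernel
theorem wY_4 : (mat 4 * (mat 2 * (mx 36073415880480087901910004017531412801613008781449)) : M7) = mx 353737652562235288959955201663515868063754609430749 := by decide +kernel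
theorem wY_3 : (mat 8 * (mat 6 * (mx 353737652562235288959955201663515868063754609430749)) : M7) = mx 701018849013965150455477818527271695905572930386105 := by decide +kernel
theorem wY_2 : (mat 2 * (mat 0 * (mx 701018849013965150455477818527271695905572930386105)) : M7) = mx 85738123638485607610220197383898185505757305218957 := by decide +kernel
theorem wY_1 : (mat 6 * (mat 4 * (mx 85738123638485607610220197383898185505757305218957)) : M7) = mx 311259797241080349953412477884427030438056056759283 := by decide +kernel
theorem wY_0 : (mat 6 * (mat 8 * (mx 311259797241080349953412477884427030438056056759283)) : M7) = mx 124412789792502026216006414760324641976925555873257 := by decide +kernel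
theorem wY : ([6, 8, 6, 4, 2, 0, 8, 6, 4, 2, 0, 4, 8, 6, 8, 6, 4, 2, 0, 4, 6].map mat).prod = Cfsg.jankoMatrixY := by
  simp only [List.map_cons, List.map_nil, List.prod_cons, List.prod_nil]
  rw [wY_10, wY_9, wY_8, wY_7, wY_6, wY_5, wY_4, wY_3, wY_2, wY_1, wY_0, mx_Y]

def wxy : ℕ → List ℕ
  | 0 => [0, 1, 0, 1, 1, 1, 1]
  | 2 => [1, 1, 0, 0, 1, 1, 0, 1, 1, 1, 1, 0, 1, 1, 1]
  | 4 => [0, 0, 1, 0, 0, 1, 1, 1, 1]
  | 6 => [0, 1, 1, 1, 0, 1, 1, 0, 0, 1, 1, 1, 0, 0, 0, 0, 0, 1]
  | _ => [1, 0, 1, 1, 1, 1, 0]

def wx : List ℕ := [4, 2, 0, 4, 2, 4, 2, 6, 4, 8, 6, 8, 6]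

def wy : List ℕ := [6, 8, 6, 4, 2, 0, 8, 6, 4, 2, 0, 4, 8, 6, 8, 6, 4, 2, 0, 4, 6]

theorem mat_sq_in : ∀ l ∈ J1x.Ls, mat l * mat l = 1 := by decide +kernel

theorem mat_out : ∀ l, l ∉ J1x.Ls → mat l = 1 := by
  intro l hl
  match l, hl with
  | 0, h => exact absurd (by decide) h
  | 1, _ => rfl
  | 2, h => exact absurd (by decide) h
  | 3, _ => rfl
  | 4, h => exact absurd (by decide) h
  | 5, _ => rfl
  | 6, h => exact absurd (by decide) h
  | 7, _ => rfl
  | 8, h => exact absurd (by decide) h
  | (k + 9), _ => rfl

theorem mat_sq (l : ℕ) : mat l * mat l = 1 := by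
  by_cases h : l ∈ J1x.Ls
  · exact mat_sq_in l h
  · rw [mat_out l h, one_mul]

def gl (l : ℕ) : GL (Fin 7) (ZMod 11) := ⟨mat l, mat l, mat_sq l, mat_sq l⟩

def xy : ℕ → GL (Fin 7) (ZMod 11)
  | 0 => Cfsg.Spor.jankoX
  | _ => Cfsg.Spor.jankoY

theorem coe_xy (l : ℕ) : ((xy l : GL (Fin 7) (ZMod 11)) : M7) = mxy l := by
  match l with
  | 0 => rfl
  | (k + 1) => rfl

theorem coe_ev (w : List ℕ) : ((ev gl w : GL (Fin 7) (ZMod 11)) : M7) = (w.map mat).prod := by
  induction w with
  | nil => rfl
  | cons l w ih =>
    rw [ev_cons, Units.val_mul, ih]
    rfl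

theorem coe_ev_xy (w : List ℕ) : ((ev xy w : GL (Fin 7) (ZMod 11)) : M7) = (w.map mxy).prod := by
  induction w with
  | nil => rfl
  | cons l w ih =>
    rw [ev_cons, Units.val_mul, ih, coe_xy]
    rfl

theorem one_of_prod (w : List ℕ) (h : (w.map mat).prod = 1) : ev gl w = 1 :=
  Units.ext (by rw [coe_ev, h]; rfl)

theorem hrel : ∀ r ∈ J1x.coxW ++ J1x.extraW, ev gl r = 1 := by
  intro r hr
  simp only [J1x.coxW, J1x.extraW, List.mem_append, List.mem_cons, List.mem_nil_iff, or_false, or_assoc] at hr
  rcases hr with rfl | rfl | rfl | rfl | rfl | rfl | rfl | rfl | rfl | rfl | rfl | rfl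
  · exact one_of_prod _ rl0
  · exact one_of_prod _ rl1
  · exact one_of_prod _ rl2
  · exact one_of_prod _ rl3
  · exact one_of_prod _ rl4
  · exact one_of_prod _ rl5
  · exact one_of_prod _ rl6
  · exact one_of_prod _ rl7
  · exact one_of_prod _ rl8
  · exact one_of_prod _ rl9
  · exact one_of_prod _ rl10
  · exact one_of_prod _ rl11

theorem hp : ∀ l ∈ J1x.Ls, gl (J1x.invL l) = (gl l)⁻¹ := by
  intro l _
  rfl

theorem gl_ne : gl 0 ≠ 1 := by
  intro h
  have h1 : mat 0 = 1 := congrArg (fun x : GL (Fin 7) (ZMod 11) => (x : M7)) h
  revert h1
  decide +kernel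

theorem gl_eq : ∀ l ∈ J1x.Ls, gl l = ev xy (wxy l) := by
  intro l hl
  apply Units.ext
  rw [coe_ev_xy]
  simp only [J1x.Ls, List.mem_cons, List.mem_nil_iff, or_false] at hl
  rcases hl with rfl | rfl | rfl | rfl | rfl
  · exact wl0.symm
  · exact wl2.symm
  · exact wl4.symm
  · exact wl6.symm
  · exact wl8.symm

theorem x_eq : Cfsg.Spor.jankoX = ev gl wx := Units.ext (by rw [coe_ev]; exact wX.symm)

theorem y_eq : Cfsg.Spor.jankoY = ev gl wy := Units.ext (by rw [coe_ev]; exact wY.symm)

theorem ev_xy_mem (w : List ℕ) :
    ev xy w ∈ Subgroup.closure ({Cfsg.Spor.jankoX, Cfsg.Spor.jankoY} : Set (GL (Fin 7) (ZMod 11))) := by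
  induction w with
  | nil => exact Subgroup.one_mem _
  | cons l w ih =>
    rw [ev_cons]
    refine Subgroup.mul_mem _ (Subgroup.subset_closure ?_) ih
    match l with
    | 0 => exact Or.inl rfl
    | (k + 1) => exact Or.inr rfl

/-- the presented group is isomorphic to the group generated by Janko's matrices -/
theorem iso : Nonempty (J1S.P ≃* Cfsg.Spor.J1) := by
  obtain ⟨hs, _⟩ := J1S.simple
  obtain ⟨ψ, hψ⟩ := J1S.pres.lift _ gl hp hrel
  have hker : ψ.ker = ⊥ := by
    rcases hs.eq_bot_or_eq_top_of_normal ψ.ker inferInstance with h | h
    · exact h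
    · exfalso
      have h3 : J1S.gen 0 ∈ ψ.ker := by rw [h]; exact Subgroup.mem_top _
      rw [MonoidHom.mem_ker, hψ 0 (by decide)] at h3
      exact gl_ne h3
  have hinj : Function.Injective ψ := (MonoidHom.ker_eq_bot_iff ψ).mp hker
  have hrange : ψ.range = Cfsg.Spor.J1 := by
    apply le_antisymm
    · rw [MonoidHom.range_eq_map, ← J1S.pres.hgen, MonoidHom.map_closure, Subgroup.closure_le]
      rintro _ ⟨_, ⟨l, hl, rfl⟩, rfl⟩
      rw [hψ l hl, gl_eq l hl]
      exact ev_xy_mem _
    · unfold Cfsg.Spor.J1
      rw [Subgroup.closure_le]
      rintro g (rfl | rfl)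
      · rw [x_eq, ← PR.map_ev ψ J1S.gen gl J1x.Ls hψ wx (by decide)]
        exact ⟨_, rfl⟩
      · rw [y_eq, ← PR.map_ev ψ J1S.gen gl J1x.Ls hψ wy (by decide)]
        exact ⟨_, rfl⟩
  exact ⟨(MonoidHom.ofInjective hinj).trans (MulEquiv.subgroupCongr hrange)⟩

end Cfsg.Agent.Lib.Helper11.J1M
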