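import Cfsg.Agent.Lib.Helper11.J1xPT

set_option autoImplicit false
set_option maxRecDepth 1000000
set_option Elab.async false

namespace Cfsg.Agent.Lib.Helper11.J1x

open Cfsg.Agent.Lib.Helper11

theorem rng0_0 : PR.allR (PR.mapsF [tb0] 0 1044) 0 1045 = true := by decide +kernel

theorem sq0_0 : PR.allR (PR.fixF [tb0, tb0]) 0 1045 = true := by decide +kernel

theorem rng2_0 : PR.allR (PR.mapsF [tb2] 0 1044) 0 1045 = true := by decide +kernel

theorem sq2_0 : PR.allR (PR.fixF [tb2, tb2]) 0 1045 = true := by decide +kernel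

theorem rng4_0 : PR.allR (PR.mapsF [tb4] 0 1044) 0 1045 = true := by decide +kernel

theorem sq4_0 : PR.allR (PR.fixF [tb4, tb4]) 0 1045 = true := by decide +kernel

theorem rng6_0 : PR.allR (PR.mapsF [tb6] 0 1044) 0 1045 = true := by decide +kernel

theorem sq6_0 : PR.allR (PR.fixF [tb6, tb6]) 0 1045 = true := by decide +kernel

theorem rng8_0 : PR.allR (PR.mapsF [tb8] 0 1044) 0 1045 = true := by decide +kernel

theorem sq8_0 : PR.allR (PR.fixF [tb8, tb8]) 0 1045 = true := by decide +kernel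

theorem rel0_0 : PR.allR (PR.fixF [tb0, tb2, tb0, tb2, tb0, tb2]) 0 1045 = true := by decide +kernel

theorem rel1_0 : PR.allR (PR.fixF [tb0, tb4, tb0, tb4]) 0 1045 = true := by decide +kernel

theorem rel2_0 : PR.allR (PR.fixF [tb0, tb6, tb0, tb6]) 0 1045 = true := by decide +kernel

theorem rel3_0 : PR.allR (PR.fixF [tb0, tb8, tb0, tb8]) 0 1045 = true := by decide +kernel

theorem rel4_0 : PR.allR (PR.fixF [tb2, tb4, tb2, tb4, tb2, tb4, tb2, tb4, tb2, tb4]) 0 1045 = true := by decide +kernel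

theorem rel5_0 : PR.allR (PR.fixF [tb2, tb6, tb2, tb6]) 0 1045 = true := by decide +kernel

theorem rel6_0 : PR.allR (PR.fixF [tb2, tb8, tb2, tb8]) 0 1045 = true := by decide +kernel

theorem rel7_0 : PR.allR (PR.fixF [tb4, tb6, tb4, tb6, tb4, tb6]) 0 1045 = true := by decide +kernel

theorem rel8_0 : PR.allR (PR.fixF [tb4, tb8, tb4, tb8]) 0 1045 = true := by decide +kernel

theorem rel9_0 : PR.allR (PR.fixF [tb6, tb8, tb6, tb8, tb6, tb8, tb6, tb8, tb6, tb8]) 0 1045 = true := by decide +kernel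

theorem rel10_0 : PR.allR (PR.fixF [tb0, tb2, tb4, tb0, tb2, tb4, tb0, tb2, tb4, tb0, tb2, tb4, tb0, tb2, tb4]) 0 1045 = true := by decide +kernel

theorem rel11_0 : PR.allR (PR.fixF [tb0, tb4, tb6, tb8, tb4, tb6, tb8, tb4, tb6, tb8, tb4, tb6, tb8, tb4, tb6, tb8]) 0 1045 = true := by decide +kernel

theorem mp0_0_0 : PR.allR (PR.mapsF [tb0] 0 0) 0 1 = true := by decide +kernel

theorem mp0_1_0 : PR.allR (PR.mapsF [tb4] 0 0) 0 1 = true := by decide +kernel

theorem mp0_2_0 : PR.allR (PR.mapsF [tb8] 0 0) 0 1 = true := by decide +kernel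

theorem mp0_3_0 : PR.allR (PR.mapsF [tb2, tb0, tb4, tb2, tb4, tb2] 0 0) 0 1 = true := by decide +kernel

theorem mp0_4_0 : PR.allR (PR.mapsF [tb6, tb4, tb8, tb6, tb8, tb6] 0 0) 0 1 = true := by decide +kernel

theorem mp1_0_0 : PR.allR (PR.mapsF [tb0] 1 28) 1 28 = true := by decide +kernel

theorem mp1_1_0 : PR.allR (PR.mapsF [tb4] 1 28) 1 28 = true := by decide +kernel

theorem mp1_2_0 : PR.allR (PR.mapsF [tb8] 1 28) 1 28 = true := by decide +kernel

theorem mp1_3_0 : PR.allR (PR.mapsF [tb2, tb0, tb4, tb2, tb4, tb2] 1 28) 1 28 = true := by decide +kernel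

theorem mp1_4_0 : PR.allR (PR.mapsF [tb6, tb4, tb8, tb6, tb8, tb6] 1 28) 1 28 = true := by decide +kernel

theorem tre1_0 : PR.allR (PR.treeF tbW [[tb0], [tb4], [tb8], [tb2, tb0, tb4, tb2, tb4, tb2], [tb6, tb4, tb8, tb6, tb8, tb6]] 1) 2 27 = true := by decide +kernel

theorem mp2_0_0 : PR.allR (PR.mapsF [tb0] 29 196) 29 168 = true := by decide +kernel

theorem mp2_1_0 : PR.allR (PR.mapsF [tb4] 29 196) 29 168 = true := by decide +kernel

theorem mp2_2_0 : PR.allR (PR.mapsF [tb8] 29 196) 29 168 = true := by decide +kernel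

theorem mp2_3_0 : PR.allR (PR.mapsF [tb2, tb0, tb4, tb2, tb4, tb2] 29 196) 29 168 = true := by decide +kernel

theorem mp2_4_0 : PR.allR (PR.mapsF [tb6, tb4, tb8, tb6, tb8, tb6] 29 196) 29 168 = true := by decide +kernel

theorem tre2_0 : PR.allR (PR.treeF tbW [[tb0], [tb4], [tb8], [tb2, tb0, tb4, tb2, tb4, tb2], [tb6, tb4, tb8, tb6, tb8, tb6]] 29) 30 167 = true := by decide +kernel

theorem mp3_0_0 : PR.allR (PR.mapsF [tb0] 197 364) 197 168 = true := by decide +kernel

theorem mp3_1_0 : PR.allR (PR.mapsF [tb4] 197 364) 197 168 = true := by decide +kernel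

theorem mp3_2_0 : PR.allR (PR.mapsF [tb8] 197 364) 197 168 = true := by decide +kernel

theorem mp3_3_0 : PR.allR (PR.mapsF [tb2, tb0, tb4, tb2, tb4, tb2] 197 364) 197 168 = true := by decide +kernel

theorem mp3_4_0 : PR.allR (PR.mapsF [tb6, tb4, tb8, tb6, tb8, tb6] 197 364) 197 168 = true := by decide +kernel

theorem tre3_0 : PR.allR (PR.treeF tbW [[tb0], [tb4], [tb8], [tb2, tb0, tb4, tb2, tb4, tb2], [tb6, tb4, tb8, tb6, tb8, tb6]] 197) 198 167 = true := by decide +kernel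

theorem mp4_0_0 : PR.allR (PR.mapsF [tb0] 365 420) 365 56 = true := by decide +kernel

theorem mp4_1_0 : PR.allR (PR.mapsF [tb4] 365 420) 365 56 = true := by decide +kernel

theorem mp4_2_0 : PR.allR (PR.mapsF [tb8] 365 420) 365 56 = true := by decide +kernel

theorem mp4_3_0 : PR.allR (PR.mapsF [tb2, tb0, tb4, tb2, tb4, tb2] 365 420) 365 56 = true := by decide +kernel

theorem mp4_4_0 : PR.allR (PR.mapsF [tb6, tb4, tb8, tb6, tb8, tb6] 365 420) 365 56 = true := by decide +kernel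

theorem tre4_0 : PR.allR (PR.treeF tbW [[tb0], [tb4], [tb8], [tb2, tb0, tb4, tb2, tb4, tb2], [tb6, tb4, tb8, tb6, tb8, tb6]] 365) 366 55 = true := by decide +kernel

theorem mp5_0_0 : PR.allR (PR.mapsF [tb0] 421 476) 421 56 = true := by decide +kernel

theorem mp5_1_0 : PR.allR (PR.mapsF [tb4] 421 476) 421 56 = true := by decide +kernel

theorem mp5_2_0 : PR.allR (PR.mapsF [tb8] 421 476) 421 56 = true := by decide +kernel

theorem mp5_3_0 : PR.allR (PR.mapsF [tb2, tb0, tb4, tb2, tb4, tb2] 421 476) 421 56 = true := by decide +kernel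

theorem mp5_4_0 : PR.allR (PR.mapsF [tb6, tb4, tb8, tb6, tb8, tb6] 421 476) 421 56 = true := by decide +kernel

theorem tre5_0 : PR.allR (PR.treeF tbW [[tb0], [tb4], [tb8], [tb2, tb0, tb4, tb2, tb4, tb2], [tb6, tb4, tb8, tb6, tb8, tb6]] 421) 422 55 = true := by decide +kernel

theorem mp6_0_0 : PR.allR (PR.mapsF [tb0] 477 644) 477 168 = true := by decide +kernel

theorem mp6_1_0 : PR.allR (PR.mapsF [tb4] 477 644) 477 168 = true := by decide +kernel

theorem mp6_2_0 : PR.allR (PR.mapsF [tb8] 477 644) 477 168 = true := by decide +kernel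

theorem mp6_3_0 : PR.allR (PR.mapsF [tb2, tb0, tb4, tb2, tb4, tb2] 477 644) 477 168 = true := by decide +kernel

theorem mp6_4_0 : PR.allR (PR.mapsF [tb6, tb4, tb8, tb6, tb8, tb6] 477 644) 477 168 = true := by decide +kernel

theorem tre6_0 : PR.allR (PR.treeF tbW [[tb0], [tb4], [tb8], [tb2, tb0, tb4, tb2, tb4, tb2], [tb6, tb4, tb8, tb6, tb8, tb6]] 477) 478 167 = true := by decide +kernel

theorem mp7_0_0 : PR.allR (PR.mapsF [tb0] 645 812) 645 168 = true := by decide +kernel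

theorem mp7_1_0 : PR.allR (PR.mapsF [tb4] 645 812) 645 168 = true := by decide +kernel

theorem mp7_2_0 : PR.allR (PR.mapsF [tb8] 645 812) 645 168 = true := by decide +kernel

theorem mp7_3_0 : PR.allR (PR.mapsF [tb2, tb0, tb4, tb2, tb4, tb2] 645 812) 645 168 = true := by decide +kernel

theorem mp7_4_0 : PR.allR (PR.mapsF [tb6, tb4, tb8, tb6, tb8, tb6] 645 812) 645 168 = true := by decide +kernel

theorem tre7_0 : PR.allR (PR.treeF tbW [[tb0], [tb4], [tb8], [tb2, tb0, tb4, tb2, tb4, tb2], [tb6, tb4, tb8, tb6, tb8, tb6]] 645) 646 167 = true := by decide +kernel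

theorem mp8_0_0 : PR.allR (PR.mapsF [tb0] 813 820) 813 8 = true := by decide +kernel

theorem mp8_1_0 : PR.allR (PR.mapsF [tb4] 813 820) 813 8 = true := by decide +kernel

theorem mp8_2_0 : PR.allR (PR.mapsF [tb8] 813 820) 813 8 = true := by decide +kernel

theorem mp8_3_0 : PR.allR (PR.mapsF [tb2, tb0, tb4, tb2, tb4, tb2] 813 820) 813 8 = true := by decide +kernel

theorem mp8_4_0 : PR.allR (PR.mapsF [tb6, tb4, tb8, tb6, tb8, tb6] 813 820) 813 8 = true := by decide +kernel

theorem tre8_0 : PR.allR (PR.treeF tbW [[tb0], [tb4], [tb8], [tb2, tb0, tb4, tb2, tb4, tb2], [tb6, tb4, tb8, tb6, tb8, tb6]] 813) 814 7 = true := by decide +kernel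

theorem mp9_0_0 : PR.allR (PR.mapsF [tb0] 821 876) 821 56 = true := by decide +kernel

theorem mp9_1_0 : PR.allR (PR.mapsF [tb4] 821 876) 821 56 = true := by decide +kernel

theorem mp9_2_0 : PR.allR (PR.mapsF [tb8] 821 876) 821 56 = true := by decide +kernel

theorem mp9_3_0 : PR.allR (PR.mapsF [tb2, tb0, tb4, tb2, tb4, tb2] 821 876) 821 56 = true := by decide +kernel

theorem mp9_4_0 : PR.allR (PR.mapsF [tb6, tb4, tb8, tb6, tb8, tb6] 821 876) 821 56 = true := by decide +kernel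

theorem tre9_0 : PR.allR (PR.treeF tbW [[tb0], [tb4], [tb8], [tb2, tb0, tb4, tb2, tb4, tb2], [tb6, tb4, tb8, tb6, tb8, tb6]] 821) 822 55 = true := by decide +kernel

theorem mp10_0_0 : PR.allR (PR.mapsF [tb0] 877 1044) 877 168 = true := by decide +kernel

theorem mp10_1_0 : PR.allR (PR.mapsF [tb4] 877 1044) 877 168 = true := by decide +kernel

theorem mp10_2_0 : PR.allR (PR.mapsF [tb8] 877 1044) 877 168 = true := by decide +kernel

theorem mp10_3_0 : PR.allR (PR.mapsF [tb2, tb0, tb4, tb2, tb4, tb2] 877 1044) 877 168 = true := by decide +kernel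

theorem mp10_4_0 : PR.allR (PR.mapsF [tb6, tb4, tb8, tb6, tb8, tb6] 877 1044) 877 168 = true := by decide +kernel

theorem tre10_0 : PR.allR (PR.treeF tbW [[tb0], [tb4], [tb8], [tb2, tb0, tb4, tb2, tb4, tb2], [tb6, tb4, tb8, tb6, tb8, tb6]] 877) 878 167 = true := by decide +kernel

theorem root0 : PR.trace [] 0 = 0 := by decide +kernel

theorem root1 : PR.trace [tb2] 0 = 1 := by decide +kernel

theorem root2 : PR.trace [tb2, tb6] 0 = 29 := by decide +kernel

theorem root3 : PR.trace [tb2, tb4, tb6] 0 = 197 := by decide +kernel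

theorem root4 : PR.trace [tb2, tb4, tb6, tb4, tb2] 0 = 365 := by decide +kernel

theorem root5 : PR.trace [tb2, tb0, tb4, tb6, tb4, tb2] 0 = 421 := by decide +kernel

theorem root6 : PR.trace [tb2, tb6, tb4, tb2, tb8, tb6] 0 = 477 := by decide +kernel

theorem root7 : PR.trace [tb2, tb0, tb6, tb4, tb2, tb8, tb6] 0 = 645 := by decide +kernel

theorem root8 : PR.trace [tb2, tb4, tb6, tb8, tb6, tb4, tb2] 0 = 813 := by decide +kernel

theorem root9 : PR.trace [tb2, tb0, tb4, tb6, tb4, tb2, tb8, tb6] 0 = 821 := by decide +kernel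

theorem root10 : PR.trace [tb2, tb4, tb6, tb4, tb2, tb4, tb8, tb6, tb4, tb2] 0 = 877 := by decide +kernel

end Cfsg.Agent.Lib.Helper11.J1x
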