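import Cfsg.Agent.Lib.Helper11.PRMain
import Cfsg.Agent.Lib.Helper11.J1xPres
import Cfsg.Agent.Lib.Helper11.J1xPC0

set_option autoImplicit false
set_option maxRecDepth 1000000

namespace Cfsg.Agent.Lib.Helper11.J1x

open Cfsg.Agent.Lib.Helper11

theorem rng0 : ∀ u, 0 ≤ u → u < 1045 → PR.mapsF [tb0] 0 1044 u = true := by
  have h : ∀ u, 0 ≤ u → u < 0 → PR.mapsF [tb0] 0 1044 u = true := fun u h1 h2 => absurd h2 (by omega)
  have h := PR.allR_chain (PR.mapsF [tb0] 0 1044) 0 0 1045 rng0_0 h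
  exact h

theorem sq0 : ∀ u, 0 ≤ u → u < 1045 → PR.fixF [tb0, tb0] u = true := by
  have h : ∀ u, 0 ≤ u → u < 0 → PR.fixF [tb0, tb0] u = true := fun u h1 h2 => absurd h2 (by omega)
  have h := PR.allR_chain (PR.fixF [tb0, tb0]) 0 0 1045 sq0_0 h
  exact h

theorem rng2 : ∀ u, 0 ≤ u → u < 1045 → PR.mapsF [tb2] 0 1044 u = true := by
  have h : ∀ u, 0 ≤ u → u < 0 → PR.mapsF [tb2] 0 1044 u = true := fun u h1 h2 => absurd h2 (by omega)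
  have h := PR.allR_chain (PR.mapsF [tb2] 0 1044) 0 0 1045 rng2_0 h
  exact h

theorem sq2 : ∀ u, 0 ≤ u → u < 1045 → PR.fixF [tb2, tb2] u = true := by
  have h : ∀ u, 0 ≤ u → u < 0 → PR.fixF [tb2, tb2] u = true := fun u h1 h2 => absurd h2 (by omega)
  have h := PR.allR_chain (PR.fixF [tb2, tb2]) 0 0 1045 sq2_0 h
  exact h

theorem rng4 : ∀ u, 0 ≤ u → u < 1045 → PR.mapsF [tb4] 0 1044 u = true := by
  have h : ∀ u, 0 ≤ u → u < 0 → PR.mapsF [tb4] 0 1044 u = true := fun u h1 h2 => absurd h2 (by omega)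
  have h := PR.allR_chain (PR.mapsF [tb4] 0 1044) 0 0 1045 rng4_0 h
  exact h

theorem sq4 : ∀ u, 0 ≤ u → u < 1045 → PR.fixF [tb4, tb4] u = true := by
  have h : ∀ u, 0 ≤ u → u < 0 → PR.fixF [tb4, tb4] u = true := fun u h1 h2 => absurd h2 (by omega)
  have h := PR.allR_chain (PR.fixF [tb4, tb4]) 0 0 1045 sq4_0 h
  exact h

theorem rng6 : ∀ u, 0 ≤ u → u < 1045 → PR.mapsF [tb6] 0 1044 u = true := by
  have h : ∀ u, 0 ≤ u → u < 0 → PR.mapsF [tb6] 0 1044 u = true := fun u h1 h2 => absurd h2 (by omega)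
  have h := PR.allR_chain (PR.mapsF [tb6] 0 1044) 0 0 1045 rng6_0 h
  exact h

theorem sq6 : ∀ u, 0 ≤ u → u < 1045 → PR.fixF [tb6, tb6] u = true := by
  have h : ∀ u, 0 ≤ u → u < 0 → PR.fixF [tb6, tb6] u = true := fun u h1 h2 => absurd h2 (by omega)
  have h := PR.allR_chain (PR.fixF [tb6, tb6]) 0 0 1045 sq6_0 h
  exact h

theorem rng8 : ∀ u, 0 ≤ u → u < 1045 → PR.mapsF [tb8] 0 1044 u = true := by
  have h : ∀ u, 0 ≤ u → u < 0 → PR.mapsF [tb8] 0 1044 u = true := fun u h1 h2 => absurd h2 (by omega)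
  have h := PR.allR_chain (PR.mapsF [tb8] 0 1044) 0 0 1045 rng8_0 h
  exact h

theorem sq8 : ∀ u, 0 ≤ u → u < 1045 → PR.fixF [tb8, tb8] u = true := by
  have h : ∀ u, 0 ≤ u → u < 0 → PR.fixF [tb8, tb8] u = true := fun u h1 h2 => absurd h2 (by omega)
  have h := PR.allR_chain (PR.fixF [tb8, tb8]) 0 0 1045 sq8_0 h
  exact h

theorem rel0 : ∀ u, 0 ≤ u → u < 1045 → PR.fixF [tb0, tb2, tb0, tb2, tb0, tb2] u = true := by
  have h : ∀ u, 0 ≤ u → u < 0 → PR.fixF [tb0, tb2, tb0, tb2, tb0, tb2] u = true := fun u h1 h2 => absurd h2 (by omega)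
  have h := PR.allR_chain (PR.fixF [tb0, tb2, tb0, tb2, tb0, tb2]) 0 0 1045 rel0_0 h
  exact h

theorem rel1 : ∀ u, 0 ≤ u → u < 1045 → PR.fixF [tb0, tb4, tb0, tb4] u = true := by
  have h : ∀ u, 0 ≤ u → u < 0 → PR.fixF [tb0, tb4, tb0, tb4] u = true := fun u h1 h2 => absurd h2 (by omega)
  have h := PR.allR_chain (PR.fixF [tb0, tb4, tb0, tb4]) 0 0 1045 rel1_0 h
  exact h

theorem rel2 : ∀ u, 0 ≤ u → u < 1045 → PR.fixF [tb0, tb6, tb0, tb6] u = true := by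
  have h : ∀ u, 0 ≤ u → u < 0 → PR.fixF [tb0, tb6, tb0, tb6] u = true := fun u h1 h2 => absurd h2 (by omega)
  have h := PR.allR_chain (PR.fixF [tb0, tb6, tb0, tb6]) 0 0 1045 rel2_0 h
  exact h

theorem rel3 : ∀ u, 0 ≤ u → u < 1045 → PR.fixF [tb0, tb8, tb0, tb8] u = true := by
  have h : ∀ u, 0 ≤ u → u < 0 → PR.fixF [tb0, tb8, tb0, tb8] u = true := fun u h1 h2 => absurd h2 (by omega)
  have h := PR.allR_chain (PR.fixF [tb0, tb8, tb0, tb8]) 0 0 1045 rel3_0 h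
  exact h

theorem rel4 : ∀ u, 0 ≤ u → u < 1045 → PR.fixF [tb2, tb4, tb2, tb4, tb2, tb4, tb2, tb4, tb2, tb4] u = true := by
  have h : ∀ u, 0 ≤ u → u < 0 → PR.fixF [tb2, tb4, tb2, tb4, tb2, tb4, tb2, tb4, tb2, tb4] u = true := fun u h1 h2 => absurd h2 (by omega)
  have h := PR.allR_chain (PR.fixF [tb2, tb4, tb2, tb4, tb2, tb4, tb2, tb4, tb2, tb4]) 0 0 1045 rel4_0 h
  exact h

theorem rel5 : ∀ u, 0 ≤ u → u < 1045 → PR.fixF [tb2, tb6, tb2, tb6] u = true := by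
  have h : ∀ u, 0 ≤ u → u < 0 → PR.fixF [tb2, tb6, tb2, tb6] u = true := fun u h1 h2 => absurd h2 (by omega)
  have h := PR.allR_chain (PR.fixF [tb2, tb6, tb2, tb6]) 0 0 1045 rel5_0 h
  exact h

theorem rel6 : ∀ u, 0 ≤ u → u < 1045 → PR.fixF [tb2, tb8, tb2, tb8] u = true := by
  have h : ∀ u, 0 ≤ u → u < 0 → PR.fixF [tb2, tb8, tb2, tb8] u = true := fun u h1 h2 => absurd h2 (by omega)
  have h := PR.allR_chain (PR.fixF [tb2, tb8, tb2, tb8]) 0 0 1045 rel6_0 h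
  exact h

theorem rel7 : ∀ u, 0 ≤ u → u < 1045 → PR.fixF [tb4, tb6, tb4, tb6, tb4, tb6] u = true := by
  have h : ∀ u, 0 ≤ u → u < 0 → PR.fixF [tb4, tb6, tb4, tb6, tb4, tb6] u = true := fun u h1 h2 => absurd h2 (by omega)
  have h := PR.allR_chain (PR.fixF [tb4, tb6, tb4, tb6, tb4, tb6]) 0 0 1045 rel7_0 h
  exact h

theorem rel8 : ∀ u, 0 ≤ u → u < 1045 → PR.fixF [tb4, tb8, tb4, tb8] u = true := by
  have h : ∀ u, 0 ≤ u → u < 0 → PR.fixF [tb4, tb8, tb4, tb8] u = true := fun u h1 h2 => absurd h2 (by omega)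
  have h := PR.allR_chain (PR.fixF [tb4, tb8, tb4, tb8]) 0 0 1045 rel8_0 h
  exact h

theorem rel9 : ∀ u, 0 ≤ u → u < 1045 → PR.fixF [tb6, tb8, tb6, tb8, tb6, tb8, tb6, tb8, tb6, tb8] u = true := by
  have h : ∀ u, 0 ≤ u → u < 0 → PR.fixF [tb6, tb8, tb6, tb8, tb6, tb8, tb6, tb8, tb6, tb8] u = true := fun u h1 h2 => absurd h2 (by omega)
  have h := PR.allR_chain (PR.fixF [tb6, tb8, tb6, tb8, tb6, tb8, tb6, tb8, tb6, tb8]) 0 0 1045 rel9_0 h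
  exact h

theorem rel10 : ∀ u, 0 ≤ u → u < 1045 → PR.fixF [tb0, tb2, tb4, tb0, tb2, tb4, tb0, tb2, tb4, tb0, tb2, tb4, tb0, tb2, tb4] u = true := by
  have h : ∀ u, 0 ≤ u → u < 0 → PR.fixF [tb0, tb2, tb4, tb0, tb2, tb4, tb0, tb2, tb4, tb0, tb2, tb4, tb0, tb2, tb4] u = true := fun u h1 h2 => absurd h2 (by omega)
  have h := PR.allR_chain (PR.fixF [tb0, tb2, tb4, tb0, tb2, tb4, tb0, tb2, tb4, tb0, tb2, tb4, tb0, tb2, tb4]) 0 0 1045 rel10_0 h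
  exact h

theorem rel11 : ∀ u, 0 ≤ u → u < 1045 → PR.fixF [tb0, tb4, tb6, tb8, tb4, tb6, tb8, tb4, tb6, tb8, tb4, tb6, tb8, tb4, tb6, tb8] u = true := by
  have h : ∀ u, 0 ≤ u → u < 0 → PR.fixF [tb0, tb4, tb6, tb8, tb4, tb6, tb8, tb4, tb6, tb8, tb4, tb6, tb8, tb4, tb6, tb8] u = true := fun u h1 h2 => absurd h2 (by omega)
  have h := PR.allR_chain (PR.fixF [tb0, tb4, tb6, tb8, tb4, tb6, tb8, tb4, tb6, tb8, tb4, tb6, tb8, tb4, tb6, tb8]) 0 0 1045 rel11_0 h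
  exact h

theorem mp0_0 : ∀ u, 0 ≤ u → u < 1 → PR.mapsF [tb0] 0 0 u = true := by
  have h : ∀ u, 0 ≤ u → u < 0 → PR.mapsF [tb0] 0 0 u = true := fun u h1 h2 => absurd h2 (by omega)
  have h := PR.allR_chain (PR.mapsF [tb0] 0 0) 0 0 1 mp0_0_0 h
  exact h

theorem mp0_1 : ∀ u, 0 ≤ u → u < 1 → PR.mapsF [tb4] 0 0 u = true := by
  have h : ∀ u, 0 ≤ u → u < 0 → PR.mapsF [tb4] 0 0 u = true := fun u h1 h2 => absurd h2 (by omega)
  have h := PR.allR_chain (PR.mapsF [tb4] 0 0) 0 0 1 mp0_1_0 h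
  exact h

theorem mp0_2 : ∀ u, 0 ≤ u → u < 1 → PR.mapsF [tb8] 0 0 u = true := by
  have h : ∀ u, 0 ≤ u → u < 0 → PR.mapsF [tb8] 0 0 u = true := fun u h1 h2 => absurd h2 (by omega)
  have h := PR.allR_chain (PR.mapsF [tb8] 0 0) 0 0 1 mp0_2_0 h
  exact h

theorem mp0_3 : ∀ u, 0 ≤ u → u < 1 → PR.mapsF [tb2, tb0, tb4, tb2, tb4, tb2] 0 0 u = true := by
  have h : ∀ u, 0 ≤ u → u < 0 → PR.mapsF [tb2, tb0, tb4, tb2, tb4, tb2] 0 0 u = true := fun u h1 h2 => absurd h2 (by omega)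
  have h := PR.allR_chain (PR.mapsF [tb2, tb0, tb4, tb2, tb4, tb2] 0 0) 0 0 1 mp0_3_0 h
  exact h

theorem mp0_4 : ∀ u, 0 ≤ u → u < 1 → PR.mapsF [tb6, tb4, tb8, tb6, tb8, tb6] 0 0 u = true := by
  have h : ∀ u, 0 ≤ u → u < 0 → PR.mapsF [tb6, tb4, tb8, tb6, tb8, tb6] 0 0 u = true := fun u h1 h2 => absurd h2 (by omega)
  have h := PR.allR_chain (PR.mapsF [tb6, tb4, tb8, tb6, tb8, tb6] 0 0) 0 0 1 mp0_4_0 h
  exact h

theorem tre0 : ∀ u, 1 ≤ u → u < 1 → PR.treeF tbW [[tb0], [tb4], [tb8], [tb2, tb0, tb4, tb2, tb4, tb2], [tb6, tb4, tb8, tb6, tb8, tb6]] 0 u = true := by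
  have h : ∀ u, 1 ≤ u → u < 1 → PR.treeF tbW [[tb0], [tb4], [tb8], [tb2, tb0, tb4, tb2, tb4, tb2], [tb6, tb4, tb8, tb6, tb8, tb6]] 0 u = true := fun u h1 h2 => absurd h2 (by omega)
  exact h

theorem mp1_0 : ∀ u, 1 ≤ u → u < 29 → PR.mapsF [tb0] 1 28 u = true := by
  have h : ∀ u, 1 ≤ u → u < 1 → PR.mapsF [tb0] 1 28 u = true := fun u h1 h2 => absurd h2 (by omega)
  have h := PR.allR_chain (PR.mapsF [tb0] 1 28) 1 1 28 mp1_0_0 h
  exact h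

theorem mp1_1 : ∀ u, 1 ≤ u → u < 29 → PR.mapsF [tb4] 1 28 u = true := by
  have h : ∀ u, 1 ≤ u → u < 1 → PR.mapsF [tb4] 1 28 u = true := fun u h1 h2 => absurd h2 (by omega)
  have h := PR.allR_chain (PR.mapsF [tb4] 1 28) 1 1 28 mp1_1_0 h
  exact h

theorem mp1_2 : ∀ u, 1 ≤ u → u < 29 → PR.mapsF [tb8] 1 28 u = true := by
  have h : ∀ u, 1 ≤ u → u < 1 → PR.mapsF [tb8] 1 28 u = true := fun u h1 h2 => absurd h2 (by omega)
  have h := PR.allR_chain (PR.mapsF [tb8] 1 28) 1 1 28 mp1_2_0 h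
  exact h

theorem mp1_3 : ∀ u, 1 ≤ u → u < 29 → PR.mapsF [tb2, tb0, tb4, tb2, tb4, tb2] 1 28 u = true := by
  have h : ∀ u, 1 ≤ u → u < 1 → PR.mapsF [tb2, tb0, tb4, tb2, tb4, tb2] 1 28 u = true := fun u h1 h2 => absurd h2 (by omega)
  have h := PR.allR_chain (PR.mapsF [tb2, tb0, tb4, tb2, tb4, tb2] 1 28) 1 1 28 mp1_3_0 h
  exact h

theorem mp1_4 : ∀ u, 1 ≤ u → u < 29 → PR.mapsF [tb6, tb4, tb8, tb6, tb8, tb6] 1 28 u = true := by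
  have h : ∀ u, 1 ≤ u → u < 1 → PR.mapsF [tb6, tb4, tb8, tb6, tb8, tb6] 1 28 u = true := fun u h1 h2 => absurd h2 (by omega)
  have h := PR.allR_chain (PR.mapsF [tb6, tb4, tb8, tb6, tb8, tb6] 1 28) 1 1 28 mp1_4_0 h
  exact h

theorem tre1 : ∀ u, 2 ≤ u → u < 29 → PR.treeF tbW [[tb0], [tb4], [tb8], [tb2, tb0, tb4, tb2, tb4, tb2], [tb6, tb4, tb8, tb6, tb8, tb6]] 1 u = true := by
  have h : ∀ u, 2 ≤ u → u < 2 → PR.treeF tbW [[tb0], [tb4], [tb8], [tb2, tb0, tb4, tb2, tb4, tb2], [tb6, tb4, tb8, tb6, tb8, tb6]] 1 u = true := fun u h1 h2 => absurd h2 (by omega)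
  have h := PR.allR_chain (PR.treeF tbW [[tb0], [tb4], [tb8], [tb2, tb0, tb4, tb2, tb4, tb2], [tb6, tb4, tb8, tb6, tb8, tb6]] 1) 2 2 27 tre1_0 h
  exact h

theorem mp2_0 : ∀ u, 29 ≤ u → u < 197 → PR.mapsF [tb0] 29 196 u = true := by
  have h : ∀ u, 29 ≤ u → u < 29 → PR.mapsF [tb0] 29 196 u = true := fun u h1 h2 => absurd h2 (by omega)
  have h := PR.allR_chain (PR.mapsF [tb0] 29 196) 29 29 168 mp2_0_0 h
  exact h

theorem mp2_1 : ∀ u, 29 ≤ u → u < 197 → PR.mapsF [tb4] 29 196 u = true := by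
  have h : ∀ u, 29 ≤ u → u < 29 → PR.mapsF [tb4] 29 196 u = true := fun u h1 h2 => absurd h2 (by omega)
  have h := PR.allR_chain (PR.mapsF [tb4] 29 196) 29 29 168 mp2_1_0 h
  exact h

theorem mp2_2 : ∀ u, 29 ≤ u → u < 197 → PR.mapsF [tb8] 29 196 u = true := by
  have h : ∀ u, 29 ≤ u → u < 29 → PR.mapsF [tb8] 29 196 u = true := fun u h1 h2 => absurd h2 (by omega)
  have h := PR.allR_chain (PR.mapsF [tb8] 29 196) 29 29 168 mp2_2_0 h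
  exact h

theorem mp2_3 : ∀ u, 29 ≤ u → u < 197 → PR.mapsF [tb2, tb0, tb4, tb2, tb4, tb2] 29 196 u = true := by
  have h : ∀ u, 29 ≤ u → u < 29 → PR.mapsF [tb2, tb0, tb4, tb2, tb4, tb2] 29 196 u = true := fun u h1 h2 => absurd h2 (by omega)
  have h := PR.allR_chain (PR.mapsF [tb2, tb0, tb4, tb2, tb4, tb2] 29 196) 29 29 168 mp2_3_0 h
  exact h

theorem mp2_4 : ∀ u, 29 ≤ u → u < 197 → PR.mapsF [tb6, tb4, tb8, tb6, tb8, tb6] 29 196 u = true := by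
  have h : ∀ u, 29 ≤ u → u < 29 → PR.mapsF [tb6, tb4, tb8, tb6, tb8, tb6] 29 196 u = true := fun u h1 h2 => absurd h2 (by omega)
  have h := PR.allR_chain (PR.mapsF [tb6, tb4, tb8, tb6, tb8, tb6] 29 196) 29 29 168 mp2_4_0 h
  exact h

theorem tre2 : ∀ u, 30 ≤ u → u < 197 → PR.treeF tbW [[tb0], [tb4], [tb8], [tb2, tb0, tb4, tb2, tb4, tb2], [tb6, tb4, tb8, tb6, tb8, tb6]] 29 u = true := by
  have h : ∀ u, 30 ≤ u → u < 30 → PR.treeF tbW [[tb0], [tb4], [tb8], [tb2, tb0, tb4, tb2, tb4, tb2], [tb6, tb4, tb8, tb6, tb8, tb6]] 29 u = true := fun u h1 h2 => absurd h2 (by omega)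
  have h := PR.allR_chain (PR.treeF tbW [[tb0], [tb4], [tb8], [tb2, tb0, tb4, tb2, tb4, tb2], [tb6, tb4, tb8, tb6, tb8, tb6]] 29) 30 30 167 tre2_0 h
  exact h

theorem mp3_0 : ∀ u, 197 ≤ u → u < 365 → PR.mapsF [tb0] 197 364 u = true := by
  have h : ∀ u, 197 ≤ u → u < 197 → PR.mapsF [tb0] 197 364 u = true := fun u h1 h2 => absurd h2 (by omega)
  have h := PR.allR_chain (PR.mapsF [tb0] 197 364) 197 197 168 mp3_0_0 h
  exact h

theorem mp3_1 : ∀ u, 197 ≤ u → u < 365 → PR.mapsF [tb4] 197 364 u = true := by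
  have h : ∀ u, 197 ≤ u → u < 197 → PR.mapsF [tb4] 197 364 u = true := fun u h1 h2 => absurd h2 (by omega)
  have h := PR.allR_chain (PR.mapsF [tb4] 197 364) 197 197 168 mp3_1_0 h
  exact h

theorem mp3_2 : ∀ u, 197 ≤ u → u < 365 → PR.mapsF [tb8] 197 364 u = true := by
  have h : ∀ u, 197 ≤ u → u < 197 → PR.mapsF [tb8] 197 364 u = true := fun u h1 h2 => absurd h2 (by omega)
  have h := PR.allR_chain (PR.mapsF [tb8] 197 364) 197 197 168 mp3_2_0 h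
  exact h

theorem mp3_3 : ∀ u, 197 ≤ u → u < 365 → PR.mapsF [tb2, tb0, tb4, tb2, tb4, tb2] 197 364 u = true := by
  have h : ∀ u, 197 ≤ u → u < 197 → PR.mapsF [tb2, tb0, tb4, tb2, tb4, tb2] 197 364 u = true := fun u h1 h2 => absurd h2 (by omega)
  have h := PR.allR_chain (PR.mapsF [tb2, tb0, tb4, tb2, tb4, tb2] 197 364) 197 197 168 mp3_3_0 h
  exact h

theorem mp3_4 : ∀ u, 197 ≤ u → u < 365 → PR.mapsF [tb6, tb4, tb8, tb6, tb8, tb6] 197 364 u = true := by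
  have h : ∀ u, 197 ≤ u → u < 197 → PR.mapsF [tb6, tb4, tb8, tb6, tb8, tb6] 197 364 u = true := fun u h1 h2 => absurd h2 (by omega)
  have h := PR.allR_chain (PR.mapsF [tb6, tb4, tb8, tb6, tb8, tb6] 197 364) 197 197 168 mp3_4_0 h
  exact h

theorem tre3 : ∀ u, 198 ≤ u → u < 365 → PR.treeF tbW [[tb0], [tb4], [tb8], [tb2, tb0, tb4, tb2, tb4, tb2], [tb6, tb4, tb8, tb6, tb8, tb6]] 197 u = true := by
  have h : ∀ u, 198 ≤ u → u < 198 → PR.treeF tbW [[tb0], [tb4], [tb8], [tb2, tb0, tb4, tb2, tb4, tb2], [tb6, tb4, tb8, tb6, tb8, tb6]] 197 u = true := fun u h1 h2 => absurd h2 (by omega)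
  have h := PR.allR_chain (PR.treeF tbW [[tb0], [tb4], [tb8], [tb2, tb0, tb4, tb2, tb4, tb2], [tb6, tb4, tb8, tb6, tb8, tb6]] 197) 198 198 167 tre3_0 h
  exact h

theorem mp4_0 : ∀ u, 365 ≤ u → u < 421 → PR.mapsF [tb0] 365 420 u = true := by
  have h : ∀ u, 365 ≤ u → u < 365 → PR.mapsF [tb0] 365 420 u = true := fun u h1 h2 => absurd h2 (by omega)
  have h := PR.allR_chain (PR.mapsF [tb0] 365 420) 365 365 56 mp4_0_0 h
  exact h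

theorem mp4_1 : ∀ u, 365 ≤ u → u < 421 → PR.mapsF [tb4] 365 420 u = true := by
  have h : ∀ u, 365 ≤ u → u < 365 → PR.mapsF [tb4] 365 420 u = true := fun u h1 h2 => absurd h2 (by omega)
  have h := PR.allR_chain (PR.mapsF [tb4] 365 420) 365 365 56 mp4_1_0 h
  exact h

theorem mp4_2 : ∀ u, 365 ≤ u → u < 421 → PR.mapsF [tb8] 365 420 u = true := by
  have h : ∀ u, 365 ≤ u → u < 365 → PR.mapsF [tb8] 365 420 u = true := fun u h1 h2 => absurd h2 (by omega)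
  have h := PR.allR_chain (PR.mapsF [tb8] 365 420) 365 365 56 mp4_2_0 h
  exact h

theorem mp4_3 : ∀ u, 365 ≤ u → u < 421 → PR.mapsF [tb2, tb0, tb4, tb2, tb4, tb2] 365 420 u = true := by
  have h : ∀ u, 365 ≤ u → u < 365 → PR.mapsF [tb2, tb0, tb4, tb2, tb4, tb2] 365 420 u = true := fun u h1 h2 => absurd h2 (by omega)
  have h := PR.allR_chain (PR.mapsF [tb2, tb0, tb4, tb2, tb4, tb2] 365 420) 365 365 56 mp4_3_0 h
  exact h

theorem mp4_4 : ∀ u, 365 ≤ u → u < 421 → PR.mapsF [tb6, tb4, tb8, tb6, tb8, tb6] 365 420 u = true := by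
  have h : ∀ u, 365 ≤ u → u < 365 → PR.mapsF [tb6, tb4, tb8, tb6, tb8, tb6] 365 420 u = true := fun u h1 h2 => absurd h2 (by omega)
  have h := PR.allR_chain (PR.mapsF [tb6, tb4, tb8, tb6, tb8, tb6] 365 420) 365 365 56 mp4_4_0 h
  exact h

theorem tre4 : ∀ u, 366 ≤ u → u < 421 → PR.treeF tbW [[tb0], [tb4], [tb8], [tb2, tb0, tb4, tb2, tb4, tb2], [tb6, tb4, tb8, tb6, tb8, tb6]] 365 u = true := by
  have h : ∀ u, 366 ≤ u → u < 366 → PR.treeF tbW [[tb0], [tb4], [tb8], [tb2, tb0, tb4, tb2, tb4, tb2], [tb6, tb4, tb8, tb6, tb8, tb6]] 365 u = true := fun u h1 h2 => absurd h2 (by omega)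
  have h := PR.allR_chain (PR.treeF tbW [[tb0], [tb4], [tb8], [tb2, tb0, tb4, tb2, tb4, tb2], [tb6, tb4, tb8, tb6, tb8, tb6]] 365) 366 366 55 tre4_0 h
  exact h

theorem mp5_0 : ∀ u, 421 ≤ u → u < 477 → PR.mapsF [tb0] 421 476 u = true := by
  have h : ∀ u, 421 ≤ u → u < 421 → PR.mapsF [tb0] 421 476 u = true := fun u h1 h2 => absurd h2 (by omega)
  have h := PR.allR_chain (PR.mapsF [tb0] 421 476) 421 421 56 mp5_0_0 h
  exact h

theorem mp5_1 : ∀ u, 421 ≤ u → u < 477 → PR.mapsF [tb4] 421 476 u = true := by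
  have h : ∀ u, 421 ≤ u → u < 421 → PR.mapsF [tb4] 421 476 u = true := fun u h1 h2 => absurd h2 (by omega)
  have h := PR.allR_chain (PR.mapsF [tb4] 421 476) 421 421 56 mp5_1_0 h
  exact h

theorem mp5_2 : ∀ u, 421 ≤ u → u < 477 → PR.mapsF [tb8] 421 476 u = true := by
  have h : ∀ u, 421 ≤ u → u < 421 → PR.mapsF [tb8] 421 476 u = true := fun u h1 h2 => absurd h2 (by omega)
  have h := PR.allR_chain (PR.mapsF [tb8] 421 476) 421 421 56 mp5_2_0 h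
  exact h

theorem mp5_3 : ∀ u, 421 ≤ u → u < 477 → PR.mapsF [tb2, tb0, tb4, tb2, tb4, tb2] 421 476 u = true := by
  have h : ∀ u, 421 ≤ u → u < 421 → PR.mapsF [tb2, tb0, tb4, tb2, tb4, tb2] 421 476 u = true := fun u h1 h2 => absurd h2 (by omega)
  have h := PR.allR_chain (PR.mapsF [tb2, tb0, tb4, tb2, tb4, tb2] 421 476) 421 421 56 mp5_3_0 h
  exact h

theorem mp5_4 : ∀ u, 421 ≤ u → u < 477 → PR.mapsF [tb6, tb4, tb8, tb6, tb8, tb6] 421 476 u = true := by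
  have h : ∀ u, 421 ≤ u → u < 421 → PR.mapsF [tb6, tb4, tb8, tb6, tb8, tb6] 421 476 u = true := fun u h1 h2 => absurd h2 (by omega)
  have h := PR.allR_chain (PR.mapsF [tb6, tb4, tb8, tb6, tb8, tb6] 421 476) 421 421 56 mp5_4_0 h
  exact h

theorem tre5 : ∀ u, 422 ≤ u → u < 477 → PR.treeF tbW [[tb0], [tb4], [tb8], [tb2, tb0, tb4, tb2, tb4, tb2], [tb6, tb4, tb8, tb6, tb8, tb6]] 421 u = true := by
  have h : ∀ u, 422 ≤ u → u < 422 → PR.treeF tbW [[tb0], [tb4], [tb8], [tb2, tb0, tb4, tb2, tb4, tb2], [tb6, tb4, tb8, tb6, tb8, tb6]] 421 u = true := fun u h1 h2 => absurd h2 (by omega)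
  have h := PR.allR_chain (PR.treeF tbW [[tb0], [tb4], [tb8], [tb2, tb0, tb4, tb2, tb4, tb2], [tb6, tb4, tb8, tb6, tb8, tb6]] 421) 422 422 55 tre5_0 h
  exact h

theorem mp6_0 : ∀ u, 477 ≤ u → u < 645 → PR.mapsF [tb0] 477 644 u = true := by
  have h : ∀ u, 477 ≤ u → u < 477 → PR.mapsF [tb0] 477 644 u = true := fun u h1 h2 => absurd h2 (by omega)
  have h := PR.allR_chain (PR.mapsF [tb0] 477 644) 477 477 168 mp6_0_0 h
  exact h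

theorem mp6_1 : ∀ u, 477 ≤ u → u < 645 → PR.mapsF [tb4] 477 644 u = true := by
  have h : ∀ u, 477 ≤ u → u < 477 → PR.mapsF [tb4] 477 644 u = true := fun u h1 h2 => absurd h2 (by omega)
  have h := PR.allR_chain (PR.mapsF [tb4] 477 644) 477 477 168 mp6_1_0 h
  exact h

theorem mp6_2 : ∀ u, 477 ≤ u → u < 645 → PR.mapsF [tb8] 477 644 u = true := by
  have h : ∀ u, 477 ≤ u → u < 477 → PR.mapsF [tb8] 477 644 u = true := fun u h1 h2 => absurd h2 (by omega)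
  have h := PR.allR_chain (PR.mapsF [tb8] 477 644) 477 477 168 mp6_2_0 h
  exact h

theorem mp6_3 : ∀ u, 477 ≤ u → u < 645 → PR.mapsF [tb2, tb0, tb4, tb2, tb4, tb2] 477 644 u = true := by
  have h : ∀ u, 477 ≤ u → u < 477 → PR.mapsF [tb2, tb0, tb4, tb2, tb4, tb2] 477 644 u = true := fun u h1 h2 => absurd h2 (by omega)
  have h := PR.allR_chain (PR.mapsF [tb2, tb0, tb4, tb2, tb4, tb2] 477 644) 477 477 168 mp6_3_0 h
  exact h

theorem mp6_4 : ∀ u, 477 ≤ u → u < 645 → PR.mapsF [tb6, tb4, tb8, tb6, tb8, tb6] 477 644 u = true := by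
  have h : ∀ u, 477 ≤ u → u < 477 → PR.mapsF [tb6, tb4, tb8, tb6, tb8, tb6] 477 644 u = true := fun u h1 h2 => absurd h2 (by omega)
  have h := PR.allR_chain (PR.mapsF [tb6, tb4, tb8, tb6, tb8, tb6] 477 644) 477 477 168 mp6_4_0 h
  exact h

theorem tre6 : ∀ u, 478 ≤ u → u < 645 → PR.treeF tbW [[tb0], [tb4], [tb8], [tb2, tb0, tb4, tb2, tb4, tb2], [tb6, tb4, tb8, tb6, tb8, tb6]] 477 u = true := by
  have h : ∀ u, 478 ≤ u → u < 478 → PR.treeF tbW [[tb0], [tb4], [tb8], [tb2, tb0, tb4, tb2, tb4, tb2], [tb6, tb4, tb8, tb6, tb8, tb6]] 477 u = true := fun u h1 h2 => absurd h2 (by omega)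
  have h := PR.allR_chain (PR.treeF tbW [[tb0], [tb4], [tb8], [tb2, tb0, tb4, tb2, tb4, tb2], [tb6, tb4, tb8, tb6, tb8, tb6]] 477) 478 478 167 tre6_0 h
  exact h

theorem mp7_0 : ∀ u, 645 ≤ u → u < 813 → PR.mapsF [tb0] 645 812 u = true := by
  have h : ∀ u, 645 ≤ u → u < 645 → PR.mapsF [tb0] 645 812 u = true := fun u h1 h2 => absurd h2 (by omega)
  have h := PR.allR_chain (PR.mapsF [tb0] 645 812) 645 645 168 mp7_0_0 h
  exact h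

theorem mp7_1 : ∀ u, 645 ≤ u → u < 813 → PR.mapsF [tb4] 645 812 u = true := by
  have h : ∀ u, 645 ≤ u → u < 645 → PR.mapsF [tb4] 645 812 u = true := fun u h1 h2 => absurd h2 (by omega)
  have h := PR.allR_chain (PR.mapsF [tb4] 645 812) 645 645 168 mp7_1_0 h
  exact h

theorem mp7_2 : ∀ u, 645 ≤ u → u < 813 → PR.mapsF [tb8] 645 812 u = true := by
  have h : ∀ u, 645 ≤ u → u < 645 → PR.mapsF [tb8] 645 812 u = true := fun u h1 h2 => absurd h2 (by omega)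
  have h := PR.allR_chain (PR.mapsF [tb8] 645 812) 645 645 168 mp7_2_0 h
  exact h

theorem mp7_3 : ∀ u, 645 ≤ u → u < 813 → PR.mapsF [tb2, tb0, tb4, tb2, tb4, tb2] 645 812 u = true := by
  have h : ∀ u, 645 ≤ u → u < 645 → PR.mapsF [tb2, tb0, tb4, tb2, tb4, tb2] 645 812 u = true := fun u h1 h2 => absurd h2 (by omega)
  have h := PR.allR_chain (PR.mapsF [tb2, tb0, tb4, tb2, tb4, tb2] 645 812) 645 645 168 mp7_3_0 h
  exact h

theorem mp7_4 : ∀ u, 645 ≤ u → u < 813 → PR.mapsF [tb6, tb4, tb8, tb6, tb8, tb6] 645 812 u = true := by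
  have h : ∀ u, 645 ≤ u → u < 645 → PR.mapsF [tb6, tb4, tb8, tb6, tb8, tb6] 645 812 u = true := fun u h1 h2 => absurd h2 (by omega)
  have h := PR.allR_chain (PR.mapsF [tb6, tb4, tb8, tb6, tb8, tb6] 645 812) 645 645 168 mp7_4_0 h
  exact h

theorem tre7 : ∀ u, 646 ≤ u → u < 813 → PR.treeF tbW [[tb0], [tb4], [tb8], [tb2, tb0, tb4, tb2, tb4, tb2], [tb6, tb4, tb8, tb6, tb8, tb6]] 645 u = true := by
  have h : ∀ u, 646 ≤ u → u < 646 → PR.treeF tbW [[tb0], [tb4], [tb8], [tb2, tb0, tb4, tb2, tb4, tb2], [tb6, tb4, tb8, tb6, tb8, tb6]] 645 u = true := fun u h1 h2 => absurd h2 (by omega)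
  have h := PR.allR_chain (PR.treeF tbW [[tb0], [tb4], [tb8], [tb2, tb0, tb4, tb2, tb4, tb2], [tb6, tb4, tb8, tb6, tb8, tb6]] 645) 646 646 167 tre7_0 h
  exact h

theorem mp8_0 : ∀ u, 813 ≤ u → u < 821 → PR.mapsF [tb0] 813 820 u = true := by
  have h : ∀ u, 813 ≤ u → u < 813 → PR.mapsF [tb0] 813 820 u = true := fun u h1 h2 => absurd h2 (by omega)
  have h := PR.allR_chain (PR.mapsF [tb0] 813 820) 813 813 8 mp8_0_0 h
  exact h

theorem mp8_1 : ∀ u, 813 ≤ u → u < 821 → PR.mapsF [tb4] 813 820 u = true := by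
  have h : ∀ u, 813 ≤ u → u < 813 → PR.mapsF [tb4] 813 820 u = true := fun u h1 h2 => absurd h2 (by omega)
  have h := PR.allR_chain (PR.mapsF [tb4] 813 820) 813 813 8 mp8_1_0 h
  exact h

theorem mp8_2 : ∀ u, 813 ≤ u → u < 821 → PR.mapsF [tb8] 813 820 u = true := by
  have h : ∀ u, 813 ≤ u → u < 813 → PR.mapsF [tb8] 813 820 u = true := fun u h1 h2 => absurd h2 (by omega)
  have h := PR.allR_chain (PR.mapsF [tb8] 813 820) 813 813 8 mp8_2_0 h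
  exact h

theorem mp8_3 : ∀ u, 813 ≤ u → u < 821 → PR.mapsF [tb2, tb0, tb4, tb2, tb4, tb2] 813 820 u = true := by
  have h : ∀ u, 813 ≤ u → u < 813 → PR.mapsF [tb2, tb0, tb4, tb2, tb4, tb2] 813 820 u = true := fun u h1 h2 => absurd h2 (by omega)
  have h := PR.allR_chain (PR.mapsF [tb2, tb0, tb4, tb2, tb4, tb2] 813 820) 813 813 8 mp8_3_0 h
  exact h

theorem mp8_4 : ∀ u, 813 ≤ u → u < 821 → PR.mapsF [tb6, tb4, tb8, tb6, tb8, tb6] 813 820 u = true := by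
  have h : ∀ u, 813 ≤ u → u < 813 → PR.mapsF [tb6, tb4, tb8, tb6, tb8, tb6] 813 820 u = true := fun u h1 h2 => absurd h2 (by omega)
  have h := PR.allR_chain (PR.mapsF [tb6, tb4, tb8, tb6, tb8, tb6] 813 820) 813 813 8 mp8_4_0 h
  exact h

theorem tre8 : ∀ u, 814 ≤ u → u < 821 → PR.treeF tbW [[tb0], [tb4], [tb8], [tb2, tb0, tb4, tb2, tb4, tb2], [tb6, tb4, tb8, tb6, tb8, tb6]] 813 u = true := by
  have h : ∀ u, 814 ≤ u → u < 814 → PR.treeF tbW [[tb0], [tb4], [tb8], [tb2, tb0, tb4, tb2, tb4, tb2], [tb6, tb4, tb8, tb6, tb8, tb6]] 813 u = true := fun u h1 h2 => absurd h2 (by omega)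
  have h := PR.allR_chain (PR.treeF tbW [[tb0], [tb4], [tb8], [tb2, tb0, tb4, tb2, tb4, tb2], [tb6, tb4, tb8, tb6, tb8, tb6]] 813) 814 814 7 tre8_0 h
  exact h

theorem mp9_0 : ∀ u, 821 ≤ u → u < 877 → PR.mapsF [tb0] 821 876 u = true := by
  have h : ∀ u, 821 ≤ u → u < 821 → PR.mapsF [tb0] 821 876 u = true := fun u h1 h2 => absurd h2 (by omega)
  have h := PR.allR_chain (PR.mapsF [tb0] 821 876) 821 821 56 mp9_0_0 h
  exact h

theorem mp9_1 : ∀ u, 821 ≤ u → u < 877 → PR.mapsF [tb4] 821 876 u = true := by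
  have h : ∀ u, 821 ≤ u → u < 821 → PR.mapsF [tb4] 821 876 u = true := fun u h1 h2 => absurd h2 (by omega)
  have h := PR.allR_chain (PR.mapsF [tb4] 821 876) 821 821 56 mp9_1_0 h
  exact h

theorem mp9_2 : ∀ u, 821 ≤ u → u < 877 → PR.mapsF [tb8] 821 876 u = true := by
  have h : ∀ u, 821 ≤ u → u < 821 → PR.mapsF [tb8] 821 876 u = true := fun u h1 h2 => absurd h2 (by omega)
  have h := PR.allR_chain (PR.mapsF [tb8] 821 876) 821 821 56 mp9_2_0 h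
  exact h

theorem mp9_3 : ∀ u, 821 ≤ u → u < 877 → PR.mapsF [tb2, tb0, tb4, tb2, tb4, tb2] 821 876 u = true := by
  have h : ∀ u, 821 ≤ u → u < 821 → PR.mapsF [tb2, tb0, tb4, tb2, tb4, tb2] 821 876 u = true := fun u h1 h2 => absurd h2 (by omega)
  have h := PR.allR_chain (PR.mapsF [tb2, tb0, tb4, tb2, tb4, tb2] 821 876) 821 821 56 mp9_3_0 h
  exact h

theorem mp9_4 : ∀ u, 821 ≤ u → u < 877 → PR.mapsF [tb6, tb4, tb8, tb6, tb8, tb6] 821 876 u = true := by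
  have h : ∀ u, 821 ≤ u → u < 821 → PR.mapsF [tb6, tb4, tb8, tb6, tb8, tb6] 821 876 u = true := fun u h1 h2 => absurd h2 (by omega)
  have h := PR.allR_chain (PR.mapsF [tb6, tb4, tb8, tb6, tb8, tb6] 821 876) 821 821 56 mp9_4_0 h
  exact h

theorem tre9 : ∀ u, 822 ≤ u → u < 877 → PR.treeF tbW [[tb0], [tb4], [tb8], [tb2, tb0, tb4, tb2, tb4, tb2], [tb6, tb4, tb8, tb6, tb8, tb6]] 821 u = true := by
  have h : ∀ u, 822 ≤ u → u < 822 → PR.treeF tbW [[tb0], [tb4], [tb8], [tb2, tb0, tb4, tb2, tb4, tb2], [tb6, tb4, tb8, tb6, tb8, tb6]] 821 u = true := fun u h1 h2 => absurd h2 (by omega)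
  have h := PR.allR_chain (PR.treeF tbW [[tb0], [tb4], [tb8], [tb2, tb0, tb4, tb2, tb4, tb2], [tb6, tb4, tb8, tb6, tb8, tb6]] 821) 822 822 55 tre9_0 h
  exact h

theorem mp10_0 : ∀ u, 877 ≤ u → u < 1045 → PR.mapsF [tb0] 877 1044 u = true := by
  have h : ∀ u, 877 ≤ u → u < 877 → PR.mapsF [tb0] 877 1044 u = true := fun u h1 h2 => absurd h2 (by omega)
  have h := PR.allR_chain (PR.mapsF [tb0] 877 1044) 877 877 168 mp10_0_0 h
  exact h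

theorem mp10_1 : ∀ u, 877 ≤ u → u < 1045 → PR.mapsF [tb4] 877 1044 u = true := by
  have h : ∀ u, 877 ≤ u → u < 877 → PR.mapsF [tb4] 877 1044 u = true := fun u h1 h2 => absurd h2 (by omega)
  have h := PR.allR_chain (PR.mapsF [tb4] 877 1044) 877 877 168 mp10_1_0 h
  exact h

theorem mp10_2 : ∀ u, 877 ≤ u → u < 1045 → PR.mapsF [tb8] 877 1044 u = true := by
  have h : ∀ u, 877 ≤ u → u < 877 → PR.mapsF [tb8] 877 1044 u = true := fun u h1 h2 => absurd h2 (by omega)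
  have h := PR.allR_chain (PR.mapsF [tb8] 877 1044) 877 877 168 mp10_2_0 h
  exact h

theorem mp10_3 : ∀ u, 877 ≤ u → u < 1045 → PR.mapsF [tb2, tb0, tb4, tb2, tb4, tb2] 877 1044 u = true := by
  have h : ∀ u, 877 ≤ u → u < 877 → PR.mapsF [tb2, tb0, tb4, tb2, tb4, tb2] 877 1044 u = true := fun u h1 h2 => absurd h2 (by omega)
  have h := PR.allR_chain (PR.mapsF [tb2, tb0, tb4, tb2, tb4, tb2] 877 1044) 877 877 168 mp10_3_0 h
  exact h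

theorem mp10_4 : ∀ u, 877 ≤ u → u < 1045 → PR.mapsF [tb6, tb4, tb8, tb6, tb8, tb6] 877 1044 u = true := by
  have h : ∀ u, 877 ≤ u → u < 877 → PR.mapsF [tb6, tb4, tb8, tb6, tb8, tb6] 877 1044 u = true := fun u h1 h2 => absurd h2 (by omega)
  have h := PR.allR_chain (PR.mapsF [tb6, tb4, tb8, tb6, tb8, tb6] 877 1044) 877 877 168 mp10_4_0 h
  exact h

theorem tre10 : ∀ u, 878 ≤ u → u < 1045 → PR.treeF tbW [[tb0], [tb4], [tb8], [tb2, tb0, tb4, tb2, tb4, tb2], [tb6, tb4, tb8, tb6, tb8, tb6]] 877 u = true := by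
  have h : ∀ u, 878 ≤ u → u < 878 → PR.treeF tbW [[tb0], [tb4], [tb8], [tb2, tb0, tb4, tb2, tb4, tb2], [tb6, tb4, tb8, tb6, tb8, tb6]] 877 u = true := fun u h1 h2 => absurd h2 (by omega)
  have h := PR.allR_chain (PR.treeF tbW [[tb0], [tb4], [tb8], [tb2, tb0, tb4, tb2, tb4, tb2], [tb6, tb4, tb8, tb6, tb8, tb6]] 877) 878 878 167 tre10_0 h
  exact h

theorem tables : PR.Tables 1045 tbl invL Ls := by
  refine ⟨?_, by decide, ?_, ?_⟩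
  · intro l hl
    simp only [Ls, List.mem_cons, List.mem_nil_iff, or_false] at hl
    rcases hl with rfl | rfl | rfl | rfl | rfl
    · exact fun u hu => Nat.lt_of_le_of_lt ((PR.mapsF_iff _ _ _ _).mp (rng0 u (Nat.zero_le _) hu)).2 (by norm_num)
    · exact fun u hu => Nat.lt_of_le_of_lt ((PR.mapsF_iff _ _ _ _).mp (rng2 u (Nat.zero_le _) hu)).2 (by norm_num)
    · exact fun u hu => Nat.lt_of_le_of_lt ((PR.mapsF_iff _ _ _ _).mp (rng4 u (Nat.zero_le _) hu)).2 (by norm_num)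
    · exact fun u hu => Nat.lt_of_le_of_lt ((PR.mapsF_iff _ _ _ _).mp (rng6 u (Nat.zero_le _) hu)).2 (by norm_num)
    · exact fun u hu => Nat.lt_of_le_of_lt ((PR.mapsF_iff _ _ _ _).mp (rng8 u (Nat.zero_le _) hu)).2 (by norm_num)
  · intro l hl
    simp only [Ls, List.mem_cons, List.mem_nil_iff, or_false] at hl
    rcases hl with rfl | rfl | rfl | rfl | rfl
    · exact fun u hu => (PR.fixF_iff _ _).mp (sq0 u (Nat.zero_le _) hu)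
    · exact fun u hu => (PR.fixF_iff _ _).mp (sq2 u (Nat.zero_le _) hu)
    · exact fun u hu => (PR.fixF_iff _ _).mp (sq4 u (Nat.zero_le _) hu)
    · exact fun u hu => (PR.fixF_iff _ _).mp (sq6 u (Nat.zero_le _) hu)
    · exact fun u hu => (PR.fixF_iff _ _).mp (sq8 u (Nat.zero_le _) hu)
  · intro l hl
    simp only [Ls, List.mem_cons, List.mem_nil_iff, or_false] at hl
    rcases hl with rfl | rfl | rfl | rfl | rfl
    · exact fun u hu => (PR.fixF_iff _ _).mp (sq0 u (Nat.zero_le _) hu)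
    · exact fun u hu => (PR.fixF_iff _ _).mp (sq2 u (Nat.zero_le _) hu)
    · exact fun u hu => (PR.fixF_iff _ _).mp (sq4 u (Nat.zero_le _) hu)
    · exact fun u hu => (PR.fixF_iff _ _).mp (sq6 u (Nat.zero_le _) hu)
    · exact fun u hu => (PR.fixF_iff _ _).mp (sq8 u (Nat.zero_le _) hu)

theorem relsOK : ∀ r ∈ coxW ++ extraW, ∀ u < 1045, PR.trace (r.map tbl) u = u := by
  intro r hr
  simp only [coxW, extraW, List.mem_append, List.mem_cons, List.mem_nil_iff, or_false, or_assoc] at hr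
  rcases hr with rfl | rfl | rfl | rfl | rfl | rfl | rfl | rfl | rfl | rfl | rfl | rfl
  · exact fun u hu => (PR.fixF_iff _ _).mp (rel0 u (Nat.zero_le _) hu)
  · exact fun u hu => (PR.fixF_iff _ _).mp (rel1 u (Nat.zero_le _) hu)
  · exact fun u hu => (PR.fixF_iff _ _).mp (rel2 u (Nat.zero_le _) hu)
  · exact fun u hu => (PR.fixF_iff _ _).mp (rel3 u (Nat.zero_le _) hu)
  · exact fun u hu => (PR.fixF_iff _ _).mp (rel4 u (Nat.zero_le _) hu)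
  · exact fun u hu => (PR.fixF_iff _ _).mp (rel5 u (Nat.zero_le _) hu)
  · exact fun u hu => (PR.fixF_iff _ _).mp (rel6 u (Nat.zero_le _) hu)
  · exact fun u hu => (PR.fixF_iff _ _).mp (rel7 u (Nat.zero_le _) hu)
  · exact fun u hu => (PR.fixF_iff _ _).mp (rel8 u (Nat.zero_le _) hu)
  · exact fun u hu => (PR.fixF_iff _ _).mp (rel9 u (Nat.zero_le _) hu)
  · exact fun u hu => (PR.fixF_iff _ _).mp (rel10 u (Nat.zero_le _) hu)
  · exact fun u hu => (PR.fixF_iff _ _).mp (rel11 u (Nat.zero_le _) hu)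

theorem orbits : PR.Orbits 1045 tbl Ls subs ivs := by
  refine ⟨by decide, ?_, ?_, ?_, ?_, by decide, by decide⟩
  · intro iv hiv s hs
    simp only [ivs, List.mem_cons, List.mem_nil_iff, or_false] at hiv
    simp only [subs, List.mem_cons, List.mem_nil_iff, or_false] at hs
    rcases hiv with rfl | rfl | rfl | rfl | rfl | rfl | rfl | rfl | rfl | rfl | rfl <;> rcases hs with rfl | rfl | rfl | rfl | rfl
    · exact fun u h1 h2 => ⟨((PR.mapsF_iff _ _ _ _).mp (mp0_0 u h1 h2)).1, Nat.lt_of_le_of_lt ((PR.mapsF_iff _ _ _ _).mp (mp0_0 u h1 h2)).2 (by norm_num)⟩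
    · exact fun u h1 h2 => ⟨((PR.mapsF_iff _ _ _ _).mp (mp0_1 u h1 h2)).1, Nat.lt_of_le_of_lt ((PR.mapsF_iff _ _ _ _).mp (mp0_1 u h1 h2)).2 (by norm_num)⟩
    · exact fun u h1 h2 => ⟨((PR.mapsF_iff _ _ _ _).mp (mp0_2 u h1 h2)).1, Nat.lt_of_le_of_lt ((PR.mapsF_iff _ _ _ _).mp (mp0_2 u h1 h2)).2 (by norm_num)⟩
    · exact fun u h1 h2 => ⟨((PR.mapsF_iff _ _ _ _).mp (mp0_3 u h1 h2)).1, Nat.lt_of_le_of_lt ((PR.mapsF_iff _ _ _ _).mp (mp0_3 u h1 h2)).2 (by norm_num)⟩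
    · exact fun u h1 h2 => ⟨((PR.mapsF_iff _ _ _ _).mp (mp0_4 u h1 h2)).1, Nat.lt_of_le_of_lt ((PR.mapsF_iff _ _ _ _).mp (mp0_4 u h1 h2)).2 (by norm_num)⟩
    · exact fun u h1 h2 => ⟨((PR.mapsF_iff _ _ _ _).mp (mp1_0 u h1 h2)).1, Nat.lt_of_le_of_lt ((PR.mapsF_iff _ _ _ _).mp (mp1_0 u h1 h2)).2 (by norm_num)⟩
    · exact fun u h1 h2 => ⟨((PR.mapsF_iff _ _ _ _).mp (mp1_1 u h1 h2)).1, Nat.lt_of_le_of_lt ((PR.mapsF_iff _ _ _ _).mp (mp1_1 u h1 h2)).2 (by norm_num)⟩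
    · exact fun u h1 h2 => ⟨((PR.mapsF_iff _ _ _ _).mp (mp1_2 u h1 h2)).1, Nat.lt_of_le_of_lt ((PR.mapsF_iff _ _ _ _).mp (mp1_2 u h1 h2)).2 (by norm_num)⟩
    · exact fun u h1 h2 => ⟨((PR.mapsF_iff _ _ _ _).mp (mp1_3 u h1 h2)).1, Nat.lt_of_le_of_lt ((PR.mapsF_iff _ _ _ _).mp (mp1_3 u h1 h2)).2 (by norm_num)⟩
    · exact fun u h1 h2 => ⟨((PR.mapsF_iff _ _ _ _).mp (mp1_4 u h1 h2)).1, Nat.lt_of_le_of_lt ((PR.mapsF_iff _ _ _ _).mp (mp1_4 u h1 h2)).2 (by norm_num)⟩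
    · exact fun u h1 h2 => ⟨((PR.mapsF_iff _ _ _ _).mp (mp2_0 u h1 h2)).1, Nat.lt_of_le_of_lt ((PR.mapsF_iff _ _ _ _).mp (mp2_0 u h1 h2)).2 (by norm_num)⟩
    · exact fun u h1 h2 => ⟨((PR.mapsF_iff _ _ _ _).mp (mp2_1 u h1 h2)).1, Nat.lt_of_le_of_lt ((PR.mapsF_iff _ _ _ _).mp (mp2_1 u h1 h2)).2 (by norm_num)⟩
    · exact fun u h1 h2 => ⟨((PR.mapsF_iff _ _ _ _).mp (mp2_2 u h1 h2)).1, Nat.lt_of_le_of_lt ((PR.mapsF_iff _ _ _ _).mp (mp2_2 u h1 h2)).2 (by norm_num)⟩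
    · exact fun u h1 h2 => ⟨((PR.mapsF_iff _ _ _ _).mp (mp2_3 u h1 h2)).1, Nat.lt_of_le_of_lt ((PR.mapsF_iff _ _ _ _).mp (mp2_3 u h1 h2)).2 (by norm_num)⟩
    · exact fun u h1 h2 => ⟨((PR.mapsF_iff _ _ _ _).mp (mp2_4 u h1 h2)).1, Nat.lt_of_le_of_lt ((PR.mapsF_iff _ _ _ _).mp (mp2_4 u h1 h2)).2 (by norm_num)⟩
    · exact fun u h1 h2 => ⟨((PR.mapsF_iff _ _ _ _).mp (mp3_0 u h1 h2)).1, Nat.lt_of_le_of_lt ((PR.mapsF_iff _ _ _ _).mp (mp3_0 u h1 h2)).2 (by norm_num)⟩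
    · exact fun u h1 h2 => ⟨((PR.mapsF_iff _ _ _ _).mp (mp3_1 u h1 h2)).1, Nat.lt_of_le_of_lt ((PR.mapsF_iff _ _ _ _).mp (mp3_1 u h1 h2)).2 (by norm_num)⟩
    · exact fun u h1 h2 => ⟨((PR.mapsF_iff _ _ _ _).mp (mp3_2 u h1 h2)).1, Nat.lt_of_le_of_lt ((PR.mapsF_iff _ _ _ _).mp (mp3_2 u h1 h2)).2 (by norm_num)⟩
    · exact fun u h1 h2 => ⟨((PR.mapsF_iff _ _ _ _).mp (mp3_3 u h1 h2)).1, Nat.lt_of_le_of_lt ((PR.mapsF_iff _ _ _ _).mp (mp3_3 u h1 h2)).2 (by norm_num)⟩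
    · exact fun u h1 h2 => ⟨((PR.mapsF_iff _ _ _ _).mp (mp3_4 u h1 h2)).1, Nat.lt_of_le_of_lt ((PR.mapsF_iff _ _ _ _).mp (mp3_4 u h1 h2)).2 (by norm_num)⟩
    · exact fun u h1 h2 => ⟨((PR.mapsF_iff _ _ _ _).mp (mp4_0 u h1 h2)).1, Nat.lt_of_le_of_lt ((PR.mapsF_iff _ _ _ _).mp (mp4_0 u h1 h2)).2 (by norm_num)⟩
    · exact fun u h1 h2 => ⟨((PR.mapsF_iff _ _ _ _).mp (mp4_1 u h1 h2)).1, Nat.lt_of_le_of_lt ((PR.mapsF_iff _ _ _ _).mp (mp4_1 u h1 h2)).2 (by norm_num)⟩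
    · exact fun u h1 h2 => ⟨((PR.mapsF_iff _ _ _ _).mp (mp4_2 u h1 h2)).1, Nat.lt_of_le_of_lt ((PR.mapsF_iff _ _ _ _).mp (mp4_2 u h1 h2)).2 (by norm_num)⟩
    · exact fun u h1 h2 => ⟨((PR.mapsF_iff _ _ _ _).mp (mp4_3 u h1 h2)).1, Nat.lt_of_le_of_lt ((PR.mapsF_iff _ _ _ _).mp (mp4_3 u h1 h2)).2 (by norm_num)⟩
    · exact fun u h1 h2 => ⟨((PR.mapsF_iff _ _ _ _).mp (mp4_4 u h1 h2)).1, Nat.lt_of_le_of_lt ((PR.mapsF_iff _ _ _ _).mp (mp4_4 u h1 h2)).2 (by norm_num)⟩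
    · exact fun u h1 h2 => ⟨((PR.mapsF_iff _ _ _ _).mp (mp5_0 u h1 h2)).1, Nat.lt_of_le_of_lt ((PR.mapsF_iff _ _ _ _).mp (mp5_0 u h1 h2)).2 (by norm_num)⟩
    · exact fun u h1 h2 => ⟨((PR.mapsF_iff _ _ _ _).mp (mp5_1 u h1 h2)).1, Nat.lt_of_le_of_lt ((PR.mapsF_iff _ _ _ _).mp (mp5_1 u h1 h2)).2 (by norm_num)⟩
    · exact fun u h1 h2 => ⟨((PR.mapsF_iff _ _ _ _).mp (mp5_2 u h1 h2)).1, Nat.lt_of_le_of_lt ((PR.mapsF_iff _ _ _ _).mp (mp5_2 u h1 h2)).2 (by norm_num)⟩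
    · exact fun u h1 h2 => ⟨((PR.mapsF_iff _ _ _ _).mp (mp5_3 u h1 h2)).1, Nat.lt_of_le_of_lt ((PR.mapsF_iff _ _ _ _).mp (mp5_3 u h1 h2)).2 (by norm_num)⟩
    · exact fun u h1 h2 => ⟨((PR.mapsF_iff _ _ _ _).mp (mp5_4 u h1 h2)).1, Nat.lt_of_le_of_lt ((PR.mapsF_iff _ _ _ _).mp (mp5_4 u h1 h2)).2 (by norm_num)⟩
    · exact fun u h1 h2 => ⟨((PR.mapsF_iff _ _ _ _).mp (mp6_0 u h1 h2)).1, Nat.lt_of_le_of_lt ((PR.mapsF_iff _ _ _ _).mp (mp6_0 u h1 h2)).2 (by norm_num)⟩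
    · exact fun u h1 h2 => ⟨((PR.mapsF_iff _ _ _ _).mp (mp6_1 u h1 h2)).1, Nat.lt_of_le_of_lt ((PR.mapsF_iff _ _ _ _).mp (mp6_1 u h1 h2)).2 (by norm_num)⟩
    · exact fun u h1 h2 => ⟨((PR.mapsF_iff _ _ _ _).mp (mp6_2 u h1 h2)).1, Nat.lt_of_le_of_lt ((PR.mapsF_iff _ _ _ _).mp (mp6_2 u h1 h2)).2 (by norm_num)⟩
    · exact fun u h1 h2 => ⟨((PR.mapsF_iff _ _ _ _).mp (mp6_3 u h1 h2)).1, Nat.lt_of_le_of_lt ((PR.mapsF_iff _ _ _ _).mp (mp6_3 u h1 h2)).2 (by norm_num)⟩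
    · exact fun u h1 h2 => ⟨((PR.mapsF_iff _ _ _ _).mp (mp6_4 u h1 h2)).1, Nat.lt_of_le_of_lt ((PR.mapsF_iff _ _ _ _).mp (mp6_4 u h1 h2)).2 (by norm_num)⟩
    · exact fun u h1 h2 => ⟨((PR.mapsF_iff _ _ _ _).mp (mp7_0 u h1 h2)).1, Nat.lt_of_le_of_lt ((PR.mapsF_iff _ _ _ _).mp (mp7_0 u h1 h2)).2 (by norm_num)⟩
    · exact fun u h1 h2 => ⟨((PR.mapsF_iff _ _ _ _).mp (mp7_1 u h1 h2)).1, Nat.lt_of_le_of_lt ((PR.mapsF_iff _ _ _ _).mp (mp7_1 u h1 h2)).2 (by norm_num)⟩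
    · exact fun u h1 h2 => ⟨((PR.mapsF_iff _ _ _ _).mp (mp7_2 u h1 h2)).1, Nat.lt_of_le_of_lt ((PR.mapsF_iff _ _ _ _).mp (mp7_2 u h1 h2)).2 (by norm_num)⟩
    · exact fun u h1 h2 => ⟨((PR.mapsF_iff _ _ _ _).mp (mp7_3 u h1 h2)).1, Nat.lt_of_le_of_lt ((PR.mapsF_iff _ _ _ _).mp (mp7_3 u h1 h2)).2 (by norm_num)⟩
    · exact fun u h1 h2 => ⟨((PR.mapsF_iff _ _ _ _).mp (mp7_4 u h1 h2)).1, Nat.lt_of_le_of_lt ((PR.mapsF_iff _ _ _ _).mp (mp7_4 u h1 h2)).2 (by norm_num)⟩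
    · exact fun u h1 h2 => ⟨((PR.mapsF_iff _ _ _ _).mp (mp8_0 u h1 h2)).1, Nat.lt_of_le_of_lt ((PR.mapsF_iff _ _ _ _).mp (mp8_0 u h1 h2)).2 (by norm_num)⟩
    · exact fun u h1 h2 => ⟨((PR.mapsF_iff _ _ _ _).mp (mp8_1 u h1 h2)).1, Nat.lt_of_le_of_lt ((PR.mapsF_iff _ _ _ _).mp (mp8_1 u h1 h2)).2 (by norm_num)⟩
    · exact fun u h1 h2 => ⟨((PR.mapsF_iff _ _ _ _).mp (mp8_2 u h1 h2)).1, Nat.lt_of_le_of_lt ((PR.mapsF_iff _ _ _ _).mp (mp8_2 u h1 h2)).2 (by norm_num)⟩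
    · exact fun u h1 h2 => ⟨((PR.mapsF_iff _ _ _ _).mp (mp8_3 u h1 h2)).1, Nat.lt_of_le_of_lt ((PR.mapsF_iff _ _ _ _).mp (mp8_3 u h1 h2)).2 (by norm_num)⟩
    · exact fun u h1 h2 => ⟨((PR.mapsF_iff _ _ _ _).mp (mp8_4 u h1 h2)).1, Nat.lt_of_le_of_lt ((PR.mapsF_iff _ _ _ _).mp (mp8_4 u h1 h2)).2 (by norm_num)⟩
    · exact fun u h1 h2 => ⟨((PR.mapsF_iff _ _ _ _).mp (mp9_0 u h1 h2)).1, Nat.lt_of_le_of_lt ((PR.mapsF_iff _ _ _ _).mp (mp9_0 u h1 h2)).2 (by norm_num)⟩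
    · exact fun u h1 h2 => ⟨((PR.mapsF_iff _ _ _ _).mp (mp9_1 u h1 h2)).1, Nat.lt_of_le_of_lt ((PR.mapsF_iff _ _ _ _).mp (mp9_1 u h1 h2)).2 (by norm_num)⟩
    · exact fun u h1 h2 => ⟨((PR.mapsF_iff _ _ _ _).mp (mp9_2 u h1 h2)).1, Nat.lt_of_le_of_lt ((PR.mapsF_iff _ _ _ _).mp (mp9_2 u h1 h2)).2 (by norm_num)⟩
    · exact fun u h1 h2 => ⟨((PR.mapsF_iff _ _ _ _).mp (mp9_3 u h1 h2)).1, Nat.lt_of_le_of_lt ((PR.mapsF_iff _ _ _ _).mp (mp9_3 u h1 h2)).2 (by norm_num)⟩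
    · exact fun u h1 h2 => ⟨((PR.mapsF_iff _ _ _ _).mp (mp9_4 u h1 h2)).1, Nat.lt_of_le_of_lt ((PR.mapsF_iff _ _ _ _).mp (mp9_4 u h1 h2)).2 (by norm_num)⟩
    · exact fun u h1 h2 => ⟨((PR.mapsF_iff _ _ _ _).mp (mp10_0 u h1 h2)).1, Nat.lt_of_le_of_lt ((PR.mapsF_iff _ _ _ _).mp (mp10_0 u h1 h2)).2 (by norm_num)⟩
    · exact fun u h1 h2 => ⟨((PR.mapsF_iff _ _ _ _).mp (mp10_1 u h1 h2)).1, Nat.lt_of_le_of_lt ((PR.mapsF_iff _ _ _ _).mp (mp10_1 u h1 h2)).2 (by norm_num)⟩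
    · exact fun u h1 h2 => ⟨((PR.mapsF_iff _ _ _ _).mp (mp10_2 u h1 h2)).1, Nat.lt_of_le_of_lt ((PR.mapsF_iff _ _ _ _).mp (mp10_2 u h1 h2)).2 (by norm_num)⟩
    · exact fun u h1 h2 => ⟨((PR.mapsF_iff _ _ _ _).mp (mp10_3 u h1 h2)).1, Nat.lt_of_le_of_lt ((PR.mapsF_iff _ _ _ _).mp (mp10_3 u h1 h2)).2 (by norm_num)⟩
    · exact fun u h1 h2 => ⟨((PR.mapsF_iff _ _ _ _).mp (mp10_4 u h1 h2)).1, Nat.lt_of_le_of_lt ((PR.mapsF_iff _ _ _ _).mp (mp10_4 u h1 h2)).2 (by norm_num)⟩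
  · intro iv hiv
    simp only [ivs, List.mem_cons, List.mem_nil_iff, or_false] at hiv
    rcases hiv with rfl | rfl | rfl | rfl | rfl | rfl | rfl | rfl | rfl | rfl | rfl
    · intro u h1 h2
      obtain ⟨s, hs, p, hp⟩ := PR.treeF_sound _ _ _ _ (tre0 u h1 h2)
      exact PR.tree_aux tbl subs _ rfl s hs p _ _ hp
    · intro u h1 h2
      obtain ⟨s, hs, p, hp⟩ := PR.treeF_sound _ _ _ _ (tre1 u h1 h2)
      exact PR.tree_aux tbl subs _ rfl s hs p _ _ hp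
    · intro u h1 h2
      obtain ⟨s, hs, p, hp⟩ := PR.treeF_sound _ _ _ _ (tre2 u h1 h2)
      exact PR.tree_aux tbl subs _ rfl s hs p _ _ hp
    · intro u h1 h2
      obtain ⟨s, hs, p, hp⟩ := PR.treeF_sound _ _ _ _ (tre3 u h1 h2)
      exact PR.tree_aux tbl subs _ rfl s hs p _ _ hp
    · intro u h1 h2
      obtain ⟨s, hs, p, hp⟩ := PR.treeF_sound _ _ _ _ (tre4 u h1 h2)
      exact PR.tree_aux tbl subs _ rfl s hs p _ _ hp
    · intro u h1 h2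
      obtain ⟨s, hs, p, hp⟩ := PR.treeF_sound _ _ _ _ (tre5 u h1 h2)
      exact PR.tree_aux tbl subs _ rfl s hs p _ _ hp
    · intro u h1 h2
      obtain ⟨s, hs, p, hp⟩ := PR.treeF_sound _ _ _ _ (tre6 u h1 h2)
      exact PR.tree_aux tbl subs _ rfl s hs p _ _ hp
    · intro u h1 h2
      obtain ⟨s, hs, p, hp⟩ := PR.treeF_sound _ _ _ _ (tre7 u h1 h2)
      exact PR.tree_aux tbl subs _ rfl s hs p _ _ hp
    · intro u h1 h2
      obtain ⟨s, hs, p, hp⟩ := PR.treeF_sound _ _ _ _ (tre8 u h1 h2)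
      exact PR.tree_aux tbl subs _ rfl s hs p _ _ hp
    · intro u h1 h2
      obtain ⟨s, hs, p, hp⟩ := PR.treeF_sound _ _ _ _ (tre9 u h1 h2)
      exact PR.tree_aux tbl subs _ rfl s hs p _ _ hp
    · intro u h1 h2
      obtain ⟨s, hs, p, hp⟩ := PR.treeF_sound _ _ _ _ (tre10 u h1 h2)
      exact PR.tree_aux tbl subs _ rfl s hs p _ _ hp
  · intro iv hiv
    simp only [ivs, List.mem_cons, List.mem_nil_iff, or_false] at hiv
    rcases hiv with rfl | rfl | rfl | rfl | rfl | rfl | rfl | rfl | rfl | rfl | rfl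
    · exact ⟨[], by decide, root0⟩
    · exact ⟨[2], by decide, root1⟩
    · exact ⟨[2, 6], by decide, root2⟩
    · exact ⟨[2, 4, 6], by decide, root3⟩
    · exact ⟨[2, 4, 6, 4, 2], by decide, root4⟩
    · exact ⟨[2, 0, 4, 6, 4, 2], by decide, root5⟩
    · exact ⟨[2, 6, 4, 2, 8, 6], by decide, root6⟩
    · exact ⟨[2, 0, 6, 4, 2, 8, 6], by decide, root7⟩
    · exact ⟨[2, 4, 6, 8, 6, 4, 2], by decide, root8⟩
    · exact ⟨[2, 0, 4, 6, 4, 2, 8, 6], by decide, root9⟩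
    · exact ⟨[2, 4, 6, 4, 2, 4, 8, 6, 4, 2], by decide, root10⟩
  · intro u hu
    simp only [ivs, List.mem_cons, List.mem_nil_iff, or_false, exists_eq_or_imp, exists_eq_left]
    omega

end Cfsg.Agent.Lib.Helper11.J1x
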