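import Cfsg.Agent.Lib.Helper11.LBCore
import Cfsg.Agent.Lib.Helper11.J1xPerm
import Cfsg.Agent.Lib.Helper11.J1xLC0

set_option autoImplicit false
set_option maxRecDepth 1000000

namespace Cfsg.Agent.Lib.Helper11.J1x

open Cfsg.Agent.Lib.Helper11

theorem lbc0 : ∀ u, 1 ≤ u → u < 1045 → PR.lbF lP0 lM0 lwT0 u = true := by
  have h : ∀ u, 1 ≤ u → u < 1 → PR.lbF lP0 lM0 lwT0 u = true := fun u h1 h2 => absurd h2 (by omega)
  have h := PR.allR_chain (PR.lbF lP0 lM0 lwT0) 1 1 1044 lb0_0 h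
  exact h

theorem lbc1 : ∀ u, 1 ≤ u → u < 168 → PR.lbF lP1 lM1 lwT1 u = true := by
  have h : ∀ u, 1 ≤ u → u < 1 → PR.lbF lP1 lM1 lwT1 u = true := fun u h1 h2 => absurd h2 (by omega)
  have h := PR.allR_chain (PR.lbF lP1 lM1 lwT1) 1 1 167 lb1_0 h
  exact h

def lbase : List Nat := [0, 877]

theorem lv0 : 1045 ≤ (MulAction.orbit (PR.stabChain (PR.letterGroup 1045 tbl invL Ls) []) (⟨0, by norm_num⟩ : Fin 1045)).ncard :=
  PR.level_lb tables [] 0 (by norm_num) lws0 (by decide +kernel) lP0 lM0 1045 (by norm_num)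
    (by decide +kernel) (by decide +kernel) (fun idx h1 h2 => lbc0 idx h1 h2)

theorem lv1 : 168 ≤ (MulAction.orbit (PR.stabChain (PR.letterGroup 1045 tbl invL Ls) [0]) (⟨877, by norm_num⟩ : Fin 1045)).ncard :=
  PR.level_lb tables [0] 877 (by norm_num) lws1 (by decide +kernel) lP1 lM1 168 (by norm_num)
    (by decide +kernel) (by decide +kernel) (fun idx h1 h2 => lbc1 idx h1 h2)

theorem lb (c : ℕ) (hc : c ≤ Nat.card (PR.stabChain (PR.letterGroup 1045 tbl invL Ls) lbase)) : 175560 * c ≤ Nat.card (PR.letterGroup 1045 tbl invL Ls) := by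
  have h1 := PR.chain_step (n := 1045) (tbl := tbl) (inv := invL) (Ls := Ls) [0] 877 (by norm_num) 168 _ lv1 hc
  have h0 := PR.chain_step (n := 1045) (tbl := tbl) (inv := invL) (Ls := Ls) [] 0 (by norm_num) 1045 _ lv0 h1
  have e : 175560 * c = 1045 * (168 * (c)) := by omega
  rw [e]; exact h0

end Cfsg.Agent.Lib.Helper11.J1x
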