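import Cfsg.Agent.Lib.Helper11.GenMaster2
import Cfsg.Agent.Lib.Helper11.J1xLB
import Cfsg.Agent.Lib.Helper11.J1xU0Cert
import Cfsg.Agent.Lib.Helper11.J1xU0Pres
import Cfsg.Agent.Lib.Helper11.J1xU1Cert
import Cfsg.Agent.Lib.Helper11.J1xU1Pres

/-! # The Coxeter-type presentation `a –3– b –5– c –3– d –5– e`, `(abc)^5 = 1`, `a = (cde)^5`
defines a simple group of order `175560` -/

set_option autoImplicit false
set_option maxRecDepth 100000

namespace Cfsg.Agent.Lib.Helper11.J1S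

open Cfsg.Agent.Lib.Helper11 Cfsg.Agent.Lib.Helper11.TC

abbrev P : Type := GM.WG J1x.invL J1x.Ls (J1x.coxW ++ J1x.extraW)

def gen : ℕ → P := GM.wgen J1x.invL J1x.Ls (J1x.coxW ++ J1x.extraW)

theorem pres : GM.Pres P gen J1x.invL J1x.Ls (J1x.coxW ++ J1x.extraW) :=
  GM.wg_pres (fun _ hl => hl) (by decide) (by decide) (by decide +kernel)

theorem b1 : UB.Bound J1xU1.Ls (J1xU1.coxW ++ J1xU1.extraW) (120 * 1) :=
  UB.Bound.step (n := 120) (by norm_num)
    (fun act q0 h31 hadm hl => J1xU1.closed act q0 h31 hadm hl) (subs := J1xU1.subs)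
    (by decide +kernel) (by decide) (by decide) (by decide +kernel)
    (Ls' := []) (by decide) (by decide) (rels' := []) (by decide) (UB.Bound.nil _)

theorem b0 : UB.Bound J1xU0.Ls (J1xU0.coxW ++ J1xU0.extraW) (1463 * (120 * 1)) :=
  UB.Bound.step (n := 1463) (by norm_num)
    (fun act q0 h31 hadm hl => J1xU0.closed act q0 h31 hadm hl) (subs := J1xU0.subs)
    (by decide +kernel) (by decide) (by decide) (by decide +kernel)
    (by decide) (by decide) (by decide +kernel) b1

theorem card_le : Finite P ∧ Nat.card P ≤ 175560 :=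
  GM.card_le_of_bound pres (fun _ => rfl) b0

def xw : List ℕ := [2, 0, 8, 6, 4]

def cs : List (List ℕ) := [
  [2, 4, 2, 0, 4, 6, 4, 2, 4],
  [2, 4, 2, 0, 4, 6, 4, 2, 6],
  [2, 4, 2, 0, 4, 6, 4, 2, 4],
  [2, 4, 2, 0, 4, 6, 4, 2, 6],
  [2, 4, 2, 0, 4, 6, 4, 2, 4],
  [2, 4, 2, 0, 4, 6, 4, 2, 6]]

theorem simple : IsSimpleGroup P ∧ Nat.card P = 175560 :=
  GM.simple_master pres (n := 1045) (N := 175560) J1x.tables J1x.relsOK J1x.orbits
    card_le J1x.lbase (by decide) J1x.lb (by norm_num) (by decide +kernel) (by decide +kernel)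
    19 (by norm_num) xw (by decide) (by decide +kernel) 0 (by decide) cs (by decide +kernel)
    (by decide +kernel) (GM.collapses_of_kill (fun _ => rfl) 10 (by decide +kernel))

end Cfsg.Agent.Lib.Helper11.J1S
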