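import Cfsg.Agent.Lib.Helper11.TCDefs

set_option autoImplicit false
set_option maxRecDepth 100000

namespace Cfsg.Agent.Lib.Helper11.J1xU1

open Cfsg.Agent.Lib.Helper11
def t0_1 : Nat := 873085155797154317558543488645258658616378050819909117315009913513348288763141021226509856408940944552317372336333470341293679702215305396655843357893810173208414701751892300500876760142107999107520423425277155860915887255321961899582355854320431009370556551088143126206803620380907960367235554047755388710257007726097610899904620508360151848083423736728265987547420362835946392927152445783486447268656417960353961921414424579795379176791638437614024981753807381954497414716204446425835279665278546138975465477658506088367697639059652962585873424623964645646724952801033681069613948911120179201523054689260409684656024757025388847457987515304866883179926364737239858176367609219442379852951013742596898507555823112343317480012112966836864725184617101590940956404392756083015131147725573260021679852368824620215860942261700979035564211882367208422643217060385606493000345230630053972716279110979931387855194696654321680268475999357871086064605407512837047844780108230065029573926898785395541059760632245789042970492947567946102527563870785190988044433626643357417480291679583640474219181522824947528530263688124187024915576970077777683107392386129987216263759674707491947751828128562937504703795191403915853204003737021376557984538824911435591284675651611617468558721748037926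137179226373290459916569605569196584046528829928254844688670872085985787283717105291208041924047034656562481547874006955001073980052967719536973570441805991428386376808425057033020693418397188105989347468130659369033501708072303461324577729579636158092435975441241888561830666235061809203920711706076080325740317909777206244253726217930580488663300432494193675226303232882945009707499655905874410022069284275470613627042973541184944158900158368999002977416005119706546210150419828964412541898064812489195153050189004699631942950651943991233306406724653074430357342863488052022513921162044286090481587882065190787446537646300718963619140042607573969317681225447357326630118033781810235436858526088951990029282083826254709597930122870682314169393244692723858691833582163071114154209301349764457666534583639704341729145424443221275467326608509477176683679167718088681502822216564041421941257369246168159004502939757418346523830241421860411626228879400495685466717105512225944365585018989090277065757395752709444155895939681825540144262725002048227896325783293757125020794770168378024362838422255007167996319495035001746068117792481797572004831569019259845883347896372992933888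

noncomputable def F (i : Nat) : Nat := Nat.land (Nat.shiftRight t0_1 (Nat.mul (Nat.land i 255) 45)) 35184372088831

def adm : List TC.Adm := [
  (false, 4, 66, [(8, 8388608), (4, 4194304), (8, 8388608)]),
  (false, 6, 110, [(4, 4194304), (6, 6291456), (4, 4194304), (6, 6291456), (4, 4194304)]),
  (false, 8, 198, [(6, 6291456), (8, 8388608), (6, 6291456), (8, 8388608), (6, 6291456), (8, 8388608), (6, 6291456), (8, 8388608), (6, 6291456)]),
  (false, 8, 66, [(4, 4194304), (8, 8388608), (4, 4194304)]),
  (false, 6, 198, [(8, 8388608), (6, 6291456), (8, 8388608), (6, 6291456), (8, 8388608), (6, 6291456), (8, 8388608), (6, 6291456), (8, 8388608)]),
  (false, 4, 110, [(6, 6291456), (4, 4194304), (6, 6291456), (4, 4194304), (6, 6291456)])]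

def letters : List (Nat × Nat) := [(4, 4194304), (6, 6291456), (8, 8388608)]

end Cfsg.Agent.Lib.Helper11.J1xU1
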