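import Cfsg.Agent.Lib.Helper11.F4
import Cfsg.Agent.Lib.Helper11.J3Simple
import Cfsg.Prelude.Def_Classical

/-! # A homomorphism to `PSU(9, 2)` -/

set_option autoImplicit false
set_option maxRecDepth 100000

namespace Cfsg.Agent.Lib.Helper11.J3M

open Matrix Cfsg.Agent.Lib.Helper11 Cfsg.Agent.Lib.Helper11.TC

abbrev M9 := Matrix (Fin 9) (Fin 9) F4

def dg : ℕ → F4
  | 0 => .z
  | 1 => .o
  | 2 => .w
  | _ => .v

/-- the matrix with the given code in base 4 -/
def mx (c : ℕ) : M9 := fun i j => dg (c / 4 ^ (9 * i.val + j.val) % 4)

def mat : ℕ → M9
  | 0 => mx 909598324476871202958852750684264427423764747881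
  | 2 => mx 121807777925523908179627273850652533978375334005
  | 4 => mx 1637211020611722993439872334218491069910360703173
  | 6 => mx 1089543333114128228465884516652983127954154385953
  | _ => 1

theorem mx_one : mx 1461503031128807055631067903726780805968804446209 = 1 := by decide +kernel

theorem mx_w : mx 2923006062257614111262135807453561611937608892418 = F4.w • (1 : M9) := by decide +kernel

theorem mx_v : mx 4384509093386421166893203711180342417906413338627 = F4.v • (1 : M9) := by decide +kernel

theorem rl0_16 : (mat 0 * (mat 2 * (1)) : M9) = mx 5739630409260991387633773449211657250171527375986 := by decide +kernel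
theorem rl0_15 : (mat 0 * (mat 2 * (mx 5739630409260991387633773449211657250171527375986)) : M9) = mx 5743107155099291742102365173771044574265353858209 := by decide +kernel
theorem rl0_14 : (mat 0 * (mat 2 * (mx 5743107155099291742102365173771044574265353858209)) : M9) = mx 1232700436970377336314076234769099781488095538197 := by decide +kernel
theorem rl0_13 : (mat 0 * (mat 2 * (mx 1232700436970377336314076234769099781488095538197)) : M9) = mx 5344806939788105920458112856331421900494845413218 := by decide +kernel
theorem rl0_12 : (mat 0 * (mat 2 * (mx 5344806939788105920458112856331421900494845413218)) : M9) = mx 892104459175412241095890431119685247202135646818 := by decide +kernel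
theorem rl0_11 : (mat 0 * (mat 2 * (mx 892104459175412241095890431119685247202135646818)) : M9) = mx 5727282973382367810378398327577546128691783123546 := by decide +kernel
theorem rl0_10 : (mat 0 * (mat 2 * (mx 5727282973382367810378398327577546128691783123546)) : M9) = mx 5352712539700572873715565928774142935936606656204 := by decide +kernel
theorem rl0_9 : (mat 0 * (mat 2 * (mx 5352712539700572873715565928774142935936606656204)) : M9) = mx 5071318469388846139047017351450251301911752893565 := by decide +kernel
theorem rl0_8 : (mat 0 * (mat 2 * (mx 5071318469388846139047017351450251301911752893565)) : M9) = mx 3892288971845837308711524981909202430384324322881 := by decide +kernel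
theorem rl0_7 : (mat 0 * (mat 2 * (mx 3892288971845837308711524981909202430384324322881)) : M9) = mx 3886729972198368309969700864582863995390131877692 := by decide +kernel
theorem rl0_6 : (mat 0 * (mat 2 * (mx 3886729972198368309969700864582863995390131877692)) : M9) = mx 3601426093555100874269018067775907718189119484311 := by decide +kernel
theorem rl0_5 : (mat 0 * (mat 2 * (mx 3601426093555100874269018067775907718189119484311)) : M9) = mx 433544918095662095691981185025064886775423598331 := by decide +kernel
theorem rl0_4 : (mat 0 * (mat 2 * (mx 433544918095662095691981185025064886775423598331)) : M9) = mx 3647330461595966275046529794711385853269275425291 := by decide +kernel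
theorem rl0_3 : (mat 0 * (mat 2 * (mx 3647330461595966275046529794711385853269275425291)) : M9) = mx 41048394314332198260968116161897557778049044441 := by decide +kernel
theorem rl0_2 : (mat 0 * (mat 2 * (mx 41048394314332198260968116161897557778049044441)) : M9) = mx 3880231372439299113673767118193360910854707561461 := by decide +kernel
theorem rl0_1 : (mat 0 * (mat 2 * (mx 3880231372439299113673767118193360910854707561461)) : M9) = mx 3838598922854927897831981687352120909113250151539 := by decide +kernel
theorem rl0_0 : (mat 0 * (mat 2 * (mx 3838598922854927897831981687352120909113250151539)) : M9) = mx 1461503031128807055631067903726780805968804446209 := by decide +kernel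
theorem rl0 : ([0, 2, 0, 2, 0, 2, 0, 2, 0, 2, 0, 2, 0, 2, 0, 2, 0, 2, 0, 2, 0, 2, 0, 2, 0, 2, 0, 2, 0, 2, 0, 2, 0, 2].map mat).prod = 1 := by
  simp only [List.map_cons, List.map_nil, List.prod_cons, List.prod_nil]
  rw [rl0_16, rl0_15, rl0_14, rl0_13, rl0_12, rl0_11, rl0_10, rl0_9, rl0_8, rl0_7, rl0_6, rl0_5, rl0_4, rl0_3, rl0_2, rl0_1, rl0_0, mx_one]

theorem rl1_5 : (mat 2 * (mat 4 * (1)) : M9) = mx 176826074686901052224147906220081232044214923496 := by decide +kernel
theorem rl1_4 : (mat 4 * (mat 0 * (mx 176826074686901052224147906220081232044214923496)) : M9) = mx 4819869618184922803417344015112879165211179146188 := by decide +kernel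
theorem rl1_3 : (mat 0 * (mat 2 * (mx 4819869618184922803417344015112879165211179146188)) : M9) = mx 582592451011792629119531498815997484339849610088 := by decide +kernel
theorem rl1_2 : (mat 2 * (mat 4 * (mx 582592451011792629119531498815997484339849610088)) : M9) = mx 3024421306709731088199116860132223008899509872251 := by decide +kernel
theorem rl1_1 : (mat 4 * (mat 0 * (mx 3024421306709731088199116860132223008899509872251)) : M9) = mx 3838598922854927897831981687352120909113250151539 := by decide +kernel
theorem rl1_0 : (mat 0 * (mat 2 * (mx 3838598922854927897831981687352120909113250151539)) : M9) = mx 1461503031128807055631067903726780805968804446209 := by decide +kernel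
theorem rl1 : ([0, 2, 4, 0, 2, 4, 0, 2, 4, 0, 2, 4].map mat).prod = 1 := by
  simp only [List.map_cons, List.map_nil, List.prod_cons, List.prod_nil]
  rw [rl1_5, rl1_4, rl1_3, rl1_2, rl1_1, rl1_0, mx_one]

theorem rl2_5 : (mat 2 * (mat 4 * (1)) : M9) = mx 176826074686901052224147906220081232044214923496 := by decide +kernel
theorem rl2_4 : (mat 2 * (mat 4 * (mx 176826074686901052224147906220081232044214923496)) : M9) = mx 2120819857951290167806554238838247950245515372376 := by decide +kernel
theorem rl2_3 : (mat 2 * (mat 4 * (mx 2120819857951290167806554238838247950245515372376)) : M9) = mx 2569860043128219545257596400003868371877861569033 := by decide +kernel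
theorem rl2_2 : (mat 2 * (mat 4 * (mx 2569860043128219545257596400003868371877861569033)) : M9) = mx 2333802824787153732921632366579393701185424480896 := by decide +kernel
theorem rl2_1 : (mat 2 * (mat 4 * (mx 2333802824787153732921632366579393701185424480896)) : M9) = mx 316363444347400875922895065466270914577821466424 := by decide +kernel
theorem rl2_0 : (mat 2 * (mat 4 * (mx 316363444347400875922895065466270914577821466424)) : M9) = mx 1461503031128807055631067903726780805968804446209 := by decide +kernel
theorem rl2 : ([2, 4, 2, 4, 2, 4, 2, 4, 2, 4, 2, 4].map mat).prod = 1 := by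
  simp only [List.map_cons, List.map_nil, List.prod_cons, List.prod_nil]
  rw [rl2_5, rl2_4, rl2_3, rl2_2, rl2_1, rl2_0, mx_one]

theorem rl3_9 : (mat 4 * (1) : M9) = mx 1637211020611722993439872334218491069910360703173 := by decide +kernel
theorem rl3_8 : (mat 4 * (mat 0 * (mx 1637211020611722993439872334218491069910360703173)) : M9) = mx 2582817643223672714655993754777819517221574354149 := by decide +kernel
theorem rl3_7 : (mat 4 * (mat 2 * (mx 2582817643223672714655993754777819517221574354149)) : M9) = mx 3389100522029988801038799132753547605104548701912 := by decide +kernel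
theorem rl3_6 : (mat 4 * (mat 2 * (mx 3389100522029988801038799132753547605104548701912)) : M9) = mx 1821538825034410959069408232315142513482156131902 := by decide +kernel
theorem rl3_5 : (mat 4 * (mat 0 * (mx 1821538825034410959069408232315142513482156131902)) : M9) = mx 1461502076981385802549504990004934774366841864897 := by decide +kernel
theorem rl3_4 : (mat 2 * (mat 0 * (mx 1461502076981385802549504990004934774366841864897)) : M9) = mx 3382012509713224650387317569588834433181814709749 := by decide +kernel
theorem rl3_3 : (mat 0 * (mat 4 * (mx 3382012509713224650387317569588834433181814709749)) : M9) = mx 3313836860981934364218160107472739950414060952144 := by decide +kernel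
theorem rl3_2 : (mat 0 * (mat 4 * (mx 3313836860981934364218160107472739950414060952144)) : M9) = mx 2553546139351756586993147141704064230757062906389 := by decide +kernel
theorem rl3_1 : (mat 0 * (mat 4 * (mx 2553546139351756586993147141704064230757062906389)) : M9) = mx 3838598922854927897831981687352120909113250151539 := by decide +kernel
theorem rl3_0 : (mat 0 * (mat 2 * (mx 3838598922854927897831981687352120909113250151539)) : M9) = mx 1461503031128807055631067903726780805968804446209 := by decide +kernel
theorem rl3 : ([0, 2, 0, 4, 0, 4, 0, 4, 2, 0, 4, 0, 4, 2, 4, 2, 4, 0, 4].map mat).prod = 1 := by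
  simp only [List.map_cons, List.map_nil, List.prod_cons, List.prod_nil]
  rw [rl3_9, rl3_8, rl3_7, rl3_6, rl3_5, rl3_4, rl3_3, rl3_2, rl3_1, rl3_0, mx_one]

theorem rl4_1 : (mat 4 * (mat 6 * (1)) : M9) = mx 356812093320270846814275342842713217565769728 := by decide +kernel
theorem rl4_0 : (mat 4 * (mat 6 * (mx 356812093320270846814275342842713217565769728)) : M9) = mx 1461503031128807055631067903726780805968804446209 := by decide +kernel
theorem rl4 : ([4, 6, 4, 6].map mat).prod = 1 := by
  simp only [List.map_cons, List.map_nil, List.prod_cons, List.prod_nil]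
  rw [rl4_1, rl4_0, mx_one]

theorem rl5_5 : (mat 6 * (mat 4 * (1)) : M9) = mx 356812093320270846814275342842713217565769728 := by decide +kernel
theorem rl5_4 : (mat 6 * (mat 0 * (mx 356812093320270846814275342842713217565769728)) : M9) = mx 2712566470714505662382976170277336185447071024614 := by decide +kernel
theorem rl5_3 : (mat 6 * (mat 0 * (mx 2712566470714505662382976170277336185447071024614)) : M9) = mx 4880704063701719574162154362707918269496994569577 := by decide +kernel
theorem rl5_2 : (mat 6 * (mat 0 * (mx 4880704063701719574162154362707918269496994569577)) : M9) = mx 2509815857054617451039824318600952162341602717328 := by decide +kernel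
theorem rl5_1 : (mat 0 * (mat 4 * (mx 2509815857054617451039824318600952162341602717328)) : M9) = mx 2690984139752724746321073676089845351925475949022 := by decide +kernel
theorem rl5_0 : (mat 0 * (mat 4 * (mx 2690984139752724746321073676089845351925475949022)) : M9) = mx 1461503031128807055631067903726780805968804446209 := by decide +kernel
theorem rl5 : ([0, 4, 0, 4, 6, 0, 6, 0, 6, 0, 6, 4].map mat).prod = 1 := by
  simp only [List.map_cons, List.map_nil, List.prod_cons, List.prod_nil]
  rw [rl5_5, rl5_4, rl5_3, rl5_2, rl5_1, rl5_0, mx_one]

theorem rl6_5 : (mat 4 * (mat 6 * (1)) : M9) = mx 356812093320270846814275342842713217565769728 := by decide +kernel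
theorem rl6_4 : (mat 6 * (mat 0 * (mx 356812093320270846814275342842713217565769728)) : M9) = mx 2712566470714505662382976170277336185447071024614 := by decide +kernel
theorem rl6_3 : (mat 6 * (mat 0 * (mx 2712566470714505662382976170277336185447071024614)) : M9) = mx 4880704063701719574162154362707918269496994569577 := by decide +kernel
theorem rl6_2 : (mat 4 * (mat 0 * (mx 4880704063701719574162154362707918269496994569577)) : M9) = mx 1154740772255327709281940923202758220999882710058 := by decide +kernel
theorem rl6_1 : (mat 0 * (mat 6 * (mx 1154740772255327709281940923202758220999882710058)) : M9) = mx 2690984139752724746321073676089845351925475949022 := by decide +kernel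
theorem rl6_0 : (mat 0 * (mat 4 * (mx 2690984139752724746321073676089845351925475949022)) : M9) = mx 1461503031128807055631067903726780805968804446209 := by decide +kernel
theorem rl6 : ([0, 4, 0, 6, 4, 0, 6, 0, 6, 0, 4, 6].map mat).prod = 1 := by
  simp only [List.map_cons, List.map_nil, List.prod_cons, List.prod_nil]
  rw [rl6_5, rl6_4, rl6_3, rl6_2, rl6_1, rl6_0, mx_one]

theorem rl7_10 : (mat 4 * (1) : M9) = mx 1637211020611722993439872334218491069910360703173 := by decide +kernel
theorem rl7_9 : (mat 4 * (mat 0 * (mx 1637211020611722993439872334218491069910360703173)) : M9) = mx 2582817643223672714655993754777819517221574354149 := by decide +kernel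
theorem rl7_8 : (mat 4 * (mat 2 * (mx 2582817643223672714655993754777819517221574354149)) : M9) = mx 3389100522029988801038799132753547605104548701912 := by decide +kernel
theorem rl7_7 : (mat 4 * (mat 0 * (mx 3389100522029988801038799132753547605104548701912)) : M9) = mx 1324410267559938122946212713468132389659276480521 := by decide +kernel
theorem rl7_6 : (mat 4 * (mat 0 * (mx 1324410267559938122946212713468132389659276480521)) : M9) = mx 2873565005072212378649074300885673710138798632279 := by decide +kernel
theorem rl7_5 : (mat 6 * (mat 0 * (mx 2873565005072212378649074300885673710138798632279)) : M9) = mx 125944613004257411421392270076726882233388633122 := by decide +kernel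
theorem rl7_4 : (mat 4 * (mat 2 * (mx 125944613004257411421392270076726882233388633122)) : M9) = mx 3418527377873097171350879318387944109023788596938 := by decide +kernel
theorem rl7_3 : (mat 4 * (mat 0 * (mx 3418527377873097171350879318387944109023788596938)) : M9) = mx 2896254505766253475836125847462488717702982287097 := by decide +kernel
theorem rl7_2 : (mat 2 * (mat 0 * (mx 2896254505766253475836125847462488717702982287097)) : M9) = mx 2508713022497248597993640876809689194631479793136 := by decide +kernel
theorem rl7_1 : (mat 4 * (mat 6 * (mx 2508713022497248597993640876809689194631479793136)) : M9) = mx 3838598922854927897831981687352120909113250151539 := by decide +kernel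
theorem rl7_0 : (mat 0 * (mat 2 * (mx 3838598922854927897831981687352120909113250151539)) : M9) = mx 1461503031128807055631067903726780805968804446209 := by decide +kernel
theorem rl7 : ([0, 2, 4, 6, 2, 0, 4, 0, 4, 2, 6, 0, 4, 0, 4, 0, 4, 2, 4, 0, 4].map mat).prod = 1 := by
  simp only [List.map_cons, List.map_nil, List.prod_cons, List.prod_nil]
  rw [rl7_10, rl7_9, rl7_8, rl7_7, rl7_6, rl7_5, rl7_4, rl7_3, rl7_2, rl7_1, rl7_0, mx_one]

theorem rl8_10 : (mat 4 * (mat 2 * (1)) : M9) = mx 316363444347400875922895065466270914577821466424 := by decide +kernel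
theorem rl8_9 : (mat 0 * (mat 2 * (mx 316363444347400875922895065466270914577821466424)) : M9) = mx 4641256191860638315838885649832429862818444350243 := by decide +kernel
theorem rl8_8 : (mat 6 * (mat 4 * (mx 4641256191860638315838885649832429862818444350243)) : M9) = mx 262162708283936434374469900601200378821843107965 := by decide +kernel
theorem rl8_7 : (mat 2 * (mat 0 * (mx 262162708283936434374469900601200378821843107965)) : M9) = mx 1965102844646443966743837371595815326712704439842 := by decide +kernel
theorem rl8_6 : (mat 2 * (mat 4 * (mx 1965102844646443966743837371595815326712704439842)) : M9) = mx 2258035568647767920718144708711568622243551729876 := by decide +kernel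
theorem rl8_5 : (mat 2 * (mat 0 * (mx 2258035568647767920718144708711568622243551729876)) : M9) = mx 452131843067768144775696389410936731395011217602 := by decide +kernel
theorem rl8_4 : (mat 0 * (mat 4 * (mx 452131843067768144775696389410936731395011217602)) : M9) = mx 2691854088725618763454714360814695148299502758030 := by decide +kernel
theorem rl8_3 : (mat 6 * (mat 2 * (mx 2691854088725618763454714360814695148299502758030)) : M9) = mx 582592451011792629119531498815997484339849610088 := by decide +kernel
theorem rl8_2 : (mat 2 * (mat 4 * (mx 582592451011792629119531498815997484339849610088)) : M9) = mx 3024421306709731088199116860132223008899509872251 := by decide +kernel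
theorem rl8_1 : (mat 4 * (mat 0 * (mx 3024421306709731088199116860132223008899509872251)) : M9) = mx 3838598922854927897831981687352120909113250151539 := by decide +kernel
theorem rl8_0 : (mat 0 * (mat 2 * (mx 3838598922854927897831981687352120909113250151539)) : M9) = mx 1461503031128807055631067903726780805968804446209 := by decide +kernel
theorem rl8 : ([0, 2, 4, 0, 2, 4, 6, 2, 0, 4, 2, 0, 2, 4, 2, 0, 6, 4, 0, 2, 4, 2].map mat).prod = 1 := by
  simp only [List.map_cons, List.map_nil, List.prod_cons, List.prod_nil]
  rw [rl8_10, rl8_9, rl8_8, rl8_7, rl8_6, rl8_5, rl8_4, rl8_3, rl8_2, rl8_1, rl8_0, mx_one]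

theorem rl9_11 : (mat 4 * (1) : M9) = mx 1637211020611722993439872334218491069910360703173 := by decide +kernel
theorem rl9_10 : (mat 2 * (mat 6 * (mx 1637211020611722993439872334218491069910360703173)) : M9) = mx 2143910772796402928810077006262903904797810752316 := by decide +kernel
theorem rl9_9 : (mat 2 * (mat 4 * (mx 2143910772796402928810077006262903904797810752316)) : M9) = mx 4408042487662780333392134540991921167648717925574 := by decide +kernel
theorem rl9_8 : (mat 2 * (mat 6 * (mx 4408042487662780333392134540991921167648717925574)) : M9) = mx 1965777178989119791640412741829044307951850975818 := by decide +kernel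
theorem rl9_7 : (mat 2 * (mat 0 * (mx 1965777178989119791640412741829044307951850975818)) : M9) = mx 850260329036904874179401512482676262924003821786 := by decide +kernel
theorem rl9_6 : (mat 2 * (mat 6 * (mx 850260329036904874179401512482676262924003821786)) : M9) = mx 395924140082636456913690087640536826747242679949 := by decide +kernel
theorem rl9_5 : (mat 0 * (mat 6 * (mx 395924140082636456913690087640536826747242679949)) : M9) = mx 473506442000116313770037089436619643666005981730 := by decide +kernel
theorem rl9_4 : (mat 4 * (mat 6 * (mx 473506442000116313770037089436619643666005981730)) : M9) = mx 3388584974440301000864330165126971406391127444300 := by decide +kernel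
theorem rl9_3 : (mat 4 * (mat 2 * (mx 3388584974440301000864330165126971406391127444300)) : M9) = mx 1720983191702415725542630698580927494228959432373 := by decide +kernel
theorem rl9_2 : (mat 0 * (mat 2 * (mx 1720983191702415725542630698580927494228959432373)) : M9) = mx 4477389057585333260323852329282426439217905297467 := by decide +kernel
theorem rl9_1 : (mat 4 * (mat 2 * (mx 4477389057585333260323852329282426439217905297467)) : M9) = mx 5758607133169121664793757726913666692069667787921 := by decide +kernel
theorem rl9_0 : (mat 0 * (mat 2 * (mx 5758607133169121664793757726913666692069667787921)) : M9) = mx 2923006062257614111262135807453561611937608892418 := by decide +kernel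
theorem rl9 : ([0, 2, 4, 2, 0, 2, 4, 2, 4, 6, 0, 6, 2, 6, 2, 0, 2, 6, 2, 4, 2, 6, 4].map mat).prod = F4.w • (1 : M9) := by
  simp only [List.map_cons, List.map_nil, List.prod_cons, List.prod_nil]
  rw [rl9_11, rl9_10, rl9_9, rl9_8, rl9_7, rl9_6, rl9_5, rl9_4, rl9_3, rl9_2, rl9_1, rl9_0, mx_w]

theorem gram_in : ∀ l ∈ J3x.Ls, (mat l)ᵀ * (mat l).map (· ^ 2) = 1 := by decide +kernel

theorem mat_sq_in : ∀ l ∈ J3x.Ls, mat l * mat l = 1 := by decide +kernel

theorem mat_out : ∀ l, l ∉ J3x.Ls → mat l = 1 := by
  intro l hl
  match l, hl with
  | 0, h => exact absurd (by decide) h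
  | 1, _ => rfl
  | 2, h => exact absurd (by decide) h
  | 3, _ => rfl
  | 4, h => exact absurd (by decide) h
  | 5, _ => rfl
  | 6, h => exact absurd (by decide) h
  | (k + 7), _ => rfl

theorem mat_sq (l : ℕ) : mat l * mat l = 1 := by
  by_cases h : l ∈ J3x.Ls
  · exact mat_sq_in l h
  · rw [mat_out l h, one_mul]

theorem gram (l : ℕ) : (mat l)ᵀ * (mat l).map (· ^ 2) = 1 := by
  by_cases h : l ∈ J3x.Ls
  · exact gram_in l h
  · rw [mat_out l h]
    decide +kernel

theorem f4_sq_one : ∀ x : F4, x * x = 1 → x = 1 := by decide

theorem det_mat (l : ℕ) : (mat l).det = 1 := by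
  apply f4_sq_one
  rw [← Matrix.det_mul, mat_sq, Matrix.det_one]

theorem sq_add : ∀ x y : F4, (x + y) ^ 2 = x ^ 2 + y ^ 2 := by decide

theorem sq_sum {ι : Type*} (s : Finset ι) (f : ι → F4) :
    (∑ i ∈ s, f i) ^ 2 = ∑ i ∈ s, (f i) ^ 2 := by
  classical
  induction s using Finset.induction_on with
  | empty => rfl
  | insert a s ha ih => rw [Finset.sum_insert ha, Finset.sum_insert ha, sq_add, ih]

theorem herm_pres {n : ℕ} (M : Matrix (Fin n) (Fin n) F4) (h : Mᵀ * M.map (· ^ 2) = 1)
    (u v : Fin n → F4) :
    Cfsg.hermForm n F4 2 (M *ᵥ u) (M *ᵥ v) = Cfsg.hermForm n F4 2 u v := by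
  have h1 : ∀ w w' : Fin n → F4, Cfsg.hermForm n F4 2 w w' = w ⬝ᵥ (fun i => w' i ^ 2) :=
    fun _ _ => rfl
  have h2 : (fun i => (M *ᵥ v) i ^ 2) = (M.map (· ^ 2)) *ᵥ (fun i => v i ^ 2) := by
    funext i
    simp only [Matrix.mulVec, dotProduct, Matrix.map_apply]
    rw [sq_sum]
    simp only [mul_pow]
  rw [h1, h1, h2, dotProduct_comm, Matrix.dotProduct_mulVec, dotProduct_comm,
    ← Matrix.mulVec_transpose, Matrix.mulVec_mulVec, h, Matrix.one_mulVec]

def sl (l : ℕ) : SpecialLinearGroup (Fin 9) F4 := ⟨mat l, det_mat l⟩

theorem sl_mem (l : ℕ) : sl l ∈ Cfsg.SU 9 F4 2 := by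
  intro u v
  exact herm_pres (mat l) (gram l) u v

def su (l : ℕ) : Cfsg.SU 9 F4 2 := ⟨sl l, sl_mem l⟩

theorem coe_ev (w : List ℕ) :
    (((ev su w : Cfsg.SU 9 F4 2) : SpecialLinearGroup (Fin 9) F4) : M9) = (w.map mat).prod := by
  induction w with
  | nil => rfl
  | cons l w ih =>
    rw [ev_cons, Subgroup.coe_mul, Matrix.SpecialLinearGroup.coe_mul, ih]
    rfl

def psu (l : ℕ) : Cfsg.PSU 9 F4 2 := QuotientGroup.mk (su l)

theorem ev_psu (w : List ℕ) : ev psu w = QuotientGroup.mk (ev su w) := by
  induction w with
  | nil => rfl
  | cons l w ih => rw [ev_cons, ev_cons, ih]; rfl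

theorem one_of_prod (w : List ℕ) (h : (w.map mat).prod = 1) : ev psu w = 1 := by
  rw [ev_psu]
  have : ev su w = 1 := Subtype.ext (Subtype.ext (by rw [coe_ev, h]; rfl))
  rw [this]; rfl

theorem one_of_scalar (w : List ℕ) (c : F4) (h : (w.map mat).prod = c • (1 : M9)) :
    ev psu w = 1 := by
  rw [ev_psu, QuotientGroup.eq_one_iff, Subgroup.mem_center_iff]
  intro g
  apply Subtype.ext
  apply Subtype.ext
  rw [Subgroup.coe_mul, Subgroup.coe_mul, Matrix.SpecialLinearGroup.coe_mul,
    Matrix.SpecialLinearGroup.coe_mul, coe_ev, h]
  simp

theorem hrel : ∀ r ∈ J3x.coxW ++ J3x.extraW, ev psu r = 1 := by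
  intro r hr
  simp only [J3x.coxW, J3x.extraW, List.mem_append, List.mem_cons, List.mem_nil_iff, or_false] at hr
  rcases hr with rfl | rfl | rfl | rfl | rfl | rfl | rfl | rfl | rfl | rfl
  · exact one_of_prod _ rl0
  · exact one_of_prod _ rl1
  · exact one_of_prod _ rl2
  · exact one_of_prod _ rl3
  · exact one_of_prod _ rl4
  · exact one_of_prod _ rl5
  · exact one_of_prod _ rl6
  · exact one_of_prod _ rl7
  · exact one_of_prod _ rl8
  · exact one_of_scalar _ _ rl9

theorem hp : ∀ l ∈ J3x.Ls, psu (J3x.invL l) = (psu l)⁻¹ := by
  intro l _
  have h1 : su l * su l = 1 := Subtype.ext (Subtype.ext (mat_sq l))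
  have h2 : psu l * psu l = 1 := by
    show (QuotientGroup.mk (su l * su l) : Cfsg.PSU 9 F4 2) = 1
    rw [h1]; rfl
  exact eq_inv_of_mul_eq_one_right h2

theorem mat_nc : mat 2 * mat 0 ≠ mat 0 * mat 2 := by decide +kernel

theorem psu_ne : psu 0 ≠ 1 := by
  intro h
  have h1 : su 0 ∈ Subgroup.center (Cfsg.SU 9 F4 2) := (QuotientGroup.eq_one_iff _).mp h
  have h2 := Subgroup.mem_center_iff.mp h1 (su 2)
  apply mat_nc
  have h3 := congrArg (fun x : Cfsg.SU 9 F4 2 => ((x : SpecialLinearGroup (Fin 9) F4) : M9)) h2
  exact h3

theorem exists_hom : ∃ γ : J3S.P →* Cfsg.PSU 9 F4 2, ∀ l ∈ J3x.Ls, γ (J3S.gen l) = psu l :=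
  J3S.pres.lift _ psu hp hrel

end Cfsg.Agent.Lib.Helper11.J3M
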