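import Cfsg.Agent.Lib.Helper11.J3xPT

set_option autoImplicit false
set_option maxRecDepth 1000000
set_option Elab.async false

namespace Cfsg.Agent.Lib.Helper11.J3x

open Cfsg.Agent.Lib.Helper11

theorem rng0_0 : PR.allR (PR.mapsF [tb0] 0 6155) 0 6156 = true := by decide +kernel

theorem sq0_0 : PR.allR (PR.fixF [tb0, tb0]) 0 6156 = true := by decide +kernel

theorem rng2_0 : PR.allR (PR.mapsF [tb2] 0 6155) 0 6156 = true := by decide +kernel

theorem sq2_0 : PR.allR (PR.fixF [tb2, tb2]) 0 6156 = true := by decide +kernel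

theorem rng4_0 : PR.allR (PR.mapsF [tb4] 0 6155) 0 6156 = true := by decide +kernel

theorem sq4_0 : PR.allR (PR.fixF [tb4, tb4]) 0 6156 = true := by decide +kernel

theorem rng6_0 : PR.allR (PR.mapsF [tb6] 0 6155) 0 6156 = true := by decide +kernel

theorem sq6_0 : PR.allR (PR.fixF [tb6, tb6]) 0 6156 = true := by decide +kernel

theorem rel0_0 : PR.allR (PR.fixF [tb0, tb2, tb0, tb2, tb0, tb2, tb0, tb2, tb0, tb2, tb0, tb2, tb0, tb2, tb0, tb2, tb0, tb2, tb0, tb2, tb0, tb2, tb0, tb2, tb0, tb2, tb0, tb2, tb0, tb2, tb0, tb2, tb0, tb2]) 0 6156 = true := by decide +kernel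

theorem rel1_0 : PR.allR (PR.fixF [tb0, tb2, tb4, tb0, tb2, tb4, tb0, tb2, tb4, tb0, tb2, tb4]) 0 6156 = true := by decide +kernel

theorem rel2_0 : PR.allR (PR.fixF [tb2, tb4, tb2, tb4, tb2, tb4, tb2, tb4, tb2, tb4, tb2, tb4]) 0 6156 = true := by decide +kernel

theorem rel3_0 : PR.allR (PR.fixF [tb0, tb2, tb0, tb4, tb0, tb4, tb0, tb4, tb2, tb0, tb4, tb0, tb4, tb2, tb4, tb2, tb4, tb0, tb4]) 0 6156 = true := by decide +kernel

theorem rel4_0 : PR.allR (PR.fixF [tb4, tb6, tb4, tb6]) 0 6156 = true := by decide +kernel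

theorem rel5_0 : PR.allR (PR.fixF [tb0, tb4, tb0, tb4, tb6, tb0, tb6, tb0, tb6, tb0, tb6, tb4]) 0 6156 = true := by decide +kernel

theorem rel6_0 : PR.allR (PR.fixF [tb0, tb4, tb0, tb6, tb4, tb0, tb6, tb0, tb6, tb0, tb4, tb6]) 0 6156 = true := by decide +kernel

theorem rel7_0 : PR.allR (PR.fixF [tb0, tb2, tb4, tb6, tb2, tb0, tb4, tb0, tb4, tb2, tb6, tb0, tb4, tb0, tb4, tb0, tb4, tb2, tb4, tb0, tb4]) 0 6156 = true := by decide +kernel

theorem rel8_0 : PR.allR (PR.fixF [tb0, tb2, tb4, tb0, tb2, tb4, tb6, tb2, tb0, tb4, tb2, tb0, tb2, tb4, tb2, tb0, tb6, tb4, tb0, tb2, tb4, tb2]) 0 6156 = true := by decide +kernel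

theorem rel9_0 : PR.allR (PR.fixF [tb0, tb2, tb4, tb2, tb0, tb2, tb4, tb2, tb4, tb6, tb0, tb6, tb2, tb6, tb2, tb0, tb2, tb6, tb2, tb4, tb2, tb6, tb4]) 0 6156 = true := by decide +kernel

theorem mp0_0_0 : PR.allR (PR.mapsF [tb0] 0 0) 0 1 = true := by decide +kernel

theorem mp0_1_0 : PR.allR (PR.mapsF [tb2] 0 0) 0 1 = true := by decide +kernel

theorem mp0_2_0 : PR.allR (PR.mapsF [tb4] 0 0) 0 1 = true := by decide +kernel

theorem mp1_0_0 : PR.allR (PR.mapsF [tb0] 1 85) 1 85 = true := by decide +kernel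

theorem mp1_1_0 : PR.allR (PR.mapsF [tb2] 1 85) 1 85 = true := by decide +kernel

theorem mp1_2_0 : PR.allR (PR.mapsF [tb4] 1 85) 1 85 = true := by decide +kernel

theorem tre1_0 : PR.allR (PR.treeF tbW [[tb0], [tb2], [tb4]] 1) 2 84 = true := by decide +kernel

theorem mp2_0_0 : PR.allR (PR.mapsF [tb0] 86 765) 86 680 = true := by decide +kernel

theorem mp2_1_0 : PR.allR (PR.mapsF [tb2] 86 765) 86 680 = true := by decide +kernel

theorem mp2_2_0 : PR.allR (PR.mapsF [tb4] 86 765) 86 680 = true := by decide +kernel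

theorem tre2_0 : PR.allR (PR.treeF tbW [[tb0], [tb2], [tb4]] 86) 87 679 = true := by decide +kernel

theorem mp3_0_0 : PR.allR (PR.mapsF [tb0] 766 2125) 766 1360 = true := by decide +kernel

theorem mp3_1_0 : PR.allR (PR.mapsF [tb2] 766 2125) 766 1360 = true := by decide +kernel

theorem mp3_2_0 : PR.allR (PR.mapsF [tb4] 766 2125) 766 1360 = true := by decide +kernel

theorem tre3_0 : PR.allR (PR.treeF tbW [[tb0], [tb2], [tb4]] 766) 767 1359 = true := by decide +kernel

theorem mp4_0_0 : PR.allR (PR.mapsF [tb0] 2126 3485) 2126 1360 = true := by decide +kernel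

theorem mp4_1_0 : PR.allR (PR.mapsF [tb2] 2126 3485) 2126 1360 = true := by decide +kernel

theorem mp4_2_0 : PR.allR (PR.mapsF [tb4] 2126 3485) 2126 1360 = true := by decide +kernel

theorem tre4_0 : PR.allR (PR.treeF tbW [[tb0], [tb2], [tb4]] 2126) 2127 1359 = true := by decide +kernel

theorem mp5_0_0 : PR.allR (PR.mapsF [tb0] 3486 5525) 3486 2040 = true := by decide +kernel

theorem mp5_1_0 : PR.allR (PR.mapsF [tb2] 3486 5525) 3486 2040 = true := by decide +kernel

theorem mp5_2_0 : PR.allR (PR.mapsF [tb4] 3486 5525) 3486 2040 = true := by decide +kernel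

theorem tre5_0 : PR.allR (PR.treeF tbW [[tb0], [tb2], [tb4]] 3486) 3487 2039 = true := by decide +kernel

theorem mp6_0_0 : PR.allR (PR.mapsF [tb0] 5526 6035) 5526 510 = true := by decide +kernel

theorem mp6_1_0 : PR.allR (PR.mapsF [tb2] 5526 6035) 5526 510 = true := by decide +kernel

theorem mp6_2_0 : PR.allR (PR.mapsF [tb4] 5526 6035) 5526 510 = true := by decide +kernel

theorem tre6_0 : PR.allR (PR.treeF tbW [[tb0], [tb2], [tb4]] 5526) 5527 509 = true := by decide +kernel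

theorem mp7_0_0 : PR.allR (PR.mapsF [tb0] 6036 6155) 6036 120 = true := by decide +kernel

theorem mp7_1_0 : PR.allR (PR.mapsF [tb2] 6036 6155) 6036 120 = true := by decide +kernel

theorem mp7_2_0 : PR.allR (PR.mapsF [tb4] 6036 6155) 6036 120 = true := by decide +kernel

theorem tre7_0 : PR.allR (PR.treeF tbW [[tb0], [tb2], [tb4]] 6036) 6037 119 = true := by decide +kernel

theorem root0 : PR.trace [] 0 = 0 := by decide +kernel

theorem root1 : PR.trace [tb6] 0 = 1 := by decide +kernel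

theorem root2 : PR.trace [tb6, tb0, tb6] 0 = 86 := by decide +kernel

theorem root3 : PR.trace [tb6, tb2, tb6] 0 = 766 := by decide +kernel

theorem root4 : PR.trace [tb6, tb2, tb0, tb2, tb6] 0 = 2126 := by decide +kernel

theorem root5 : PR.trace [tb6, tb0, tb2, tb6, tb0, tb6] 0 = 3486 := by decide +kernel

theorem root6 : PR.trace [tb6, tb0, tb6, tb2, tb6, tb0, tb6] 0 = 5526 := by decide +kernel

theorem root7 : PR.trace [tb6, tb0, tb2, tb4, tb0, tb6, tb2, tb6] 0 = 6036 := by decide +kernel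

end Cfsg.Agent.Lib.Helper11.J3x
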