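import Mathlib

set_option autoImplicit false

namespace Cfsg.Agent.Lib.Helper11.L37

open Matrix

abbrev M3 := Matrix (Fin 3) (Fin 3) (ZMod 7)

def mat : ℕ → M3
  | 0 => !![1,0,0;0,4,0;0,0,2]
  | 1 => !![1,0,0;0,2,0;0,0,4]
  | 2 => !![2,4,4;4,2,3;4,3,2]
  | 4 => !![0,0,6;0,6,0;6,0,0]
  | 6 => !![0,1,0;1,0,0;0,0,6]
  | 8 => !![0,0,1;0,6,0;1,0,0]
  | _ => 1

theorem rl0_0 : (mat 0 * (mat 0 * (mat 0 * (1))) : M3) = !![1,0,0;0,1,0;0,0,1] := by decide +kernel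
theorem rl0 : ([0, 0, 0].map mat).prod = !![1,0,0;0,1,0;0,0,1] := by
  simp only [List.map_cons, List.map_nil, List.prod_cons, List.prod_nil]
  rw [rl0_0]

theorem rl1_0 : (mat 1 * (mat 1 * (mat 1 * (1))) : M3) = !![1,0,0;0,1,0;0,0,1] := by decide +kernel
theorem rl1 : ([1, 1, 1].map mat).prod = !![1,0,0;0,1,0;0,0,1] := by
  simp only [List.map_cons, List.map_nil, List.prod_cons, List.prod_nil]
  rw [rl1_0]

theorem rl2_1 : (mat 1 * (mat 2 * (1)) : M3) = !![2,4,4;1,4,6;2,5,1] := by decide +kernel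
theorem rl2_0 : (mat 1 * (mat 2 * (mat 1 * (mat 2 * (!![2,4,4;1,4,6;2,5,1])))) : M3) = !![1,0,0;0,1,0;0,0,1] := by decide +kernel
theorem rl2 : ([1, 2, 1, 2, 1, 2].map mat).prod = !![1,0,0;0,1,0;0,0,1] := by
  simp only [List.map_cons, List.map_nil, List.prod_cons, List.prod_nil]
  rw [rl2_1, rl2_0]

theorem rl3_1 : (mat 0 * (mat 2 * (1)) : M3) = !![2,4,4;2,1,5;1,6,4] := by decide +kernel
theorem rl3_0 : (mat 0 * (mat 2 * (mat 0 * (mat 2 * (!![2,4,4;2,1,5;1,6,4])))) : M3) = !![1,0,0;0,1,0;0,0,1] := by decide +kernel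
theorem rl3 : ([0, 2, 0, 2, 0, 2].map mat).prod = !![1,0,0;0,1,0;0,0,1] := by
  simp only [List.map_cons, List.map_nil, List.prod_cons, List.prod_nil]
  rw [rl3_1, rl3_0]

theorem rl4_0 : (mat 1 * (mat 4 * (mat 1 * (mat 4 * (1)))) : M3) = !![4,0,0;0,4,0;0,0,4] := by decide +kernel
theorem rl4 : ([1, 4, 1, 4].map mat).prod = !![4,0,0;0,4,0;0,0,4] := by
  simp only [List.map_cons, List.map_nil, List.prod_cons, List.prod_nil]
  rw [rl4_0]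

theorem rl5_0 : (mat 0 * (mat 4 * (mat 0 * (mat 4 * (1)))) : M3) = !![2,0,0;0,2,0;0,0,2] := by decide +kernel
theorem rl5 : ([0, 4, 0, 4].map mat).prod = !![2,0,0;0,2,0;0,0,2] := by
  simp only [List.map_cons, List.map_nil, List.prod_cons, List.prod_nil]
  rw [rl5_0]

theorem rl6_0 : (mat 1 * (mat 6 * (mat 1 * (mat 6 * (1)))) : M3) = !![2,0,0;0,2,0;0,0,2] := by decide +kernel
theorem rl6 : ([1, 6, 1, 6].map mat).prod = !![2,0,0;0,2,0;0,0,2] := by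
  simp only [List.map_cons, List.map_nil, List.prod_cons, List.prod_nil]
  rw [rl6_0]

theorem rl7_0 : (mat 0 * (mat 6 * (mat 0 * (mat 6 * (1)))) : M3) = !![4,0,0;0,4,0;0,0,4] := by decide +kernel
theorem rl7 : ([0, 6, 0, 6].map mat).prod = !![4,0,0;0,4,0;0,0,4] := by
  simp only [List.map_cons, List.map_nil, List.prod_cons, List.prod_nil]
  rw [rl7_0]

theorem rl8_0 : (mat 1 * (mat 8 * (mat 1 * (mat 8 * (1)))) : M3) = !![4,0,0;0,4,0;0,0,4] := by decide +kernel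
theorem rl8 : ([1, 8, 1, 8].map mat).prod = !![4,0,0;0,4,0;0,0,4] := by
  simp only [List.map_cons, List.map_nil, List.prod_cons, List.prod_nil]
  rw [rl8_0]

theorem rl9_0 : (mat 0 * (mat 8 * (mat 0 * (mat 8 * (1)))) : M3) = !![2,0,0;0,2,0;0,0,2] := by decide +kernel
theorem rl9 : ([0, 8, 0, 8].map mat).prod = !![2,0,0;0,2,0;0,0,2] := by
  simp only [List.map_cons, List.map_nil, List.prod_cons, List.prod_nil]
  rw [rl9_0]

theorem rl10_3 : (mat 2 * (mat 4 * (mat 2 * (mat 4 * (1)))) : M3) = !![4,2,4;5,0,2;4,5,4] := by decide +kernel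
theorem rl10_2 : (mat 2 * (mat 4 * (mat 2 * (mat 4 * (!![4,2,4;5,0,2;4,5,4])))) : M3) = !![0,0,1;0,6,0;1,0,0] := by decide +kernel
theorem rl10_1 : (mat 2 * (mat 4 * (mat 2 * (mat 4 * (!![0,0,1;0,6,0;1,0,0])))) : M3) = !![4,5,4;2,0,5;4,2,4] := by decide +kernel
theorem rl10_0 : (mat 2 * (mat 4 * (mat 2 * (mat 4 * (!![4,5,4;2,0,5;4,2,4])))) : M3) = !![1,0,0;0,1,0;0,0,1] := by decide +kernel
theorem rl10 : ([2, 4, 2, 4, 2, 4, 2, 4, 2, 4, 2, 4, 2, 4, 2, 4].map mat).prod = !![1,0,0;0,1,0;0,0,1] := by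
  simp only [List.map_cons, List.map_nil, List.prod_cons, List.prod_nil]
  rw [rl10_3, rl10_2, rl10_1, rl10_0]

theorem rl11_0 : (mat 2 * (mat 6 * (mat 2 * (mat 6 * (1)))) : M3) = !![1,0,0;0,1,0;0,0,1] := by decide +kernel
theorem rl11 : ([2, 6, 2, 6].map mat).prod = !![1,0,0;0,1,0;0,0,1] := by
  simp only [List.map_cons, List.map_nil, List.prod_cons, List.prod_nil]
  rw [rl11_0]

theorem rl12_0 : (mat 2 * (mat 8 * (mat 2 * (mat 8 * (1)))) : M3) = !![1,0,0;0,1,0;0,0,1] := by decide +kernel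
theorem rl12 : ([2, 8, 2, 8].map mat).prod = !![1,0,0;0,1,0;0,0,1] := by
  simp only [List.map_cons, List.map_nil, List.prod_cons, List.prod_nil]
  rw [rl12_0]

theorem rl13_1 : (mat 4 * (mat 6 * (1)) : M3) = !![0,0,1;6,0,0;0,6,0] := by decide +kernel
theorem rl13_0 : (mat 4 * (mat 6 * (mat 4 * (mat 6 * (!![0,0,1;6,0,0;0,6,0])))) : M3) = !![1,0,0;0,1,0;0,0,1] := by decide +kernel
theorem rl13 : ([4, 6, 4, 6, 4, 6].map mat).prod = !![1,0,0;0,1,0;0,0,1] := by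
  simp only [List.map_cons, List.map_nil, List.prod_cons, List.prod_nil]
  rw [rl13_1, rl13_0]

theorem rl14_0 : (mat 4 * (mat 8 * (mat 4 * (mat 8 * (1)))) : M3) = !![1,0,0;0,1,0;0,0,1] := by decide +kernel
theorem rl14 : ([4, 8, 4, 8].map mat).prod = !![1,0,0;0,1,0;0,0,1] := by
  simp only [List.map_cons, List.map_nil, List.prod_cons, List.prod_nil]
  rw [rl14_0]

theorem rl15_1 : (mat 6 * (mat 8 * (1)) : M3) = !![0,6,0;0,0,1;6,0,0] := by decide +kernel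
theorem rl15_0 : (mat 6 * (mat 8 * (mat 6 * (mat 8 * (!![0,6,0;0,0,1;6,0,0])))) : M3) = !![1,0,0;0,1,0;0,0,1] := by decide +kernel
theorem rl15 : ([6, 8, 6, 8, 6, 8].map mat).prod = !![1,0,0;0,1,0;0,0,1] := by
  simp only [List.map_cons, List.map_nil, List.prod_cons, List.prod_nil]
  rw [rl15_1, rl15_0]

theorem rl16_2 : (mat 2 * (1) : M3) = !![2,4,4;4,2,3;4,3,2] := by decide +kernel
theorem rl16_1 : (mat 2 * (mat 4 * (mat 2 * (mat 4 * (!![2,4,4;4,2,3;4,3,2])))) : M3) = !![4,4,2;4,5,3;2,3,4] := by decide +kernel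
theorem rl16_0 : (mat 8 * (mat 4 * (mat 2 * (mat 4 * (!![4,4,2;4,5,3;2,3,4])))) : M3) = !![1,0,0;0,1,0;0,0,1] := by decide +kernel
theorem rl16 : ([8, 4, 2, 4, 2, 4, 2, 4, 2].map mat).prod = !![1,0,0;0,1,0;0,0,1] := by
  simp only [List.map_cons, List.map_nil, List.prod_cons, List.prod_nil]
  rw [rl16_2, rl16_1, rl16_0]

theorem tv01_6 : (mat 4 * (mat 1 * (mat 4 * (1))) : M3) = !![4,0,0;0,2,0;0,0,1] := by decide +kernel
theorem tv01_5 : (mat 4 * (mat 2 * (mat 1 * (mat 1 * (!![4,0,0;0,2,0;0,0,1])))) : M3) = !![5,4,3;5,5,1;6,3,6] := by decide +kernel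
theorem tv01_4 : (mat 0 * (mat 4 * (mat 2 * (mat 6 * (!![5,4,3;5,5,1;6,3,6])))) : M3) = !![5,2,6;1,1,4;2,0,6] := by decide +kernel
theorem tv01_3 : (mat 0 * (mat 6 * (mat 4 * (mat 2 * (!![5,2,6;1,1,4;2,0,6])))) : M3) = !![0,4,6;4,5,4;2,2,6] := by decide +kernel
theorem tv01_2 : (mat 2 * (mat 1 * (mat 4 * (mat 2 * (!![0,4,6;4,5,4;2,2,6])))) : M3) = !![4,1,2;5,0,6;3,3,2] := by decide +kernel
theorem tv01_1 : (mat 0 * (mat 4 * (mat 6 * (mat 4 * (!![4,1,2;5,0,6;3,3,2])))) : M3) = !![3,6,5;5,5,1;3,0,5] := by decide +kernel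
theorem tv01_0 : (mat 0 * (mat 2 * (mat 4 * (mat 2 * (!![3,6,5;5,5,1;3,0,5])))) : M3) = !![1,1,0;0,1,0;0,0,1] := by decide +kernel
theorem tv01 : ([0, 2, 4, 2, 0, 4, 6, 4, 2, 1, 4, 2, 0, 6, 4, 2, 0, 4, 2, 6, 4, 2, 1, 1, 4, 1, 4].map mat).prod = !![1,1,0;0,1,0;0,0,1] := by
  simp only [List.map_cons, List.map_nil, List.prod_cons, List.prod_nil]
  rw [tv01_6, tv01_5, tv01_4, tv01_3, tv01_2, tv01_1, tv01_0]

theorem tv10_7 : (mat 4 * (mat 1 * (mat 4 * (1))) : M3) = !![4,0,0;0,2,0;0,0,1] := by decide +kernel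
theorem tv10_6 : (mat 4 * (mat 1 * (mat 4 * (mat 1 * (!![4,0,0;0,2,0;0,0,1])))) : M3) = !![2,0,0;0,1,0;0,0,4] := by decide +kernel
theorem tv10_5 : (mat 4 * (mat 2 * (mat 0 * (mat 1 * (!![2,0,0;0,1,0;0,0,4])))) : M3) = !![6,4,6;6,5,2;3,3,5] := by decide +kernel
theorem tv10_4 : (mat 0 * (mat 4 * (mat 2 * (mat 6 * (!![6,4,6;6,5,2;3,3,5])))) : M3) = !![6,2,5;4,1,1;1,0,5] := by decide +kernel
theorem tv10_3 : (mat 4 * (mat 6 * (mat 4 * (mat 2 * (!![6,2,5;4,1,1;1,0,5])))) : M3) = !![3,6,1;3,4,5;0,3,2] := by decide +kernel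
theorem tv10_2 : (mat 0 * (mat 4 * (mat 2 * (mat 1 * (!![3,6,1;3,4,5;0,3,2])))) : M3) = !![5,5,6;2,4,4;3,5,6] := by decide +kernel
theorem tv10_1 : (mat 0 * (mat 6 * (mat 4 * (mat 2 * (!![5,5,6;2,4,4;3,5,6])))) : M3) = !![2,6,6;5,0,4;4,1,6] := by decide +kernel
theorem tv10_0 : (mat 1 * (mat 2 * (mat 4 * (mat 2 * (!![2,6,6;5,0,4;4,1,6])))) : M3) = !![1,0,0;1,1,0;0,0,1] := by decide +kernel
theorem tv10 : ([1, 2, 4, 2, 0, 6, 4, 2, 0, 4, 2, 1, 4, 6, 4, 2, 0, 4, 2, 6, 4, 2, 0, 1, 4, 1, 4, 1, 4, 1, 4].map mat).prod = !![1,0,0;1,1,0;0,0,1] := by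
  simp only [List.map_cons, List.map_nil, List.prod_cons, List.prod_nil]
  rw [tv10_7, tv10_6, tv10_5, tv10_4, tv10_3, tv10_2, tv10_1, tv10_0]

theorem tv12_6 : (mat 1 * (mat 4 * (mat 1 * (mat 4 * (1)))) : M3) = !![4,0,0;0,4,0;0,0,4] := by decide +kernel
theorem tv12_5 : (mat 4 * (mat 2 * (mat 0 * (mat 8 * (!![4,0,0;0,4,0;0,0,4])))) : M3) = !![5,6,5;4,4,5;3,1,6] := by decide +kernel
theorem tv12_4 : (mat 1 * (mat 4 * (mat 2 * (mat 6 * (!![5,6,5;4,4,5;3,1,6])))) : M3) = !![3,3,5;1,6,4;6,0,4] := by decide +kernel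
theorem tv12_3 : (mat 1 * (mat 6 * (mat 4 * (mat 2 * (!![3,3,5;1,6,4;6,0,4])))) : M3) = !![3,4,2;2,3,4;3,1,0] := by decide +kernel
theorem tv12_2 : (mat 2 * (mat 0 * (mat 4 * (mat 2 * (!![3,4,2;2,3,4;3,1,0])))) : M3) = !![2,5,6;3,3,1;4,0,5] := by decide +kernel
theorem tv12_1 : (mat 2 * (mat 0 * (mat 6 * (mat 4 * (!![2,5,6;3,3,1;4,0,5])))) : M3) = !![2,6,1;3,4,6;4,1,2] := by decide +kernel
theorem tv12_0 : (mat 0 * (mat 4 * (mat 2 * (mat 4 * (!![2,6,1;3,4,6;4,1,2])))) : M3) = !![1,0,0;0,1,1;0,0,1] := by decide +kernel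
theorem tv12 : ([0, 4, 2, 4, 2, 0, 6, 4, 2, 0, 4, 2, 1, 6, 4, 2, 1, 4, 2, 6, 4, 2, 0, 8, 1, 4, 1, 4].map mat).prod = !![1,0,0;0,1,1;0,0,1] := by
  simp only [List.map_cons, List.map_nil, List.prod_cons, List.prod_nil]
  rw [tv12_6, tv12_5, tv12_4, tv12_3, tv12_2, tv12_1, tv12_0]

theorem tv21_5 : (mat 4 * (mat 2 * (mat 1 * (mat 4 * (1)))) : M3) = !![1,6,4;5,4,4;2,1,2] := by decide +kernel
theorem tv21_4 : (mat 0 * (mat 4 * (mat 2 * (mat 6 * (!![1,6,4;5,4,4;2,1,2])))) : M3) = !![2,3,4;6,5,5;2,0,3] := by decide +kernel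
theorem tv21_3 : (mat 0 * (mat 6 * (mat 4 * (mat 2 * (!![2,3,4;6,5,5;2,0,3])))) : M3) = !![2,6,0;6,4,6;2,3,3] := by decide +kernel
theorem tv21_2 : (mat 2 * (mat 1 * (mat 4 * (mat 2 * (!![2,6,0;6,4,6;2,3,3])))) : M3) = !![3,5,6;2,0,4;3,1,1] := by decide +kernel
theorem tv21_1 : (mat 0 * (mat 8 * (mat 6 * (mat 4 * (!![3,5,6;2,0,4;3,1,1])))) : M3) = !![3,5,6;5,4,4;3,0,6] := by decide +kernel
theorem tv21_0 : (mat 1 * (mat 2 * (mat 4 * (mat 2 * (!![3,5,6;5,4,4;3,0,6])))) : M3) = !![1,0,0;0,1,0;0,1,1] := by decide +kernel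
theorem tv21 : ([1, 2, 4, 2, 0, 8, 6, 4, 2, 1, 4, 2, 0, 6, 4, 2, 0, 4, 2, 6, 4, 2, 1, 4].map mat).prod = !![1,0,0;0,1,0;0,1,1] := by
  simp only [List.map_cons, List.map_nil, List.prod_cons, List.prod_nil]
  rw [tv21_5, tv21_4, tv21_3, tv21_2, tv21_1, tv21_0]

theorem tv20_7 : (mat 1 * (mat 4 * (1)) : M3) = !![0,0,6;0,5,0;3,0,0] := by decide +kernel
theorem tv20_6 : (mat 8 * (mat 6 * (mat 1 * (mat 4 * (!![0,0,6;0,5,0;3,0,0])))) : M3) = !![0,0,3;3,0,0;0,4,0] := by decide +kernel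
theorem tv20_5 : (mat 6 * (mat 4 * (mat 2 * (mat 1 * (!![0,0,3;3,0,0;0,4,0])))) : M3) = !![2,1,2;3,3,2;3,1,6] := by decide +kernel
theorem tv20_4 : (mat 2 * (mat 0 * (mat 4 * (mat 2 * (!![2,1,2;3,3,2;3,1,6])))) : M3) = !![6,3,6;4,1,0;3,6,1] := by decide +kernel
theorem tv20_3 : (mat 2 * (mat 0 * (mat 6 * (mat 4 * (!![6,3,6;4,1,0;3,6,1])))) : M3) = !![6,3,4;3,1,0;0,6,5] := by decide +kernel
theorem tv20_2 : (mat 4 * (mat 2 * (mat 1 * (mat 4 * (!![6,3,4;3,1,0;0,6,5])))) : M3) = !![3,5,3;0,1,5;1,5,4] := by decide +kernel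
theorem tv20_1 : (mat 4 * (mat 2 * (mat 1 * (mat 6 * (!![3,5,3;0,1,5;1,5,4])))) : M3) = !![4,6,1;0,1,2;6,3,2] := by decide +kernel
theorem tv20_0 : (mat 0 * (mat 6 * (mat 4 * (mat 2 * (!![4,6,1;0,1,2;6,3,2])))) : M3) = !![1,0,0;0,1,0;1,0,1] := by decide +kernel
theorem tv20 : ([0, 6, 4, 2, 4, 2, 1, 6, 4, 2, 1, 4, 2, 0, 6, 4, 2, 0, 4, 2, 6, 4, 2, 1, 8, 6, 1, 4, 1, 4].map mat).prod = !![1,0,0;0,1,0;1,0,1] := by
  simp only [List.map_cons, List.map_nil, List.prod_cons, List.prod_nil]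
  rw [tv20_7, tv20_6, tv20_5, tv20_4, tv20_3, tv20_2, tv20_1, tv20_0]

theorem tv02_7 : (mat 1 * (mat 4 * (1)) : M3) = !![0,0,6;0,5,0;3,0,0] := by decide +kernel
theorem tv02_6 : (mat 4 * (mat 6 * (mat 1 * (mat 4 * (!![0,0,6;0,5,0;3,0,0])))) : M3) = !![0,0,4;3,0,0;0,3,0] := by decide +kernel
theorem tv02_5 : (mat 6 * (mat 4 * (mat 2 * (mat 0 * (!![0,0,4;3,0,0;0,3,0])))) : M3) = !![4,3,5;6,2,5;6,3,1] := by decide +kernel
theorem tv02_4 : (mat 2 * (mat 1 * (mat 4 * (mat 2 * (!![4,3,5;6,2,5;6,3,1])))) : M3) = !![2,1,0;3,3,5;2,1,5] := by decide +kernel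
theorem tv02_3 : (mat 2 * (mat 1 * (mat 6 * (mat 4 * (!![2,1,0;3,3,5;2,1,5])))) : M3) = !![3,2,6;4,3,2;6,4,6] := by decide +kernel
theorem tv02_2 : (mat 4 * (mat 2 * (mat 0 * (mat 4 * (!![3,2,6;4,3,2;6,4,6])))) : M3) = !![0,4,2;4,3,6;2,2,1] := by decide +kernel
theorem tv02_1 : (mat 2 * (mat 1 * (mat 8 * (mat 6 * (!![0,4,2;4,3,6;2,2,1])))) : M3) = !![4,5,1;5,5,4;3,6,4] := by decide +kernel
theorem tv02_0 : (mat 1 * (mat 2 * (mat 6 * (mat 4 * (!![4,5,1;5,5,4;3,6,4])))) : M3) = !![1,0,1;0,1,0;0,0,1] := by decide +kernel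
theorem tv02 : ([1, 2, 6, 4, 2, 1, 8, 6, 4, 2, 0, 4, 2, 1, 6, 4, 2, 1, 4, 2, 6, 4, 2, 0, 4, 6, 1, 4, 1, 4].map mat).prod = !![1,0,1;0,1,0;0,0,1] := by
  simp only [List.map_cons, List.map_nil, List.prod_cons, List.prod_nil]
  rw [tv02_7, tv02_6, tv02_5, tv02_4, tv02_3, tv02_2, tv02_1, tv02_0]

end Cfsg.Agent.Lib.Helper11.L37
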