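import Cfsg.Agent.Lib.Helper11.PRDefs

/-! Definitions for lower bounds of orbit lengths (no Mathlib). -/

set_option autoImplicit false

namespace Cfsg.Agent.Lib.Helper11.PR

/-- lookup in a packed table with 48-bit entries -/
def lk48 (T i : Nat) : Nat := Nat.land (Nat.shiftRight T (Nat.mul i 48)) 281474976710655

/-- the point stored in an entry `point + 2^20 * parent index + 2^40 * word index` -/
def ePt (e : Nat) : Nat := Nat.land e 1048575

/-- entry `idx` of the orbit list: it is the image of an earlier entry under a word, and the table
`Mk` sends the point back to `idx`. -/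
noncomputable def lbF (P Mk : Nat → Nat) (ws : List (List (Nat → Nat))) (idx : Nat) : Bool :=
  (fun e => (fun pidx => Bool.rec false (Bool.rec false
      (Nat.beq (Mk (ePt e)) idx)
      (Nat.beq (trace (nthW ws (Nat.shiftRight e 40)) (ePt (P pidx))) (ePt e)))
      (Nat.ble (Nat.succ pidx) idx))
    (Nat.land (Nat.shiftRight e 20) 1048575)) (P idx)

end Cfsg.Agent.Lib.Helper11.PR
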