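import Cfsg.Agent.Lib.Helper11.PRMain
import Cfsg.Agent.Lib.Helper11.LBDefs

/-! # Lower bounds for the order of a permutation group given by tables (stabiliser chains) -/

set_option autoImplicit false

namespace Cfsg.Agent.Lib.Helper11.PR

open Cfsg.Agent.Lib.Helper11.TC (ev brf)

theorem lbF_sound (P Mk : ℕ → ℕ) (ws : List (List (ℕ → ℕ))) (idx : ℕ) (h : lbF P Mk ws idx = true) :
    Mk (ePt (P idx)) = idx ∧ ∃ pidx < idx, ∃ s, (s = [] ∨ s ∈ ws) ∧ trace s (ePt (P pidx)) = ePt (P idx) := by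
  unfold lbF at h
  simp only [brf] at h
  obtain ⟨h1, h2, h3⟩ := h
  refine ⟨Nat.eq_of_beq_eq_true h3, _, Nat.le_of_ble_eq_true h1, _, nthW_mem ws _, Nat.eq_of_beq_eq_true h2⟩

/-- stabiliser of a point given by a natural number -/
noncomputable def stabN (n β : ℕ) : Subgroup (Equiv.Perm (Fin n)) :=
  if h : β < n then MulAction.stabilizer (Equiv.Perm (Fin n)) (⟨β, h⟩ : Fin n) else ⊤

theorem mem_stabN {n β : ℕ} (h : β < n) (g : Equiv.Perm (Fin n)) :
    g ∈ stabN n β ↔ g ⟨β, h⟩ = ⟨β, h⟩ := by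
  unfold stabN
  rw [dif_pos h, MulAction.mem_stabilizer_iff]; rfl

/-- the subgroup of `A` fixing all the points of a list -/
noncomputable def stabChain {n : ℕ} (A : Subgroup (Equiv.Perm (Fin n))) (βs : List ℕ) :
    Subgroup (Equiv.Perm (Fin n)) :=
  βs.foldl (fun B β => B ⊓ stabN n β) A

theorem stabChain_append {n : ℕ} (A : Subgroup (Equiv.Perm (Fin n))) (βs : List ℕ) (β : ℕ) :
    stabChain A (βs ++ [β]) = stabChain A βs ⊓ stabN n β := by
  simp [stabChain, List.foldl_append]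

theorem mem_stabChain {n : ℕ} (A : Subgroup (Equiv.Perm (Fin n))) (βs : List ℕ)
    (g : Equiv.Perm (Fin n)) : g ∈ stabChain A βs ↔ g ∈ A ∧ ∀ β ∈ βs, g ∈ stabN n β := by
  induction βs generalizing A with
  | nil => simp [stabChain]
  | cons β βs ih =>
    have : stabChain A (β :: βs) = stabChain (A ⊓ stabN n β) βs := rfl
    rw [this, ih, Subgroup.mem_inf]
    simp only [List.mem_cons, forall_eq_or_imp]
    tauto

theorem card_step {Γ X : Type*} [Group Γ] [MulAction Γ X] [Finite Γ] (A : Subgroup Γ) (β : X)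
    (m c : ℕ) (hm : m ≤ (MulAction.orbit A β).ncard)
    (hc : c ≤ Nat.card (A ⊓ MulAction.stabilizer Γ β : Subgroup Γ)) : m * c ≤ Nat.card A := by
  have h1 := MulAction.index_stabilizer (G := A) β
  have h2 := Subgroup.index_mul_card (MulAction.stabilizer A β)
  have h3 : Nat.card (MulAction.stabilizer A β) = Nat.card (A ⊓ MulAction.stabilizer Γ β : Subgroup Γ) := by
    apply Nat.card_congr
    refine ⟨fun x => ⟨x.1.1, x.1.2, x.2⟩, fun x => ⟨⟨x.1, x.2.1⟩, x.2.2⟩, fun x => rfl, fun x => rfl⟩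
  rw [← h2, h1, h3]
  exact Nat.mul_le_mul hm hc

section
variable {n : ℕ} {tbl : ℕ → ℕ → ℕ} {inv : ℕ → ℕ} {Ls : List ℕ}

/-- the group generated by the letters -/
noncomputable def letterGroup (n : ℕ) (tbl : ℕ → ℕ → ℕ) (inv : ℕ → ℕ) (Ls : List ℕ) :
    Subgroup (Equiv.Perm (Fin n)) :=
  Subgroup.closure {p | ∃ l ∈ Ls, p = pg n tbl inv Ls l}

theorem ev_mem_letterGroup (w : List ℕ) (hw : ∀ l ∈ w, l ∈ Ls) :
    ev (pg n tbl inv Ls) w ∈ letterGroup n tbl inv Ls := by
  induction w with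
  | nil => exact Subgroup.one_mem _
  | cons l w ih =>
    rw [TC.ev_cons]
    exact Subgroup.mul_mem _ (Subgroup.subset_closure ⟨l, hw l List.mem_cons_self, rfl⟩)
      (ih (fun l' hl' => hw l' (List.mem_cons_of_mem _ hl')))

/-- a word fixing the points of `βs` gives an element of the stabiliser chain -/
theorem ev_inv_mem_stabChain (hT : Tables n tbl inv Ls) (w : List ℕ) (hw : ∀ l ∈ w, l ∈ Ls)
    (βs : List ℕ) (hβ : ∀ β ∈ βs, β < n ∧ trace (w.map tbl) β = β) :
    (ev (pg n tbl inv Ls) w)⁻¹ ∈ stabChain (letterGroup n tbl inv Ls) βs := by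
  rw [mem_stabChain]
  refine ⟨Subgroup.inv_mem _ (ev_mem_letterGroup w hw), ?_⟩
  intro β hb
  obtain ⟨h1, h2⟩ := hβ β hb
  rw [mem_stabN h1]
  apply Fin.ext
  rw [ev_pg_inv_apply hT w hw]
  exact h2

/-- One level of the chain. -/
theorem level_lb (hT : Tables n tbl inv Ls) (βs : List ℕ) (β : ℕ) (hβn : β < n)
    (ws : List (List ℕ)) (hws : ∀ w ∈ ws, (∀ l ∈ w, l ∈ Ls) ∧ ∀ b ∈ βs, b < n ∧ trace (w.map tbl) b = b)
    (P Mk : ℕ → ℕ) (m : ℕ) (hm : 0 < m) (h0 : ePt (P 0) = β) (hM0 : Mk β = 0)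
    (h : ∀ idx, 1 ≤ idx → idx < m → lbF P Mk (ws.map (fun w => w.map tbl)) idx = true) :
    m ≤ (MulAction.orbit (stabChain (letterGroup n tbl inv Ls) βs) (⟨β, hβn⟩ : Fin n)).ncard := by
  set A := stabChain (letterGroup n tbl inv Ls) βs with hA
  -- every listed point is in the orbit
  have key : ∀ idx, idx < m → ∃ hlt : ePt (P idx) < n,
      (⟨ePt (P idx), hlt⟩ : Fin n) ∈ MulAction.orbit A (⟨β, hβn⟩ : Fin n) := by
    intro idx
    induction idx using Nat.strong_induction_on with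
    | _ idx ih =>
      intro hidx
      rcases Nat.eq_zero_or_pos idx with rfl | hpos
      · refine ⟨by rw [h0]; exact hβn, ?_⟩
        simp only [h0]
        exact MulAction.mem_orbit_self _
      · obtain ⟨_, pidx, hp, s, hs, hs2⟩ := lbF_sound _ _ _ _ (h idx hpos hidx)
        obtain ⟨hlt, horb⟩ := ih pidx hp (by omega)
        rcases hs with rfl | hs
        · simp only [trace_nil] at hs2
          simp only [← hs2]
          exact ⟨hlt, horb⟩
        · obtain ⟨w, hw, rfl⟩ := List.mem_map.mp hs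
          obtain ⟨hwl, hwb⟩ := hws w hw
          have hmem := ev_inv_mem_stabChain hT w hwl βs hwb
          have hlt2 : ePt (P idx) < n := by rw [← hs2]; exact trace_lt hT w hwl _ hlt
          refine ⟨hlt2, ?_⟩
          have : (⟨ePt (P idx), hlt2⟩ : Fin n) =
              (⟨_, hmem⟩ : A) • (⟨ePt (P pidx), hlt⟩ : Fin n) := by
            apply Fin.ext
            have h5 : (((⟨_, hmem⟩ : A) • (⟨ePt (P pidx), hlt⟩ : Fin n) : Fin n) : ℕ) =
              (((ev (pg n tbl inv Ls) w)⁻¹ (⟨ePt (P pidx), hlt⟩ : Fin n) : Fin n) : ℕ) := rfl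
            rw [h5, ev_pg_inv_apply hT w hwl]
            exact hs2.symm
          rw [this]
          obtain ⟨a, ha⟩ := horb
          exact ⟨(⟨_, hmem⟩ : A) * a, by rw [← ha]; exact mul_smul _ _ _⟩
  have hMk : ∀ idx, idx < m → Mk (ePt (P idx)) = idx := by
    intro idx hidx
    rcases Nat.eq_zero_or_pos idx with rfl | hpos
    · rw [h0, hM0]
    · exact (lbF_sound _ _ _ _ (h idx hpos hidx)).1
  let f : Fin m → Fin n := fun i => ⟨ePt (P i), (key i i.2).1⟩
  have hf : Function.Injective f := by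
    intro i j hij
    have h1 : ePt (P i) = ePt (P j) := congrArg Fin.val hij
    apply Fin.ext
    rw [← hMk i i.2, ← hMk j j.2, h1]
  have hsub : Set.range f ⊆ MulAction.orbit A (⟨β, hβn⟩ : Fin n) := by
    rintro _ ⟨i, rfl⟩
    exact (key i i.2).2
  calc m = (Set.range f).ncard := by
        rw [← Set.image_univ, Set.ncard_image_of_injective _ hf, Set.ncard_univ]; simp
    _ ≤ _ := Set.ncard_le_ncard hsub (Set.toFinite _)

/-- chaining: one more base point -/
theorem chain_step (βs : List ℕ) (β : ℕ) (hβn : β < n) (m c : ℕ)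
    (hm : m ≤ (MulAction.orbit (stabChain (letterGroup n tbl inv Ls) βs) (⟨β, hβn⟩ : Fin n)).ncard)
    (hc : c ≤ Nat.card (stabChain (letterGroup n tbl inv Ls) (βs ++ [β]))) :
    m * c ≤ Nat.card (stabChain (letterGroup n tbl inv Ls) βs) := by
  rw [stabChain_append] at hc
  have : stabN n β = MulAction.stabilizer (Equiv.Perm (Fin n)) (⟨β, hβn⟩ : Fin n) := by
    unfold stabN; rw [dif_pos hβn]
  rw [this] at hc
  exact card_step _ _ m c hm hc

end

end Cfsg.Agent.Lib.Helper11.PR
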