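import Cfsg.Agent.Lib.Helper11.M11xPT
import Cfsg.Agent.Lib.Helper11.LBDefs

set_option autoImplicit false
set_option maxRecDepth 1000000

namespace Cfsg.Agent.Lib.Helper11.M11x

open Cfsg.Agent.Lib.Helper11

def TP0_0_1 : Nat := 29460546712939521945421690935261376460135656793765000853528074453299752399521528310979548309650397400528067796344039394687829945551627975000983324327936
noncomputable def lP0 (i : Nat) : Nat := Nat.land (Nat.shiftRight TP0_0_1 (Nat.mul (Nat.land i 255) 48)) 281474976710655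
def TM0_0_1 : Nat := 11649684808720
noncomputable def lM0 (i : Nat) : Nat := Nat.land (Nat.shiftRight TM0_0_1 (Nat.mul (Nat.land i 255) 4)) 15
def lws0 : List (List Nat) := [
  [0],
  [2],
  [3]]
noncomputable def lwT0 : List (List (Nat → Nat)) := [
  [tb0],
  [tb2],
  [tb3]]
def TP1_0_1 : Nat := 73165981648141974711018913971634607207794376402446417346546075475309062067435412360998953639641202403414591595754137720418264870676433408622593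
noncomputable def lP1 (i : Nat) : Nat := Nat.land (Nat.shiftRight TP1_0_1 (Nat.mul (Nat.land i 255) 48)) 281474976710655
def TM1_0_1 : Nat := 10412683825920
noncomputable def lM1 (i : Nat) : Nat := Nat.land (Nat.shiftRight TM1_0_1 (Nat.mul (Nat.land i 255) 4)) 15
def lws1 : List (List Nat) := [
  [2],
  [3],
  [0, 2, 0, 2, 0, 3, 0, 2],
  [0, 2, 2, 0, 3, 3, 0],
  [0, 2, 0, 2, 0, 3, 0],
  [0, 2, 0, 3, 0, 3, 0],
  [0, 3, 0, 3, 0, 2, 0, 2, 0],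
  [0, 3, 0, 2, 0, 3, 0, 2, 0],
  [0, 3, 0, 3, 3, 0, 2, 0, 2, 2, 0, 2, 0],
  [0, 3, 0, 3, 3, 0, 3, 0, 2, 2, 0, 2, 0]]
noncomputable def lwT1 : List (List (Nat → Nat)) := [
  [tb2],
  [tb3],
  [tb0, tb2, tb0, tb2, tb0, tb3, tb0, tb2],
  [tb0, tb2, tb2, tb0, tb3, tb3, tb0],
  [tb0, tb2, tb0, tb2, tb0, tb3, tb0],
  [tb0, tb2, tb0, tb3, tb0, tb3, tb0],
  [tb0, tb3, tb0, tb3, tb0, tb2, tb0, tb2, tb0],
  [tb0, tb3, tb0, tb2, tb0, tb3, tb0, tb2, tb0],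
  [tb0, tb3, tb0, tb3, tb3, tb0, tb2, tb0, tb2, tb2, tb0, tb2, tb0],
  [tb0, tb3, tb0, tb3, tb3, tb0, tb3, tb0, tb2, tb2, tb0, tb2, tb0]]
def TP2_0_1 : Nat := 303260789110856810375384034513590422308186958038303634148873066168773165959263892931773952237539219170814828995064066848636010498
noncomputable def lP2 (i : Nat) : Nat := Nat.land (Nat.shiftRight TP2_0_1 (Nat.mul (Nat.land i 255) 48)) 281474976710655
def TM2_0_1 : Nat := 9282334826496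
noncomputable def lM2 (i : Nat) : Nat := Nat.land (Nat.shiftRight TM2_0_1 (Nat.mul (Nat.land i 255) 4)) 15
def lws2 : List (List Nat) := [
  [0, 2, 0, 2, 0, 3, 0, 3],
  [2, 0, 2, 0, 3, 0, 3, 0],
  [0, 2, 2, 0, 3, 3, 0, 3, 3],
  [2, 2, 0, 2, 0, 2, 0, 3, 0, 2],
  [3, 0, 2, 0, 3, 0, 3, 0, 3, 3],
  [0, 3, 0, 2, 0, 3, 0, 2, 0, 3, 3],
  [3, 0, 2, 2, 0, 3, 0, 3, 0, 3, 0, 2],
  [2, 2, 0, 3, 0, 2, 0, 3, 0, 2, 0],
  [2, 0, 2, 0, 2, 0, 3, 0, 3, 0, 2, 0, 3, 0, 3, 0, 3],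
  [2, 0, 3, 0, 3, 3, 0, 2, 0, 2, 2, 0, 2, 0, 2],
  [0, 2, 0, 3, 0, 3, 3, 0, 3, 0, 2, 0, 2, 0, 2],
  [2, 0, 3, 0, 3, 0, 2, 0, 2, 2, 0, 3, 0, 3, 0, 3]]
noncomputable def lwT2 : List (List (Nat → Nat)) := [
  [tb0, tb2, tb0, tb2, tb0, tb3, tb0, tb3],
  [tb2, tb0, tb2, tb0, tb3, tb0, tb3, tb0],
  [tb0, tb2, tb2, tb0, tb3, tb3, tb0, tb3, tb3],
  [tb2, tb2, tb0, tb2, tb0, tb2, tb0, tb3, tb0, tb2],
  [tb3, tb0, tb2, tb0, tb3, tb0, tb3, tb0, tb3, tb3],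
  [tb0, tb3, tb0, tb2, tb0, tb3, tb0, tb2, tb0, tb3, tb3],
  [tb3, tb0, tb2, tb2, tb0, tb3, tb0, tb3, tb0, tb3, tb0, tb2],
  [tb2, tb2, tb0, tb3, tb0, tb2, tb0, tb3, tb0, tb2, tb0],
  [tb2, tb0, tb2, tb0, tb2, tb0, tb3, tb0, tb3, tb0, tb2, tb0, tb3, tb0, tb3, tb0, tb3],
  [tb2, tb0, tb3, tb0, tb3, tb3, tb0, tb2, tb0, tb2, tb2, tb0, tb2, tb0, tb2],
  [tb0, tb2, tb0, tb3, tb0, tb3, tb3, tb0, tb3, tb0, tb2, tb0, tb2, tb0, tb2],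
  [tb2, tb0, tb3, tb0, tb3, tb0, tb2, tb0, tb2, tb2, tb0, tb3, tb0, tb3, tb0, tb3]]
def TP3_0_1 : Nat := 923484520228978228925898772451203916390152620936882925345484017331369136009499226513552874140512547594110920294403
noncomputable def lP3 (i : Nat) : Nat := Nat.land (Nat.shiftRight TP3_0_1 (Nat.mul (Nat.land i 255) 48)) 281474976710655
def TM3_0_1 : Nat := 2428604121088
noncomputable def lM3 (i : Nat) : Nat := Nat.land (Nat.shiftRight TM3_0_1 (Nat.mul (Nat.land i 255) 4)) 15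
def lws3 : List (List Nat) := [
  [0, 2, 0, 2, 0, 3, 0, 3],
  [2, 0, 2, 0, 3, 0, 3, 0],
  [0, 2, 2, 0, 3, 3, 0, 3, 3],
  [2, 2, 0, 2, 0, 2, 0, 3, 0, 2],
  [3, 0, 2, 0, 3, 0, 3, 0, 3, 3],
  [0, 3, 0, 2, 0, 3, 0, 2, 0, 3, 3],
  [2, 2, 0, 3, 0, 2, 0, 3, 0, 2, 0]]
noncomputable def lwT3 : List (List (Nat → Nat)) := [
  [tb0, tb2, tb0, tb2, tb0, tb3, tb0, tb3],
  [tb2, tb0, tb2, tb0, tb3, tb0, tb3, tb0],
  [tb0, tb2, tb2, tb0, tb3, tb3, tb0, tb3, tb3],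
  [tb2, tb2, tb0, tb2, tb0, tb2, tb0, tb3, tb0, tb2],
  [tb3, tb0, tb2, tb0, tb3, tb0, tb3, tb0, tb3, tb3],
  [tb0, tb3, tb0, tb2, tb0, tb3, tb0, tb2, tb0, tb3, tb3],
  [tb2, tb2, tb0, tb3, tb0, tb2, tb0, tb3, tb0, tb2, tb0]]

end Cfsg.Agent.Lib.Helper11.M11x
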