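import Cfsg.Agent.Lib.Helper11.O73MDefs

set_option autoImplicit false
set_option maxRecDepth 100000

namespace Cfsg.Agent.Lib.Helper11.O73M

open Matrix

theorem rl0_2 : (mat 2 * (mat 4 * (1)) : M7) = mx 80802998481724533592246 := by decide +kernel
theorem rl0_1 : (mat 2 * (mat 4 * (mx 80802998481724533592246)) : M7) = mx 81822891528473499440614 := by decide +kernel
theorem rl0_0 : (mat 2 * (mat 4 * (mx 81822891528473499440614)) : M7) = mx 79778602595634228233767 := by decide +kernel
theorem rl0 : ([2, 4, 2, 4, 2, 4].map mat).prod = 1 := by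
  simp only [List.map_cons, List.map_nil, List.prod_cons, List.prod_nil]
  rw [rl0_2, rl0_1, rl0_0, mx_one]

theorem rl1_1 : (mat 2 * (mat 6 * (1)) : M7) = mx 2954764851103673300863 := by decide +kernel
theorem rl1_0 : (mat 2 * (mat 6 * (mx 2954764851103673300863)) : M7) = mx 79778602595634228233767 := by decide +kernel
theorem rl1 : ([2, 6, 2, 6].map mat).prod = 1 := by
  simp only [List.map_cons, List.map_nil, List.prod_cons, List.prod_nil]
  rw [rl1_1, rl1_0, mx_one]

theorem rl2_1 : (mat 2 * (mat 8 * (1)) : M7) = mx 2971273888377676882036 := by decide +kernel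
theorem rl2_0 : (mat 2 * (mat 8 * (mx 2971273888377676882036)) : M7) = mx 79778602595634228233767 := by decide +kernel
theorem rl2 : ([2, 8, 2, 8].map mat).prod = 1 := by
  simp only [List.map_cons, List.map_nil, List.prod_cons, List.prod_nil]
  rw [rl2_1, rl2_0, mx_one]

theorem rl3_1 : (mat 2 * (mat 14 * (1)) : M7) = mx 95905690218376399725238 := by decide +kernel
theorem rl3_0 : (mat 2 * (mat 14 * (mx 95905690218376399725238)) : M7) = mx 79778602595634228233767 := by decide +kernel
theorem rl3 : ([2, 14, 2, 14].map mat).prod = 1 := by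
  simp only [List.map_cons, List.map_nil, List.prod_cons, List.prod_nil]
  rw [rl3_1, rl3_0, mx_one]

theorem rl4_1 : (mat 2 * (mat 10 * (1)) : M7) = mx 86234340378936012389166 := by decide +kernel
theorem rl4_0 : (mat 2 * (mat 10 * (mx 86234340378936012389166)) : M7) = mx 79778602595634228233767 := by decide +kernel
theorem rl4 : ([2, 10, 2, 10].map mat).prod = 1 := by
  simp only [List.map_cons, List.map_nil, List.prod_cons, List.prod_nil]
  rw [rl4_1, rl4_0, mx_one]

theorem rl5_1 : (mat 2 * (mat 12 * (1)) : M7) = mx 104069654711199267894451 := by decide +kernel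
theorem rl5_0 : (mat 2 * (mat 12 * (mx 104069654711199267894451)) : M7) = mx 79778602595634228233767 := by decide +kernel
theorem rl5 : ([2, 12, 2, 12].map mat).prod = 1 := by
  simp only [List.map_cons, List.map_nil, List.prod_cons, List.prod_nil]
  rw [rl5_1, rl5_0, mx_one]

theorem rl6_1 : (mat 2 * (mat 16 * (1)) : M7) = mx 94878442328418462447955 := by decide +kernel
theorem rl6_0 : (mat 2 * (mat 16 * (mx 94878442328418462447955)) : M7) = mx 79778602595634228233767 := by decide +kernel
theorem rl6 : ([2, 16, 2, 16].map mat).prod = 1 := by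
  simp only [List.map_cons, List.map_nil, List.prod_cons, List.prod_nil]
  rw [rl6_1, rl6_0, mx_one]

theorem rl7_2 : (mat 4 * (mat 6 * (1)) : M7) = mx 56183725936832119404148 := by decide +kernel
theorem rl7_1 : (mat 4 * (mat 6 * (mx 56183725936832119404148)) : M7) = mx 4924306655568827056900 := by decide +kernel
theorem rl7_0 : (mat 4 * (mat 6 * (mx 4924306655568827056900)) : M7) = mx 79778602595634228233767 := by decide +kernel
theorem rl7 : ([4, 6, 4, 6, 4, 6].map mat).prod = 1 := by
  simp only [List.map_cons, List.map_nil, List.prod_cons, List.prod_nil]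
  rw [rl7_2, rl7_1, rl7_0, mx_one]

theorem rl8_1 : (mat 4 * (mat 8 * (1)) : M7) = mx 4980440676557450294569 := by decide +kernel
theorem rl8_0 : (mat 4 * (mat 8 * (mx 4980440676557450294569)) : M7) = mx 79778602595634228233767 := by decide +kernel
theorem rl8 : ([4, 8, 4, 8].map mat).prod = 1 := by
  simp only [List.map_cons, List.map_nil, List.prod_cons, List.prod_nil]
  rw [rl8_1, rl8_0, mx_one]

theorem rl9_1 : (mat 4 * (mat 14 * (1)) : M7) = mx 94956491744852320462861 := by decide +kernel
theorem rl9_0 : (mat 4 * (mat 14 * (mx 94956491744852320462861)) : M7) = mx 79778602595634228233767 := by decide +kernel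
theorem rl9 : ([4, 14, 4, 14].map mat).prod = 1 := by
  simp only [List.map_cons, List.map_nil, List.prod_cons, List.prod_nil]
  rw [rl9_1, rl9_0, mx_one]

theorem rl10_1 : (mat 4 * (mat 10 * (1)) : M7) = mx 88243507167115785801699 := by decide +kernel
theorem rl10_0 : (mat 4 * (mat 10 * (mx 88243507167115785801699)) : M7) = mx 79778602595634228233767 := by decide +kernel
theorem rl10 : ([4, 10, 4, 10].map mat).prod = 1 := by
  simp only [List.map_cons, List.map_nil, List.prod_cons, List.prod_nil]
  rw [rl10_1, rl10_0, mx_one]

theorem rl11_1 : (mat 4 * (mat 12 * (1)) : M7) = mx 106078821499379041306984 := by decide +kernel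
theorem rl11_0 : (mat 4 * (mat 12 * (mx 106078821499379041306984)) : M7) = mx 79778602595634228233767 := by decide +kernel
theorem rl11 : ([4, 12, 4, 12].map mat).prod = 1 := by
  simp only [List.map_cons, List.map_nil, List.prod_cons, List.prod_nil]
  rw [rl11_1, rl11_0, mx_one]

theorem rl12_1 : (mat 4 * (mat 16 * (1)) : M7) = mx 96887609116598235860488 := by decide +kernel
theorem rl12_0 : (mat 4 * (mat 16 * (mx 96887609116598235860488)) : M7) = mx 79778602595634228233767 := by decide +kernel
theorem rl12 : ([4, 16, 4, 16].map mat).prod = 1 := by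
  simp only [List.map_cons, List.map_nil, List.prod_cons, List.prod_nil]
  rw [rl12_1, rl12_0, mx_one]

theorem rl13_2 : (mat 6 * (mat 8 * (1)) : M7) = mx 79766893841475093574708 := by decide +kernel
theorem rl13_1 : (mat 6 * (mat 8 * (mx 79766893841475093574708)) : M7) = mx 79783414957696173746500 := by decide +kernel
theorem rl13_0 : (mat 6 * (mat 8 * (mx 79783414957696173746500)) : M7) = mx 79778602595634228233767 := by decide +kernel
theorem rl13 : ([6, 8, 6, 8, 6, 8].map mat).prod = 1 := by
  simp only [List.map_cons, List.map_nil, List.prod_cons, List.prod_nil]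
  rw [rl13_2, rl13_1, rl13_0, mx_one]

theorem rl14_2 : (mat 6 * (mat 14 * (1)) : M7) = mx 172663636418017871214196 := by decide +kernel
theorem rl14_1 : (mat 6 * (mat 14 * (mx 172663636418017871214196)) : M7) = mx 198321869393747076833236 := by decide +kernel
theorem rl14_0 : (mat 6 * (mat 14 * (mx 198321869393747076833236)) : M7) = mx 79778602595634228233767 := by decide +kernel
theorem rl14 : ([6, 14, 6, 14, 6, 14].map mat).prod = 1 := by
  simp only [List.map_cons, List.map_nil, List.prod_cons, List.prod_nil]
  rw [rl14_2, rl14_1, rl14_0, mx_one]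

theorem rl15_1 : (mat 6 * (mat 10 * (1)) : M7) = mx 163034763360362473888686 := by decide +kernel
theorem rl15_0 : (mat 6 * (mat 10 * (mx 163034763360362473888686)) : M7) = mx 79778602595634228233767 := by decide +kernel
theorem rl15 : ([6, 10, 6, 10].map mat).prod = 1 := by
  simp only [List.map_cons, List.map_nil, List.prod_cons, List.prod_nil]
  rw [rl15_1, rl15_0, mx_one]

theorem rl16_1 : (mat 6 * (mat 12 * (1)) : M7) = mx 180870077692625729393971 := by decide +kernel
theorem rl16_0 : (mat 6 * (mat 12 * (mx 180870077692625729393971)) : M7) = mx 79778602595634228233767 := by decide +kernel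
theorem rl16 : ([6, 12, 6, 12].map mat).prod = 1 := by
  simp only [List.map_cons, List.map_nil, List.prod_cons, List.prod_nil]
  rw [rl16_1, rl16_0, mx_one]

theorem rl17_1 : (mat 6 * (mat 16 * (1)) : M7) = mx 171678865309844923947475 := by decide +kernel
theorem rl17_0 : (mat 6 * (mat 16 * (mx 171678865309844923947475)) : M7) = mx 79778602595634228233767 := by decide +kernel
theorem rl17 : ([6, 16, 6, 16].map mat).prod = 1 := by
  simp only [List.map_cons, List.map_nil, List.prod_cons, List.prod_nil]
  rw [rl17_1, rl17_0, mx_one]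

theorem rl18_1 : (mat 8 * (mat 14 * (1)) : M7) = mx 172722171335497577524621 := by decide +kernel
theorem rl18_0 : (mat 8 * (mat 14 * (mx 172722171335497577524621)) : M7) = mx 79778602595634228233767 := by decide +kernel
theorem rl18 : ([8, 14, 8, 14].map mat).prod = 1 := by
  simp only [List.map_cons, List.map_nil, List.prod_cons, List.prod_nil]
  rw [rl18_1, rl18_0, mx_one]

theorem rl19_2 : (mat 8 * (mat 10 * (1)) : M7) = mx 163088878710311868688509 := by decide +kernel
theorem rl19_1 : (mat 8 * (mat 10 * (mx 163088878710311868688509)) : M7) = mx 172570725825595650747450 := by decide +kernel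
theorem rl19_0 : (mat 8 * (mat 10 * (mx 172570725825595650747450)) : M7) = mx 79778602595634228233767 := by decide +kernel
theorem rl19 : ([8, 10, 8, 10, 8, 10].map mat).prod = 1 := by
  simp only [List.map_cons, List.map_nil, List.prod_cons, List.prod_nil]
  rw [rl19_2, rl19_1, rl19_0, mx_one]

theorem rl20_1 : (mat 8 * (mat 12 * (1)) : M7) = mx 180886586729899732975144 := by decide +kernel
theorem rl20_0 : (mat 8 * (mat 12 * (mx 180886586729899732975144)) : M7) = mx 79778602595634228233767 := by decide +kernel
theorem rl20 : ([8, 12, 8, 12].map mat).prod = 1 := by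
  simp only [List.map_cons, List.map_nil, List.prod_cons, List.prod_nil]
  rw [rl20_1, rl20_0, mx_one]

theorem rl21_1 : (mat 8 * (mat 16 * (1)) : M7) = mx 171695374347118927528648 := by decide +kernel
theorem rl21_0 : (mat 8 * (mat 16 * (mx 171695374347118927528648)) : M7) = mx 79778602595634228233767 := by decide +kernel
theorem rl21 : ([8, 16, 8, 16].map mat).prod = 1 := by
  simp only [List.map_cons, List.map_nil, List.prod_cons, List.prod_nil]
  rw [rl21_1, rl21_0, mx_one]

theorem rl22_1 : (mat 14 * (mat 10 * (1)) : M7) = mx 16686359496170382113535 := by decide +kernel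
theorem rl22_0 : (mat 14 * (mat 10 * (mx 16686359496170382113535)) : M7) = mx 79778602595634228233767 := by decide +kernel
theorem rl22 : ([14, 10, 14, 10].map mat).prod = 1 := by
  simp only [List.map_cons, List.map_nil, List.prod_cons, List.prod_nil]
  rw [rl22_1, rl22_0, mx_one]

theorem rl23_1 : (mat 14 * (mat 12 * (1)) : M7) = mx 6948031121030654704126 := by decide +kernel
theorem rl23_0 : (mat 14 * (mat 12 * (mx 6948031121030654704126)) : M7) = mx 79778602595634228233767 := by decide +kernel
theorem rl23 : ([14, 12, 14, 12].map mat).prod = 1 := by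
  simp only [List.map_cons, List.map_nil, List.prod_cons, List.prod_nil]
  rw [rl23_1, rl23_0, mx_one]

theorem rl24_2 : (mat 14 * (mat 16 * (1)) : M7) = mx 80847876983475325264930 := by decide +kernel
theorem rl24_1 : (mat 14 * (mat 16 * (mx 80847876983475325264930)) : M7) = mx 81790621593761052037090 := by decide +kernel
theorem rl24_0 : (mat 14 * (mat 16 * (mx 81790621593761052037090)) : M7) = mx 79778602595634228233767 := by decide +kernel
theorem rl24 : ([14, 16, 14, 16, 14, 16].map mat).prod = 1 := by
  simp only [List.map_cons, List.map_nil, List.prod_cons, List.prod_nil]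
  rw [rl24_2, rl24_1, rl24_0, mx_one]

theorem rl25_2 : (mat 10 * (mat 12 * (1)) : M7) = mx 89516910038508861355881 := by decide +kernel
theorem rl25_1 : (mat 10 * (mat 12 * (mx 89516910038508861355881)) : M7) = mx 97942191304562458445379 := by decide +kernel
theorem rl25_0 : (mat 10 * (mat 12 * (mx 97942191304562458445379)) : M7) = mx 79778602595634228233767 := by decide +kernel
theorem rl25 : ([10, 12, 10, 12, 10, 12].map mat).prod = 1 := by
  simp only [List.map_cons, List.map_nil, List.prod_cons, List.prod_nil]
  rw [rl25_2, rl25_1, rl25_0, mx_one]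

theorem rl26_1 : (mat 10 * (mat 16 * (1)) : M7) = mx 15659111606212444836252 := by decide +kernel
theorem rl26_0 : (mat 10 * (mat 16 * (mx 15659111606212444836252)) : M7) = mx 79778602595634228233767 := by decide +kernel
theorem rl26 : ([10, 16, 10, 16].map mat).prod = 1 := by
  simp only [List.map_cons, List.map_nil, List.prod_cons, List.prod_nil]
  rw [rl26_1, rl26_0, mx_one]

theorem rl27_1 : (mat 12 * (mat 16 * (1)) : M7) = mx 5920783231072717426843 := by decide +kernel
theorem rl27_0 : (mat 12 * (mat 16 * (mx 5920783231072717426843)) : M7) = mx 79778602595634228233767 := by decide +kernel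
theorem rl27 : ([12, 16, 12, 16].map mat).prod = 1 := by
  simp only [List.map_cons, List.map_nil, List.prod_cons, List.prod_nil]
  rw [rl27_1, rl27_0, mx_one]

end Cfsg.Agent.Lib.Helper11.O73M
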