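import Cfsg.Agent.Lib.Helper11.O73MDefs

set_option autoImplicit false
set_option maxRecDepth 100000

namespace Cfsg.Agent.Lib.Helper11.O73M

open Matrix

theorem rl28_44 : (mat 14 * (mat 16 * (1)) : M7) = mx 80847876983475325264930 := by decide +kernel
theorem rl28_43 : (mat 10 * (mat 6 * (mx 80847876983475325264930)) : M7) = mx 164019534468539438849367 := by decide +kernel
theorem rl28_42 : (mat 6 * (mat 8 * (mx 164019534468539438849367)) : M7) = mx 164115756064863655228776 := by decide +kernel
theorem rl28_41 : (mat 4 * (mat 2 * (mx 164115756064863655228776)) : M7) = mx 218360057326695216794280 := by decide +kernel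
theorem rl28_40 : (mat 16 * (mat 6 * (mx 218360057326695216794280)) : M7) = mx 67962700374846587236578 := by decide +kernel
theorem rl28_39 : (mat 6 * (mat 14 * (mx 67962700374846587236578)) : M7) = mx 49526566277164087587312 := by decide +kernel
theorem rl28_38 : (mat 8 * (mat 10 * (mx 49526566277164087587312)) : M7) = mx 231038940511921554179448 := by decide +kernel
theorem rl28_37 : (mat 2 * (mat 6 * (mx 231038940511921554179448)) : M7) = mx 128684305495082763145572 := by decide +kernel
theorem rl28_36 : (mat 6 * (mat 4 * (mx 128684305495082763145572)) : M7) = mx 118665638682059675169384 := by decide +kernel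
theorem rl28_35 : (mat 14 * (mat 16 * (mx 118665638682059675169384)) : M7) = mx 108860453799138288218229 := by decide +kernel
theorem rl28_34 : (mat 10 * (mat 6 * (mx 108860453799138288218229)) : M7) = mx 232089426408100874335967 := by decide +kernel
theorem rl28_33 : (mat 6 * (mat 8 * (mx 232089426408100874335967)) : M7) = mx 232175671847018075109926 := by decide +kernel
theorem rl28_32 : (mat 4 * (mat 2 * (mx 232175671847018075109926)) : M7) = mx 201452550793027680453869 := by decide +kernel
theorem rl28_31 : (mat 16 * (mat 6 * (mx 201452550793027680453869)) : M7) = mx 85802731165268356725623 := by decide +kernel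
theorem rl28_30 : (mat 6 * (mat 14 * (mx 85802731165268356725623)) : M7) = mx 228041370713590347732248 := by decide +kernel
theorem rl28_29 : (mat 8 * (mat 10 * (mx 228041370713590347732248)) : M7) = mx 145249487818355974545964 := by decide +kernel
theorem rl28_28 : (mat 2 * (mat 6 * (mx 145249487818355974545964)) : M7) = mx 236720060389218479528368 := by decide +kernel
theorem rl28_27 : (mat 6 * (mat 4 * (mx 236720060389218479528368)) : M7) = mx 37800040470412470177808 := by decide +kernel
theorem rl28_26 : (mat 14 * (mat 16 * (mx 37800040470412470177808)) : M7) = mx 63346903135206351948343 := by decide +kernel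
theorem rl28_25 : (mat 10 * (mat 6 * (mx 63346903135206351948343)) : M7) = mx 229574543274292515903918 := by decide +kernel
theorem rl28_24 : (mat 6 * (mat 8 * (mx 229574543274292515903918)) : M7) = mx 229663755833196858480045 := by decide +kernel
theorem rl28_23 : (mat 4 * (mat 2 * (mx 229663755833196858480045)) : M7) = mx 75116863360428790212054 := by decide +kernel
theorem rl28_22 : (mat 16 * (mat 6 * (mx 75116863360428790212054)) : M7) = mx 171761385671065910362383 := by decide +kernel
theorem rl28_21 : (mat 6 * (mat 14 * (mx 171761385671065910362383)) : M7) = mx 80806676154339614982165 := by decide +kernel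
theorem rl28_20 : (mat 8 * (mat 10 * (mx 80806676154339614982165)) : M7) = mx 159054114689362927345801 := by decide +kernel
theorem rl28_19 : (mat 2 * (mat 6 * (mx 159054114689362927345801)) : M7) = mx 198309065096465756847553 := by decide +kernel
theorem rl28_18 : (mat 6 * (mat 4 * (mx 198309065096465756847553)) : M7) = mx 10681965409864471090906 := by decide +kernel
theorem rl28_17 : (mat 14 * (mat 16 * (mx 10681965409864471090906)) : M7) = mx 49515891814057279514305 := by decide +kernel
theorem rl28_16 : (mat 10 * (mat 6 * (mx 49515891814057279514305)) : M7) = mx 8224663784547102008012 := by decide +kernel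
theorem rl28_15 : (mat 6 * (mat 8 * (mx 8224663784547102008012)) : M7) = mx 8264930553795492762866 := by decide +kernel
theorem rl28_14 : (mat 4 * (mat 2 * (mx 8264930553795492762866)) : M7) = mx 7272154604207755219211 := by decide +kernel
theorem rl28_13 : (mat 16 * (mat 6 * (mx 7272154604207755219211)) : M7) = mx 15756805996577221195133 := by decide +kernel
theorem rl28_12 : (mat 6 * (mat 14 * (mx 15756805996577221195133)) : M7) = mx 108812999610616250962907 := by decide +kernel
theorem rl28_11 : (mat 8 * (mat 10 * (mx 108812999610616250962907)) : M7) = mx 121086579719208562861932 := by decide +kernel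
theorem rl28_10 : (mat 2 * (mat 6 * (mx 121086579719208562861932)) : M7) = mx 128188857734603194121460 := by decide +kernel
theorem rl28_9 : (mat 6 * (mat 4 * (mx 128188857734603194121460)) : M7) = mx 76224794179548131250138 := by decide +kernel
theorem rl28_8 : (mat 14 * (mat 16 * (mx 76224794179548131250138)) : M7) = mx 228114599167715485119642 := by decide +kernel
theorem rl28_7 : (mat 10 * (mat 6 * (mx 228114599167715485119642)) : M7) = mx 179858373829521334463853 := by decide +kernel
theorem rl28_6 : (mat 6 * (mat 8 * (mx 179858373829521334463853)) : M7) = mx 179860810390925078786220 := by decide +kernel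
theorem rl28_5 : (mat 4 * (mat 2 * (mx 179860810390925078786220)) : M7) = mx 163102594265003257212141 := by decide +kernel
theorem rl28_4 : (mat 16 * (mat 6 * (mx 163102594265003257212141)) : M7) = mx 188321799746163054548700 := by decide +kernel
theorem rl28_3 : (mat 6 * (mat 14 * (mx 188321799746163054548700)) : M7) = mx 63312488055834455116548 := by decide +kernel
theorem rl28_2 : (mat 8 * (mat 10 * (mx 63312488055834455116548)) : M7) = mx 106367416959680370504406 := by decide +kernel
theorem rl28_1 : (mat 2 * (mat 6 * (mx 106367416959680370504406)) : M7) = mx 56183725936832119404148 := by decide +kernel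
theorem rl28_0 : (mat 6 * (mat 4 * (mx 56183725936832119404148)) : M7) = mx 79778602595634228233767 := by decide +kernel
theorem rl28 : ([6, 4, 2, 6, 8, 10, 6, 14, 16, 6, 4, 2, 6, 8, 10, 6, 14, 16, 6, 4, 2, 6, 8, 10, 6, 14, 16, 6, 4, 2, 6, 8, 10, 6, 14, 16, 6, 4, 2, 6, 8, 10, 6, 14, 16, 6, 4, 2, 6, 8, 10, 6, 14, 16, 6, 4, 2, 6, 8, 10, 6, 14, 16, 6, 4, 2, 6, 8, 10, 6, 14, 16, 6, 4, 2, 6, 8, 10, 6, 14, 16, 6, 4, 2, 6, 8, 10, 6, 14, 16].map mat).prod = 1 := by
  simp only [List.map_cons, List.map_nil, List.prod_cons, List.prod_nil]
  rw [rl28_44, rl28_43, rl28_42, rl28_41, rl28_40, rl28_39, rl28_38, rl28_37, rl28_36, rl28_35, rl28_34, rl28_33, rl28_32, rl28_31, rl28_30, rl28_29, rl28_28, rl28_27, rl28_26, rl28_25, rl28_24, rl28_23, rl28_22, rl28_21, rl28_20, rl28_19, rl28_18, rl28_17, rl28_16, rl28_15, rl28_14, rl28_13, rl28_12, rl28_11, rl28_10, rl28_9, rl28_8, rl28_7, rl28_6, rl28_5, rl28_4, rl28_3, rl28_2, rl28_1, rl28_0, mx_one]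

end Cfsg.Agent.Lib.Helper11.O73M
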