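import Cfsg.Agent.Lib.Helper11.O73MDefs

set_option autoImplicit false
set_option maxRecDepth 100000

namespace Cfsg.Agent.Lib.Helper11.O73M

open Matrix

theorem rl29_31 : (mat 14 * (1) : M7) = mx 106136306372184431108168 := by decide +kernel
theorem rl29_30 : (mat 10 * (mat 12 * (mx 106136306372184431108168)) : M7) = mx 96726255965366093490681 := by decide +kernel
theorem rl29_29 : (mat 6 * (mat 8 * (mx 96726255965366093490681)) : M7) = mx 96617869840540192908258 := by decide +kernel
theorem rl29_28 : (mat 2 * (mat 4 * (mx 96617869840540192908258)) : M7) = mx 139178304376281022567104 := by decide +kernel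
theorem rl29_27 : (mat 12 * (mat 14 * (mx 139178304376281022567104)) : M7) = mx 112396564190447811432288 := by decide +kernel
theorem rl29_26 : (mat 8 * (mat 10 * (mx 112396564190447811432288)) : M7) = mx 49494760366148952691933 := by decide +kernel
theorem rl29_25 : (mat 4 * (mat 6 * (mx 49494760366148952691933)) : M7) = mx 9849964159669054407688 := by decide +kernel
theorem rl29_24 : (mat 14 * (mat 2 * (mx 9849964159669054407688)) : M7) = mx 82421229650020488551521 := by decide +kernel
theorem rl29_23 : (mat 10 * (mat 12 * (mx 82421229650020488551521)) : M7) = mx 59115015792223644193102 := by decide +kernel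
theorem rl29_22 : (mat 6 * (mat 8 * (mx 59115015792223644193102)) : M7) = mx 59123629568014274630926 := by decide +kernel
theorem rl29_21 : (mat 2 * (mat 4 * (mx 59123629568014274630926)) : M7) = mx 231691384244007530006995 := by decide +kernel
theorem rl29_20 : (mat 12 * (mat 14 * (mx 231691384244007530006995)) : M7) = mx 235463655635403058755181 := by decide +kernel
theorem rl29_19 : (mat 8 * (mat 10 * (mx 235463655635403058755181)) : M7) = mx 95663770134740688590372 := by decide +kernel
theorem rl29_18 : (mat 4 * (mat 6 * (mx 95663770134740688590372)) : M7) = mx 169425627287109170840993 := by decide +kernel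
theorem rl29_17 : (mat 14 * (mat 2 * (mx 169425627287109170840993)) : M7) = mx 81459417886388371018730 := by decide +kernel
theorem rl29_16 : (mat 10 * (mat 12 * (mx 81459417886388371018730)) : M7) = mx 11868969979774174154716 := by decide +kernel
theorem rl29_15 : (mat 6 * (mat 8 * (mx 11868969979774174154716)) : M7) = mx 11848822594548498578827 := by decide +kernel
theorem rl29_14 : (mat 2 * (mat 4 * (mx 11848822594548498578827)) : M7) = mx 41467997606630308364530 := by decide +kernel
theorem rl29_13 : (mat 12 * (mat 14 * (mx 41467997606630308364530)) : M7) = mx 193309362544341788108704 := by decide +kernel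
theorem rl29_12 : (mat 8 * (mat 10 * (mx 193309362544341788108704)) : M7) = mx 140905645324135209326081 := by decide +kernel
theorem rl29_11 : (mat 4 * (mat 6 * (mx 140905645324135209326081)) : M7) = mx 31795050623356038257318 := by decide +kernel
theorem rl29_10 : (mat 14 * (mat 2 * (mx 31795050623356038257318)) : M7) = mx 160197494674268338094675 := by decide +kernel
theorem rl29_9 : (mat 10 * (mat 12 * (mx 160197494674268338094675)) : M7) = mx 1977600892788267340322 := by decide +kernel
theorem rl29_8 : (mat 6 * (mat 8 * (mx 1977600892788267340322)) : M7) = mx 2052946249281930184679 := by decide +kernel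
theorem rl29_7 : (mat 2 * (mat 4 * (mx 2052946249281930184679)) : M7) = mx 25692401025783118890740 := by decide +kernel
theorem rl29_6 : (mat 12 * (mat 14 * (mx 25692401025783118890740)) : M7) = mx 26633661908597423152976 := by decide +kernel
theorem rl29_5 : (mat 8 * (mat 10 * (mx 26633661908597423152976)) : M7) = mx 72084603352848697949076 := by decide +kernel
theorem rl29_4 : (mat 4 * (mat 6 * (mx 72084603352848697949076)) : M7) = mx 104600504778048433100007 := by decide +kernel
theorem rl29_3 : (mat 14 * (mat 2 * (mx 104600504778048433100007)) : M7) = mx 229324504204180746252000 := by decide +kernel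
theorem rl29_2 : (mat 10 * (mat 12 * (mx 229324504204180746252000)) : M7) = mx 81827722214853350400172 := by decide +kernel
theorem rl29_1 : (mat 6 * (mat 8 * (mx 81827722214853350400172)) : M7) = mx 81822891528473499440614 := by decide +kernel
theorem rl29_0 : (mat 2 * (mat 4 * (mx 81822891528473499440614)) : M7) = mx 79778602595634228233767 := by decide +kernel
theorem rl29 : ([2, 4, 6, 8, 10, 12, 14, 2, 4, 6, 8, 10, 12, 14, 2, 4, 6, 8, 10, 12, 14, 2, 4, 6, 8, 10, 12, 14, 2, 4, 6, 8, 10, 12, 14, 2, 4, 6, 8, 10, 12, 14, 2, 4, 6, 8, 10, 12, 14, 2, 4, 6, 8, 10, 12, 14, 2, 4, 6, 8, 10, 12, 14].map mat).prod = 1 := by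
  simp only [List.map_cons, List.map_nil, List.prod_cons, List.prod_nil]
  rw [rl29_31, rl29_30, rl29_29, rl29_28, rl29_27, rl29_26, rl29_25, rl29_24, rl29_23, rl29_22, rl29_21, rl29_20, rl29_19, rl29_18, rl29_17, rl29_16, rl29_15, rl29_14, rl29_13, rl29_12, rl29_11, rl29_10, rl29_9, rl29_8, rl29_7, rl29_6, rl29_5, rl29_4, rl29_3, rl29_2, rl29_1, rl29_0, mx_one]

end Cfsg.Agent.Lib.Helper11.O73M
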