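import Cfsg.Agent.Lib.Helper11.O73PT

set_option autoImplicit false
set_option maxRecDepth 1000000
set_option Elab.async false

namespace Cfsg.Agent.Lib.Helper11.O73

open Cfsg.Agent.Lib.Helper11

theorem rel29_0 : PR.allR (PR.fixF [tb2, tb4, tb6, tb8, tb10, tb12, tb14, tb2, tb4, tb6, tb8, tb10, tb12, tb14, tb2, tb4, tb6, tb8, tb10, tb12, tb14, tb2, tb4, tb6, tb8, tb10, tb12, tb14, tb2, tb4, tb6, tb8, tb10, tb12, tb14, tb2, tb4, tb6, tb8, tb10, tb12, tb14, tb2, tb4, tb6, tb8, tb10, tb12, tb14, tb2, tb4, tb6, tb8, tb10, tb12, tb14, tb2, tb4, tb6, tb8, tb10, tb12, tb14]) 0 3159 = true := by decide +kernel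

theorem mp0_0_0 : PR.allR (PR.mapsF [tb2] 0 0) 0 1 = true := by decide +kernel

theorem mp0_1_0 : PR.allR (PR.mapsF [tb4] 0 0) 0 1 = true := by decide +kernel

theorem mp0_2_0 : PR.allR (PR.mapsF [tb6] 0 0) 0 1 = true := by decide +kernel

theorem mp0_3_0 : PR.allR (PR.mapsF [tb8] 0 0) 0 1 = true := by decide +kernel

theorem mp0_4_0 : PR.allR (PR.mapsF [tb10] 0 0) 0 1 = true := by decide +kernel

theorem mp0_5_0 : PR.allR (PR.mapsF [tb12] 0 0) 0 1 = true := by decide +kernel

theorem mp0_6_0 : PR.allR (PR.mapsF [tb14] 0 0) 0 1 = true := by decide +kernel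

theorem mp1_0_0 : PR.allR (PR.mapsF [tb2] 1 288) 1 288 = true := by decide +kernel

theorem mp1_1_0 : PR.allR (PR.mapsF [tb4] 1 288) 1 288 = true := by decide +kernel

theorem mp1_2_0 : PR.allR (PR.mapsF [tb6] 1 288) 1 288 = true := by decide +kernel

theorem mp1_3_0 : PR.allR (PR.mapsF [tb8] 1 288) 1 288 = true := by decide +kernel

theorem mp1_4_0 : PR.allR (PR.mapsF [tb10] 1 288) 1 288 = true := by decide +kernel

theorem mp1_5_0 : PR.allR (PR.mapsF [tb12] 1 288) 1 288 = true := by decide +kernel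

theorem mp1_6_0 : PR.allR (PR.mapsF [tb14] 1 288) 1 288 = true := by decide +kernel

theorem tre1_0 : PR.allR (PR.treeF tbW [[tb2], [tb4], [tb6], [tb8], [tb10], [tb12], [tb14]] 1) 2 287 = true := by decide +kernel

theorem mp2_0_0 : PR.allR (PR.mapsF [tb2] 289 918) 289 630 = true := by decide +kernel

theorem mp2_1_0 : PR.allR (PR.mapsF [tb4] 289 918) 289 630 = true := by decide +kernel

theorem mp2_2_0 : PR.allR (PR.mapsF [tb6] 289 918) 289 630 = true := by decide +kernel

theorem mp2_3_0 : PR.allR (PR.mapsF [tb8] 289 918) 289 630 = true := by decide +kernel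

theorem mp2_4_0 : PR.allR (PR.mapsF [tb10] 289 918) 289 630 = true := by decide +kernel

theorem mp2_5_0 : PR.allR (PR.mapsF [tb12] 289 918) 289 630 = true := by decide +kernel

theorem mp2_6_0 : PR.allR (PR.mapsF [tb14] 289 918) 289 630 = true := by decide +kernel

theorem tre2_0 : PR.allR (PR.treeF tbW [[tb2], [tb4], [tb6], [tb8], [tb10], [tb12], [tb14]] 289) 290 629 = true := by decide +kernel

theorem mp3_0_0 : PR.allR (PR.mapsF [tb2] 919 3158) 919 2240 = true := by decide +kernel

theorem mp3_1_0 : PR.allR (PR.mapsF [tb4] 919 3158) 919 2240 = true := by decide +kernel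

theorem mp3_2_0 : PR.allR (PR.mapsF [tb6] 919 3158) 919 2240 = true := by decide +kernel

theorem mp3_3_0 : PR.allR (PR.mapsF [tb8] 919 3158) 919 2240 = true := by decide +kernel

theorem mp3_4_0 : PR.allR (PR.mapsF [tb10] 919 3158) 919 2240 = true := by decide +kernel

theorem mp3_5_0 : PR.allR (PR.mapsF [tb12] 919 3158) 919 2240 = true := by decide +kernel

theorem mp3_6_0 : PR.allR (PR.mapsF [tb14] 919 3158) 919 2240 = true := by decide +kernel

theorem tre3_0 : PR.allR (PR.treeF tbW [[tb2], [tb4], [tb6], [tb8], [tb10], [tb12], [tb14]] 919) 920 2239 = true := by decide +kernel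

theorem root0 : PR.trace [] 0 = 0 := by decide +kernel

theorem root1 : PR.trace [tb16] 0 = 1 := by decide +kernel

theorem root2 : PR.trace [tb16, tb14, tb6, tb4, tb8, tb6, tb14, tb16] 0 = 289 := by decide +kernel

theorem root3 : PR.trace [tb16, tb14, tb6, tb4, tb2, tb8, tb6, tb4, tb10, tb8, tb6, tb14, tb16] 0 = 919 := by decide +kernel

end Cfsg.Agent.Lib.Helper11.O73
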