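import Cfsg.Agent.Lib.Helper11.ONaPT

set_option autoImplicit false
set_option maxRecDepth 1000000
set_option Elab.async false

namespace Cfsg.Agent.Lib.Helper11.ONa

open Cfsg.Agent.Lib.Helper11

theorem rng0_0 : PR.allR (PR.mapsF [tb0] 0 122759) 0 40000 = true := by decide +kernel

theorem rng0_1 : PR.allR (PR.mapsF [tb0] 0 122759) 40000 40000 = true := by decide +kernel

theorem rng0_2 : PR.allR (PR.mapsF [tb0] 0 122759) 80000 40000 = true := by decide +kernel

theorem rng0_3 : PR.allR (PR.mapsF [tb0] 0 122759) 120000 2760 = true := by decide +kernel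

theorem sq0_0 : PR.allR (PR.fixF [tb0, tb1]) 0 40000 = true := by decide +kernel

theorem sq0_1 : PR.allR (PR.fixF [tb0, tb1]) 40000 40000 = true := by decide +kernel

theorem sq0_2 : PR.allR (PR.fixF [tb0, tb1]) 80000 40000 = true := by decide +kernel

theorem sq0_3 : PR.allR (PR.fixF [tb0, tb1]) 120000 2760 = true := by decide +kernel

theorem rng1_0 : PR.allR (PR.mapsF [tb1] 0 122759) 0 40000 = true := by decide +kernel

theorem rng1_1 : PR.allR (PR.mapsF [tb1] 0 122759) 40000 40000 = true := by decide +kernel

theorem rng1_2 : PR.allR (PR.mapsF [tb1] 0 122759) 80000 40000 = true := by decide +kernel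

theorem rng1_3 : PR.allR (PR.mapsF [tb1] 0 122759) 120000 2760 = true := by decide +kernel

theorem sq1_0 : PR.allR (PR.fixF [tb1, tb0]) 0 40000 = true := by decide +kernel

theorem sq1_1 : PR.allR (PR.fixF [tb1, tb0]) 40000 40000 = true := by decide +kernel

theorem sq1_2 : PR.allR (PR.fixF [tb1, tb0]) 80000 40000 = true := by decide +kernel

theorem sq1_3 : PR.allR (PR.fixF [tb1, tb0]) 120000 2760 = true := by decide +kernel

theorem rng2_0 : PR.allR (PR.mapsF [tb2] 0 122759) 0 40000 = true := by decide +kernel

theorem rng2_1 : PR.allR (PR.mapsF [tb2] 0 122759) 40000 40000 = true := by decide +kernel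

theorem rng2_2 : PR.allR (PR.mapsF [tb2] 0 122759) 80000 40000 = true := by decide +kernel

theorem rng2_3 : PR.allR (PR.mapsF [tb2] 0 122759) 120000 2760 = true := by decide +kernel

theorem sq2_0 : PR.allR (PR.fixF [tb2, tb2]) 0 40000 = true := by decide +kernel

theorem sq2_1 : PR.allR (PR.fixF [tb2, tb2]) 40000 40000 = true := by decide +kernel

theorem sq2_2 : PR.allR (PR.fixF [tb2, tb2]) 80000 40000 = true := by decide +kernel

theorem sq2_3 : PR.allR (PR.fixF [tb2, tb2]) 120000 2760 = true := by decide +kernel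

theorem rng4_0 : PR.allR (PR.mapsF [tb4] 0 122759) 0 40000 = true := by decide +kernel

theorem rng4_1 : PR.allR (PR.mapsF [tb4] 0 122759) 40000 40000 = true := by decide +kernel

theorem rng4_2 : PR.allR (PR.mapsF [tb4] 0 122759) 80000 40000 = true := by decide +kernel

theorem rng4_3 : PR.allR (PR.mapsF [tb4] 0 122759) 120000 2760 = true := by decide +kernel

theorem sq4_0 : PR.allR (PR.fixF [tb4, tb4]) 0 40000 = true := by decide +kernel

theorem sq4_1 : PR.allR (PR.fixF [tb4, tb4]) 40000 40000 = true := by decide +kernel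

theorem sq4_2 : PR.allR (PR.fixF [tb4, tb4]) 80000 40000 = true := by decide +kernel

theorem sq4_3 : PR.allR (PR.fixF [tb4, tb4]) 120000 2760 = true := by decide +kernel

theorem rng6_0 : PR.allR (PR.mapsF [tb6] 0 122759) 0 40000 = true := by decide +kernel

theorem rng6_1 : PR.allR (PR.mapsF [tb6] 0 122759) 40000 40000 = true := by decide +kernel

theorem rng6_2 : PR.allR (PR.mapsF [tb6] 0 122759) 80000 40000 = true := by decide +kernel

theorem rng6_3 : PR.allR (PR.mapsF [tb6] 0 122759) 120000 2760 = true := by decide +kernel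

theorem sq6_0 : PR.allR (PR.fixF [tb6, tb6]) 0 40000 = true := by decide +kernel

theorem sq6_1 : PR.allR (PR.fixF [tb6, tb6]) 40000 40000 = true := by decide +kernel

theorem sq6_2 : PR.allR (PR.fixF [tb6, tb6]) 80000 40000 = true := by decide +kernel

theorem sq6_3 : PR.allR (PR.fixF [tb6, tb6]) 120000 2760 = true := by decide +kernel

theorem rng8_0 : PR.allR (PR.mapsF [tb8] 0 122759) 0 40000 = true := by decide +kernel

theorem rng8_1 : PR.allR (PR.mapsF [tb8] 0 122759) 40000 40000 = true := by decide +kernel

theorem rng8_2 : PR.allR (PR.mapsF [tb8] 0 122759) 80000 40000 = true := by decide +kernel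

theorem rng8_3 : PR.allR (PR.mapsF [tb8] 0 122759) 120000 2760 = true := by decide +kernel

theorem sq8_0 : PR.allR (PR.fixF [tb8, tb8]) 0 40000 = true := by decide +kernel

theorem sq8_1 : PR.allR (PR.fixF [tb8, tb8]) 40000 40000 = true := by decide +kernel

theorem sq8_2 : PR.allR (PR.fixF [tb8, tb8]) 80000 40000 = true := by decide +kernel

theorem sq8_3 : PR.allR (PR.fixF [tb8, tb8]) 120000 2760 = true := by decide +kernel

theorem rng10_0 : PR.allR (PR.mapsF [tb10] 0 122759) 0 40000 = true := by decide +kernel

theorem rng10_1 : PR.allR (PR.mapsF [tb10] 0 122759) 40000 40000 = true := by decide +kernel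

theorem rng10_2 : PR.allR (PR.mapsF [tb10] 0 122759) 80000 40000 = true := by decide +kernel

theorem rng10_3 : PR.allR (PR.mapsF [tb10] 0 122759) 120000 2760 = true := by decide +kernel

theorem sq10_0 : PR.allR (PR.fixF [tb10, tb10]) 0 40000 = true := by decide +kernel

theorem sq10_1 : PR.allR (PR.fixF [tb10, tb10]) 40000 40000 = true := by decide +kernel

theorem sq10_2 : PR.allR (PR.fixF [tb10, tb10]) 80000 40000 = true := by decide +kernel

theorem sq10_3 : PR.allR (PR.fixF [tb10, tb10]) 120000 2760 = true := by decide +kernel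

theorem rng12_0 : PR.allR (PR.mapsF [tb12] 0 122759) 0 40000 = true := by decide +kernel

theorem rng12_1 : PR.allR (PR.mapsF [tb12] 0 122759) 40000 40000 = true := by decide +kernel

theorem rng12_2 : PR.allR (PR.mapsF [tb12] 0 122759) 80000 40000 = true := by decide +kernel

theorem rng12_3 : PR.allR (PR.mapsF [tb12] 0 122759) 120000 2760 = true := by decide +kernel

theorem sq12_0 : PR.allR (PR.fixF [tb12, tb12]) 0 40000 = true := by decide +kernel

theorem sq12_1 : PR.allR (PR.fixF [tb12, tb12]) 40000 40000 = true := by decide +kernel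

theorem sq12_2 : PR.allR (PR.fixF [tb12, tb12]) 80000 40000 = true := by decide +kernel

theorem sq12_3 : PR.allR (PR.fixF [tb12, tb12]) 120000 2760 = true := by decide +kernel

theorem rel0_0 : PR.allR (PR.fixF [tb2, tb4, tb2, tb4, tb2, tb4]) 0 40000 = true := by decide +kernel

end Cfsg.Agent.Lib.Helper11.ONa
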