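import Cfsg.Agent.Lib.Helper11.ONaPT

set_option autoImplicit false
set_option maxRecDepth 1000000
set_option Elab.async false

namespace Cfsg.Agent.Lib.Helper11.ONa

open Cfsg.Agent.Lib.Helper11

theorem rel21_3 : PR.allR (PR.fixF [tb0, tb10, tb8, tb0, tb8, tb10, tb0, tb10, tb8, tb0, tb8]) 109089 13671 = true := by decide +kernel

theorem mp0_0_0 : PR.allR (PR.mapsF [tb2] 0 0) 0 1 = true := by decide +kernel

theorem mp0_1_0 : PR.allR (PR.mapsF [tb4] 0 0) 0 1 = true := by decide +kernel

theorem mp0_2_0 : PR.allR (PR.mapsF [tb6] 0 0) 0 1 = true := by decide +kernel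

theorem mp0_3_0 : PR.allR (PR.mapsF [tb8] 0 0) 0 1 = true := by decide +kernel

theorem mp0_4_0 : PR.allR (PR.mapsF [tb10] 0 0) 0 1 = true := by decide +kernel

theorem mp0_5_0 : PR.allR (PR.mapsF [tb12] 0 0) 0 1 = true := by decide +kernel

theorem mp1_0_0 : PR.allR (PR.mapsF [tb2] 1 58653) 1 40000 = true := by decide +kernel

theorem mp1_0_1 : PR.allR (PR.mapsF [tb2] 1 58653) 40001 18653 = true := by decide +kernel

theorem mp1_1_0 : PR.allR (PR.mapsF [tb4] 1 58653) 1 40000 = true := by decide +kernel

theorem mp1_1_1 : PR.allR (PR.mapsF [tb4] 1 58653) 40001 18653 = true := by decide +kernel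

theorem mp1_2_0 : PR.allR (PR.mapsF [tb6] 1 58653) 1 40000 = true := by decide +kernel

theorem mp1_2_1 : PR.allR (PR.mapsF [tb6] 1 58653) 40001 18653 = true := by decide +kernel

theorem mp1_3_0 : PR.allR (PR.mapsF [tb8] 1 58653) 1 40000 = true := by decide +kernel

theorem mp1_3_1 : PR.allR (PR.mapsF [tb8] 1 58653) 40001 18653 = true := by decide +kernel

theorem mp1_4_0 : PR.allR (PR.mapsF [tb10] 1 58653) 1 40000 = true := by decide +kernel

theorem mp1_4_1 : PR.allR (PR.mapsF [tb10] 1 58653) 40001 18653 = true := by decide +kernel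

theorem mp1_5_0 : PR.allR (PR.mapsF [tb12] 1 58653) 1 40000 = true := by decide +kernel

theorem mp1_5_1 : PR.allR (PR.mapsF [tb12] 1 58653) 40001 18653 = true := by decide +kernel

theorem tre1_0 : PR.allR (PR.treeF tbW [[tb2], [tb4], [tb6], [tb8], [tb10], [tb12]] 1) 2 40000 = true := by decide +kernel

theorem tre1_1 : PR.allR (PR.treeF tbW [[tb2], [tb4], [tb6], [tb8], [tb10], [tb12]] 1) 40002 18652 = true := by decide +kernel

theorem mp2_0_0 : PR.allR (PR.mapsF [tb2] 58654 110789) 58654 40000 = true := by decide +kernel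

theorem mp2_0_1 : PR.allR (PR.mapsF [tb2] 58654 110789) 98654 12136 = true := by decide +kernel

theorem mp2_1_0 : PR.allR (PR.mapsF [tb4] 58654 110789) 58654 40000 = true := by decide +kernel

theorem mp2_1_1 : PR.allR (PR.mapsF [tb4] 58654 110789) 98654 12136 = true := by decide +kernel

theorem mp2_2_0 : PR.allR (PR.mapsF [tb6] 58654 110789) 58654 40000 = true := by decide +kernel

theorem mp2_2_1 : PR.allR (PR.mapsF [tb6] 58654 110789) 98654 12136 = true := by decide +kernel

theorem mp2_3_0 : PR.allR (PR.mapsF [tb8] 58654 110789) 58654 40000 = true := by decide +kernel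

theorem mp2_3_1 : PR.allR (PR.mapsF [tb8] 58654 110789) 98654 12136 = true := by decide +kernel

theorem mp2_4_0 : PR.allR (PR.mapsF [tb10] 58654 110789) 58654 40000 = true := by decide +kernel

theorem mp2_4_1 : PR.allR (PR.mapsF [tb10] 58654 110789) 98654 12136 = true := by decide +kernel

theorem mp2_5_0 : PR.allR (PR.mapsF [tb12] 58654 110789) 58654 40000 = true := by decide +kernel

theorem mp2_5_1 : PR.allR (PR.mapsF [tb12] 58654 110789) 98654 12136 = true := by decide +kernel

theorem tre2_0 : PR.allR (PR.treeF tbW [[tb2], [tb4], [tb6], [tb8], [tb10], [tb12]] 58654) 58655 40000 = true := by decide +kernel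

theorem tre2_1 : PR.allR (PR.treeF tbW [[tb2], [tb4], [tb6], [tb8], [tb10], [tb12]] 58654) 98655 12135 = true := by decide +kernel

theorem mp3_0_0 : PR.allR (PR.mapsF [tb2] 110790 116375) 110790 5586 = true := by decide +kernel

theorem mp3_1_0 : PR.allR (PR.mapsF [tb4] 110790 116375) 110790 5586 = true := by decide +kernel

theorem mp3_2_0 : PR.allR (PR.mapsF [tb6] 110790 116375) 110790 5586 = true := by decide +kernel

theorem mp3_3_0 : PR.allR (PR.mapsF [tb8] 110790 116375) 110790 5586 = true := by decide +kernel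

theorem mp3_4_0 : PR.allR (PR.mapsF [tb10] 110790 116375) 110790 5586 = true := by decide +kernel

theorem mp3_5_0 : PR.allR (PR.mapsF [tb12] 110790 116375) 110790 5586 = true := by decide +kernel

theorem tre3_0 : PR.allR (PR.treeF tbW [[tb2], [tb4], [tb6], [tb8], [tb10], [tb12]] 110790) 110791 5585 = true := by decide +kernel

theorem mp4_0_0 : PR.allR (PR.mapsF [tb2] 116376 122759) 116376 6384 = true := by decide +kernel

theorem mp4_1_0 : PR.allR (PR.mapsF [tb4] 116376 122759) 116376 6384 = true := by decide +kernel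

theorem mp4_2_0 : PR.allR (PR.mapsF [tb6] 116376 122759) 116376 6384 = true := by decide +kernel

theorem mp4_3_0 : PR.allR (PR.mapsF [tb8] 116376 122759) 116376 6384 = true := by decide +kernel

theorem mp4_4_0 : PR.allR (PR.mapsF [tb10] 116376 122759) 116376 6384 = true := by decide +kernel

theorem mp4_5_0 : PR.allR (PR.mapsF [tb12] 116376 122759) 116376 6384 = true := by decide +kernel

theorem tre4_0 : PR.allR (PR.treeF tbW [[tb2], [tb4], [tb6], [tb8], [tb10], [tb12]] 116376) 116377 6383 = true := by decide +kernel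

theorem root0 : PR.trace [] 0 = 0 := by decide +kernel

theorem root1 : PR.trace [tb0] 0 = 1 := by decide +kernel

theorem root2 : PR.trace [tb0, tb4, tb0] 0 = 58654 := by decide +kernel

theorem root3 : PR.trace [tb0, tb6, tb0] 0 = 110790 := by decide +kernel

theorem root4 : PR.trace [tb0, tb4, tb8, tb0] 0 = 116376 := by decide +kernel

end Cfsg.Agent.Lib.Helper11.ONa
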