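/-! Definitions for checking permutation representations given by tables (no imports). -/

set_option autoImplicit false

namespace Cfsg.Agent.Lib.Helper11.PR

/-- apply the tables of a word one after the other (first letter first). -/
noncomputable def trace (Ts : List (Nat → Nat)) : Nat → Nat :=
  List.rec (motive := fun _ => Nat → Nat) (fun u => u) (fun T _ ih u => ih (T u)) Ts

/-- `f` holds on `lo, …, lo+m-1`. -/
noncomputable def allR (f : Nat → Bool) (lo m : Nat) : Bool :=
  Nat.rec true (fun i ih => Bool.rec false ih (f (Nat.add lo i))) m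

noncomputable def fixF (Ts : List (Nat → Nat)) (u : Nat) : Bool := Nat.beq (trace Ts u) u

noncomputable def mapsF (Ts : List (Nat → Nat)) (a bm1 : Nat) (u : Nat) : Bool :=
  (fun v => Bool.rec false (Nat.ble v bm1) (Nat.ble a v)) (trace Ts u)

noncomputable def nthW (l : List (List (Nat → Nat))) : Nat → List (Nat → Nat) :=
  List.rec (motive := fun _ => Nat → List (Nat → Nat)) (fun _ => [])
    (fun a _ ih i => Nat.rec a (fun j _ => ih j) i) l

/-- `W u = p * 16 + j`: the point `u` is the image of the smaller point `p ≥ a` under the word `j`. -/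
noncomputable def treeF (W : Nat → Nat) (ws : List (List (Nat → Nat))) (a : Nat) (u : Nat) : Bool :=
  (fun e => (fun p => Bool.rec false (Bool.rec false
      (Nat.beq (trace (nthW ws (Nat.land e 15)) p) u) (Nat.ble (Nat.succ p) u)) (Nat.ble a p))
    (Nat.shiftRight e 4)) (W u)

/-- lookup in a packed table with 16-bit entries -/
def lk16 (T i : Nat) : Nat := Nat.land (Nat.shiftRight T (Nat.mul i 16)) 65535

/-- lookup in a packed table with 24-bit entries -/
def lk24 (T i : Nat) : Nat := Nat.land (Nat.shiftRight T (Nat.mul i 24)) 16777215

end Cfsg.Agent.Lib.Helper11.PR
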