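import Cfsg.Agent.Lib.Helper11.TCCore

/-! # Coset enumeration certificates: application to groups -/

set_option autoImplicit false

namespace Cfsg.Agent.Lib.Helper11.TC

/-- value of a word -/
def ev {G : Type*} [Group G] (gen : ℕ → G) (w : List ℕ) : G := (w.map gen).prod

@[simp] theorem ev_nil {G : Type*} [Group G] (gen : ℕ → G) : ev gen [] = 1 := rfl
@[simp] theorem ev_cons {G : Type*} [Group G] (gen : ℕ → G) (l : ℕ) (w : List ℕ) :
    ev gen (l :: w) = gen l * ev gen w := by simp [ev]

/-- the (right) action of a letter on the left cosets. -/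
def cact {G : Type*} [Group G] (H : Subgroup G) (gen : ℕ → G) (l : ℕ) (q : G ⧸ H) : G ⧸ H :=
  (gen l)⁻¹ • q

theorem actW_cact {G : Type*} [Group G] (H : Subgroup G) (gen : ℕ → G) (w : List ℕ) (q : G ⧸ H) :
    actW (cact H gen) w q = (ev gen w)⁻¹ • q := by
  induction w generalizing q with
  | nil => simp
  | cons l w ih =>
    rw [actW_cons, ih, ev_cons, mul_inv_rev, mul_smul]; rfl

/-- rotation test -/
def isRot (r w : List ℕ) : Bool :=
  r.length == w.length && (List.range r.length).any (fun j => r.rotate j == w)

/-- Computable test for an admissible word. -/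
def admCheck (inv : ℕ → ℕ) (rels subs : List (List ℕ)) (a : Adm) : Bool :=
  a.2.2.2.all (fun e => decide (e.1 < 32) && decide (inv e.1 < 32) && (e.2 == inv e.1 * 1048576)) &&
  (match a.1 with
   | false =>
      (match (a.2.1 :: a.2.2.2.map Prod.fst).filter (fun l => l != 31) with
       | [] => true
       | [x, y] => (y == inv x) || rels.any (fun r => isRot r [x, y])
       | w0 => rels.any (fun r => isRot r w0))
   | true => (a.2.1 == 31) && subs.any (fun s => s == (a.2.2.2.map Prod.fst).filter (fun l => l != 31)))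

theorem ev_filter {G : Type*} [Group G] (gen : ℕ → G) (h31 : gen 31 = 1) (w : List ℕ) :
    ev gen (w.filter (fun l => l != 31)) = ev gen w := by
  induction w with
  | nil => rfl
  | cons l w ih =>
    by_cases h : l = 31
    · subst h; simp [h31, ih]
    · rw [List.filter_cons_of_pos (by simpa using h)]; simp [ih]

theorem ev_of_isRot {G : Type*} [Group G] (gen : ℕ → G) (r w : List ℕ) (h : isRot r w = true)
    (hr : ev gen r = 1) : ev gen w = 1 := by
  unfold isRot at h
  simp only [Bool.and_eq_true, List.any_eq_true, beq_iff_eq] at h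
  obtain ⟨_, j, _, hj⟩ := h
  rw [← hj]
  unfold ev at hr ⊢
  rw [List.map_rotate]
  exact List.prod_rotate_eq_one_of_prod_eq_one hr j

theorem ev_of_any_isRot {G : Type*} [Group G] (gen : ℕ → G) (rels : List (List ℕ)) (w : List ℕ)
    (h : rels.any (fun r => isRot r w) = true) (hr : ∀ r ∈ rels, ev gen r = 1) : ev gen w = 1 := by
  simp only [List.any_eq_true] at h
  obtain ⟨r, hrm, hrw⟩ := h
  exact ev_of_isRot gen r w hrw (hr r hrm)

theorem admOK_of_check {G : Type*} [Group G] (H : Subgroup G) (gen : ℕ → G) (inv : ℕ → ℕ)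
    (rels subs : List (List ℕ)) (h31 : gen 31 = 1) (hinv : ∀ l, gen (inv l) = (gen l)⁻¹)
    (hrel : ∀ r ∈ rels, ev gen r = 1) (hsub : ∀ s ∈ subs, ev gen s ∈ H) (a : Adm)
    (h : admCheck inv rels subs a = true) : AdmOK (cact H gen) ((1 : G) : G ⧸ H) a := by
  obtain ⟨z, ey, st, w⟩ := a
  unfold admCheck at h
  simp only [Bool.and_eq_true, List.all_eq_true, decide_eq_true_eq, beq_iff_eq] at h
  obtain ⟨hp, h⟩ := h
  refine ⟨?_, ?_⟩
  · intro e he
    obtain ⟨⟨h1, h2⟩, h3⟩ := hp e he
    refine ⟨h1, inv e.1, h2, h3, ?_, ?_⟩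
    · intro x; simp [cact, hinv]
    · intro x; simp [cact, hinv]
  · cases z with
    | false =>
      left
      refine ⟨rfl, ?_⟩
      intro x
      rw [actW_cact]
      have key : ev gen (ey :: w.map Prod.fst) = 1 := by
        rw [← ev_filter gen h31]
        simp only at h
        split at h
        · next h0 => rw [h0]; rfl
        · next x y h0 =>
          rw [h0]
          simp only [Bool.or_eq_true, beq_iff_eq] at h
          rcases h with h | h
          · subst h; simp [hinv]
          · exact ev_of_any_isRot gen rels _ h hrel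
        · exact ev_of_any_isRot gen rels _ h hrel
      simp only at key ⊢
      rw [key]; simp
    | true =>
      right
      simp only [Bool.and_eq_true, beq_iff_eq, List.any_eq_true] at h
      obtain ⟨h1, s, hs, hsw⟩ := h
      refine ⟨rfl, h1, ?_⟩
      rw [actW_cact]
      have : ev gen (w.map Prod.fst) ∈ H := by
        rw [← ev_filter gen h31, ← hsw]; exact hsub s hs
      simp only
      rw [MulAction.Quotient.smul_mk, QuotientGroup.eq]
      simpa using this

theorem cact_31 {G : Type*} [Group G] (H : Subgroup G) (gen : ℕ → G) (h31 : gen 31 = 1)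
    (x : G ⧸ H) : cact H gen 31 x = x := by simp [cact, h31]

/-- If finitely many cosets containing `H` are permuted by a generating set, they are all cosets. -/
theorem index_le_of_closed {G : Type*} [Group G] (H : Subgroup G) (κ : ℕ → G ⧸ H) (n : ℕ)
    (hn : 0 < n) (h0 : κ 0 = ((1 : G) : G ⧸ H)) (S : Set G) (hS : Submonoid.closure S = ⊤)
    (hcl : ∀ g ∈ S, ∀ u < n, ∃ v < n, g • κ u = κ v) :
    Function.Surjective (fun u : Fin n => κ u) := by
  have key : ∀ g : G, ∀ u < n, ∃ v < n, g • κ u = κ v := by
    intro g
    have hg : g ∈ Submonoid.closure S := by rw [hS]; trivial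
    induction hg using Submonoid.closure_induction with
    | mem x hx => exact hcl x hx
    | one => intro u hu; exact ⟨u, hu, one_smul _ _⟩
    | mul x y _ _ hx hy =>
      intro u hu
      obtain ⟨v, hv, hvy⟩ := hy u hu
      obtain ⟨t, ht, htx⟩ := hx v hv
      exact ⟨t, ht, by rw [mul_smul, hvy, htx]⟩
  intro q
  induction q using QuotientGroup.induction_on with
  | H g =>
    obtain ⟨v, hv, hvg⟩ := key g 0 hn
    refine ⟨⟨v, hv⟩, ?_⟩
    simp only
    rw [← hvg, h0, MulAction.Quotient.smul_mk]; simp

theorem index_le_of_surj {G : Type*} [Group G] (H : Subgroup G) (κ : ℕ → G ⧸ H) (n : ℕ)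
    (h : Function.Surjective (fun u : Fin n => κ u)) : H.index ≤ n ∧ H.index ≠ 0 := by
  have : Finite (G ⧸ H) := Finite.of_surjective _ h
  constructor
  · have := Nat.card_le_card_of_surjective _ h
    simpa [Subgroup.index] using this
  · have : H.FiniteIndex := Subgroup.finiteIndex_of_finite_quotient
    exact Subgroup.FiniteIndex.index_ne_zero

end Cfsg.Agent.Lib.Helper11.TC
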