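import Mathlib
import Cfsg.Agent.Lib.Helper11.PRDefs
import Cfsg.Agent.Lib.Helper11.TCGroup

/-! # Permutation representations given by tables: soundness -/

set_option autoImplicit false

namespace Cfsg.Agent.Lib.Helper11.PR

open Cfsg.Agent.Lib.Helper11.TC (ev brf)

@[simp] theorem trace_nil (u : ℕ) : trace [] u = u := rfl
@[simp] theorem trace_cons (T : ℕ → ℕ) (Ts : List (ℕ → ℕ)) (u : ℕ) :
    trace (T :: Ts) u = trace Ts (T u) := rfl

theorem trace_append (A B : List (ℕ → ℕ)) (u : ℕ) : trace (A ++ B) u = trace B (trace A u) := by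
  induction A generalizing u with
  | nil => rfl
  | cons T A ih => simp [ih]

theorem allR_succ (f : ℕ → Bool) (lo m : ℕ) :
    allR f lo (m + 1) = Bool.rec false (allR f lo m) (f (Nat.add lo m)) := rfl

theorem allR_sound (f : ℕ → Bool) (lo m : ℕ) (h : allR f lo m = true) :
    ∀ u, lo ≤ u → u < lo + m → f u = true := by
  induction m with
  | zero => intro u h1 h2; omega
  | succ m ih =>
    rw [allR_succ] at h
    simp only [brf] at h
    intro u h1 h2
    by_cases hu : u < lo + m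
    · exact ih h.2 u h1 hu
    · have : u = lo + m := by omega
      subst this; exact h.1

/-- chaining of ranges -/
theorem allR_chain (f : ℕ → Bool) (a lo m : ℕ) (h : allR f lo m = true)
    (hp : ∀ u, a ≤ u → u < lo → f u = true) : ∀ u, a ≤ u → u < lo + m → f u = true := by
  intro u h1 h2
  by_cases hu : u < lo
  · exact hp u h1 hu
  · exact allR_sound f lo m h u (by omega) h2

theorem fixF_iff (Ts : List (ℕ → ℕ)) (u : ℕ) : fixF Ts u = true ↔ trace Ts u = u := by
  unfold fixF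
  constructor
  · exact Nat.eq_of_beq_eq_true
  · intro h; rw [h]; exact Nat.beq_refl u

theorem mapsF_iff (Ts : List (ℕ → ℕ)) (a bm1 u : ℕ) :
    mapsF Ts a bm1 u = true ↔ a ≤ trace Ts u ∧ trace Ts u ≤ bm1 := by
  unfold mapsF
  simp only [brf]
  constructor
  · rintro ⟨h1, h2⟩; exact ⟨Nat.le_of_ble_eq_true h1, Nat.le_of_ble_eq_true h2⟩
  · rintro ⟨h1, h2⟩; exact ⟨Nat.ble_eq_true_of_le h1, Nat.ble_eq_true_of_le h2⟩

theorem nthW_mem (l : List (List (ℕ → ℕ))) (i : ℕ) : nthW l i = [] ∨ nthW l i ∈ l := by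
  induction l generalizing i with
  | nil => left; rfl
  | cons a l ih =>
    cases i with
    | zero => right; exact List.mem_cons_self
    | succ j =>
      have : nthW (a :: l) (j + 1) = nthW l j := rfl
      rw [this]
      rcases ih j with h | h
      · left; exact h
      · right; exact List.mem_cons_of_mem _ h

theorem treeF_sound (W : ℕ → ℕ) (ws : List (List (ℕ → ℕ))) (a u : ℕ) (h : treeF W ws a u = true) :
    ∃ s ∈ ws, ∃ p, a ≤ p ∧ p < u ∧ trace s p = u := by
  unfold treeF at h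
  simp only [brf] at h
  obtain ⟨h1, h2, h3⟩ := h
  have h1 := Nat.le_of_ble_eq_true h1
  have h2 : _ < u := Nat.le_of_ble_eq_true h2
  have h3 := Nat.eq_of_beq_eq_true h3
  rcases nthW_mem ws (Nat.land (W u) 15) with h0 | h0
  · rw [h0] at h3
    simp only [trace_nil] at h3
    omega
  · exact ⟨_, h0, _, h1, h2, h3⟩

/-! ### permutations from tables -/

/-- the permutation of `Fin n` with table `f` and inverse table `g` (the identity if they are not). -/
noncomputable def mkPerm (n : ℕ) (f g : ℕ → ℕ) : Equiv.Perm (Fin n) :=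
  open Classical in
  if h : (∀ u < n, f u < n) ∧ (∀ u < n, g u < n) ∧ (∀ u < n, g (f u) = u) ∧ (∀ u < n, f (g u) = u) then
    ⟨fun u => ⟨f u, h.1 u u.2⟩, fun u => ⟨g u, h.2.1 u u.2⟩,
      fun u => Fin.ext (h.2.2.1 u u.2), fun u => Fin.ext (h.2.2.2 u u.2)⟩
  else 1

theorem mkPerm_apply (n : ℕ) (f g : ℕ → ℕ)
    (h : (∀ u < n, f u < n) ∧ (∀ u < n, g u < n) ∧ (∀ u < n, g (f u) = u) ∧ (∀ u < n, f (g u) = u))
    (u : Fin n) : ((mkPerm n f g u : Fin n) : ℕ) = f u := by
  unfold mkPerm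
  rw [dif_pos h]; rfl

/-- Verified facts about the tables. -/
structure Tables (n : ℕ) (tbl : ℕ → ℕ → ℕ) (inv : ℕ → ℕ) (Ls : List ℕ) : Prop where
  range : ∀ l ∈ Ls, ∀ u < n, tbl l u < n
  invm : ∀ l ∈ Ls, inv l ∈ Ls
  invl : ∀ l ∈ Ls, ∀ u < n, tbl (inv l) (tbl l u) = u
  invr : ∀ l ∈ Ls, ∀ u < n, tbl l (tbl (inv l) u) = u

/-- the image of the letter `l` in the symmetric group: its inverse has table `tbl l`. -/
noncomputable def pg (n : ℕ) (tbl : ℕ → ℕ → ℕ) (inv : ℕ → ℕ) (Ls : List ℕ) (l : ℕ) : Equiv.Perm (Fin n) :=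
  open Classical in if l ∈ Ls then (mkPerm n (tbl l) (tbl (inv l)))⁻¹ else 1

section
variable {n : ℕ} {tbl : ℕ → ℕ → ℕ} {inv : ℕ → ℕ} {Ls : List ℕ}

theorem pg_inv_apply (hT : Tables n tbl inv Ls) (l : ℕ) (hl : l ∈ Ls) (u : Fin n) :
    (((pg n tbl inv Ls l)⁻¹ u : Fin n) : ℕ) = tbl l u := by
  unfold pg
  rw [if_pos hl, inv_inv]
  exact mkPerm_apply n _ _ ⟨hT.range l hl, hT.range _ (hT.invm l hl), hT.invl l hl, hT.invr l hl⟩ u

theorem trace_lt (hT : Tables n tbl inv Ls) (w : List ℕ) (hw : ∀ l ∈ w, l ∈ Ls) (u : ℕ) (hu : u < n) :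
    trace (w.map tbl) u < n := by
  induction w generalizing u with
  | nil => exact hu
  | cons l w ih =>
    simp only [List.map_cons, trace_cons]
    exact ih (fun l' hl' => hw l' (List.mem_cons_of_mem _ hl')) _ (hT.range l (hw l List.mem_cons_self) u hu)

theorem ev_pg_inv_apply (hT : Tables n tbl inv Ls) (w : List ℕ) (hw : ∀ l ∈ w, l ∈ Ls) (u : Fin n) :
    ((((ev (pg n tbl inv Ls) w)⁻¹ : Equiv.Perm (Fin n)) u : Fin n) : ℕ) = trace (w.map tbl) u := by
  induction w generalizing u with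
  | nil => simp
  | cons l w ih =>
    rw [TC.ev_cons, mul_inv_rev, Equiv.Perm.mul_apply,
      ih (fun l' hl' => hw l' (List.mem_cons_of_mem _ hl')), pg_inv_apply hT l (hw l List.mem_cons_self)]
    rfl

theorem ev_pg_eq_one (hT : Tables n tbl inv Ls) (w : List ℕ) (hw : ∀ l ∈ w, l ∈ Ls)
    (h : ∀ u < n, trace (w.map tbl) u = u) : ev (pg n tbl inv Ls) w = 1 := by
  rw [← inv_eq_one]
  ext u
  rw [ev_pg_inv_apply hT w hw, h u u.2]; rfl

theorem pg_inv (hT : Tables n tbl inv Ls) (l : ℕ) (hl : l ∈ Ls) :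
    pg n tbl inv Ls (inv l) = (pg n tbl inv Ls l)⁻¹ := by
  have : ev (pg n tbl inv Ls) [l, inv l] = 1 := by
    apply ev_pg_eq_one hT
    · intro l' hl'
      simp only [List.mem_cons, List.mem_nil_iff, or_false] at hl'
      rcases hl' with rfl | rfl
      · exact hl
      · exact hT.invm _ hl
    · intro u hu
      simpa using hT.invl l hl u hu
  simp only [TC.ev_cons, TC.ev_nil, mul_one] at this
  exact (inv_eq_of_mul_eq_one_right this).symm

end

/-! ### abstract lemmas on actions -/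

theorem index_eq_of_le_stabilizer {G X : Type*} [Group G] [MulAction G X] (H : Subgroup G) (x0 : X)
    (hH : H ≤ MulAction.stabilizer G x0) (n : ℕ) (horb : (MulAction.orbit G x0).ncard = n)
    (hidx : H.index ≤ n) (h0 : H.index ≠ 0) : H.index = n ∧ H = MulAction.stabilizer G x0 := by
  have h1 : (MulAction.stabilizer G x0).index = n := by rw [MulAction.index_stabilizer, horb]
  have h2 := Subgroup.relIndex_mul_index hH
  rw [h1] at h2
  have hn : 0 < n := by
    rcases Nat.eq_zero_or_pos n with h | h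
    · subst h; omega
    · exact h
  have h3 : H.relIndex (MulAction.stabilizer G x0) = 1 := by
    rcases Nat.lt_or_ge (H.relIndex (MulAction.stabilizer G x0)) 2 with h | h
    · interval_cases hh : H.relIndex (MulAction.stabilizer G x0)
      · simp at h2; exact absurd h2.symm h0
      · rfl
    · nlinarith
  refine ⟨by rw [← h2, h3, one_mul], le_antisymm hH (Subgroup.relIndex_eq_one.mp h3)⟩

theorem exists_equivariant {G X : Type*} [Group G] [MulAction G X] (H : Subgroup G) (x0 : X)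
    (hH : H = MulAction.stabilizer G x0) :
    ∃ Φ : G ⧸ H → X, Function.Injective Φ ∧ (∀ (g : G) (q : G ⧸ H), Φ (g • q) = g • Φ q) ∧
      ∀ g : G, Φ (g : G ⧸ H) = g • x0 := by
  subst hH
  exact ⟨MulAction.ofQuotientStabilizer G x0, MulAction.injective_ofQuotientStabilizer G x0,
    fun g q => MulAction.ofQuotientStabilizer_smul G x0 g q,
    fun g => MulAction.ofQuotientStabilizer_mk G x0 g⟩

theorem image_orbit {G X Y : Type*} [Group G] [MulAction G X] [MulAction G Y] (H : Subgroup G)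
    (Φ : X → Y) (hΦ : ∀ (g : G) (q : X), Φ (g • q) = g • Φ q) (q : X) :
    Φ '' (MulAction.orbit H q) = MulAction.orbit H (Φ q) := by
  ext y
  constructor
  · rintro ⟨_, ⟨h, rfl⟩, rfl⟩
    exact ⟨h, (hΦ (h : G) q).symm⟩
  · rintro ⟨h, rfl⟩
    exact ⟨h • q, ⟨h, rfl⟩, hΦ (h : G) q⟩

theorem image_orbit' {G X Y : Type*} [Group G] [MulAction G X] [MulAction G Y] (H : Subgroup G)
    [MulAction H X] (hc : ∀ (h : H) (q : X), h • q = (h : G) • q)
    (Φ : X → Y) (hΦ : ∀ (g : G) (q : X), Φ (g • q) = g • Φ q) (q : X) :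
    Φ '' (MulAction.orbit H q) = MulAction.orbit H (Φ q) := by
  ext y
  constructor
  · rintro ⟨_, ⟨h, rfl⟩, rfl⟩
    refine ⟨h, ?_⟩
    simp only
    rw [hc, hΦ]; rfl
  · rintro ⟨h, rfl⟩
    refine ⟨h • q, ⟨h, rfl⟩, ?_⟩
    rw [hc, hΦ]; rfl

/-- A finite set mapped into itself by `g` is mapped into itself by `g⁻¹`. -/
theorem inv_smul_mem_of_mapsTo {G X : Type*} [Group G] [MulAction G X] (A : Set X) (hA : A.Finite)
    (g : G) (h : ∀ x ∈ A, g • x ∈ A) : ∀ x ∈ A, g⁻¹ • x ∈ A := by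
  have hm : Set.MapsTo (fun x => g • x) A A := h
  have hb := (hA.injOn_iff_bijOn_of_mapsTo hm).mp (MulAction.injective g).injOn
  intro x hx
  obtain ⟨y, hy, hyx⟩ := hb.surjOn hx
  simp only at hyx
  rw [← hyx, inv_smul_smul]; exact hy

/-- orbit of a subgroup given by generators: an invariant connected finite set. -/
theorem orbit_closure_eq {G X : Type*} [Group G] [MulAction G X] (S : Set G) (A : Set X)
    (hA : A.Finite) (x : X) (hinv : ∀ g ∈ S, ∀ y ∈ A, g • y ∈ A) (hx : x ∈ A)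
    (hconn : ∀ y ∈ A, ∃ g ∈ Subgroup.closure S, g • x = y) :
    MulAction.orbit (Subgroup.closure S) x = A := by
  ext y
  constructor
  · rintro ⟨⟨g, hg⟩, rfl⟩
    have : ∀ z ∈ A, g • z ∈ A := by
      induction hg using Subgroup.closure_induction with
      | mem g hg => exact hinv g hg
      | one => intro z hz; simpa using hz
      | mul a b _ _ ha hb => intro z hz; rw [mul_smul]; exact ha _ (hb z hz)
      | inv a _ ha => exact inv_smul_mem_of_mapsTo A hA a ha
    exact this x hx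
  · intro hy
    obtain ⟨g, hg, rfl⟩ := hconn y hy
    exact ⟨⟨g, hg⟩, rfl⟩

end Cfsg.Agent.Lib.Helper11.PR
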