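import Cfsg.Agent.Lib.Helper11.PRCore

/-! # Index and suborbits from a coset enumeration bound and a permutation representation -/

set_option autoImplicit false

namespace Cfsg.Agent.Lib.Helper11.PR

open Cfsg.Agent.Lib.Helper11.TC (ev)

theorem map_ev {G P : Type*} [Group G] [Group P] (φ : G →* P) (gen : ℕ → G) (pgn : ℕ → P)
    (Ls : List ℕ) (hφ : ∀ l ∈ Ls, φ (gen l) = pgn l) (w : List ℕ) (hw : ∀ l ∈ w, l ∈ Ls) :
    φ (ev gen w) = ev pgn w := by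
  induction w with
  | nil => simp
  | cons l w ih =>
    rw [TC.ev_cons, TC.ev_cons, map_mul, hφ l (hw l List.mem_cons_self),
      ih (fun l' hl' => hw l' (List.mem_cons_of_mem _ hl'))]

/-- The data checked on the tables concerning the subgroup. -/
structure Orbits (n : ℕ) (tbl : ℕ → ℕ → ℕ) (Ls : List ℕ) (subs : List (List ℕ))
    (ivs : List (ℕ × ℕ)) : Prop where
  subL : ∀ s ∈ subs, ∀ l ∈ s, l ∈ Ls
  maps : ∀ iv ∈ ivs, ∀ s ∈ subs, ∀ u, iv.1 ≤ u → u < iv.2 →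
    iv.1 ≤ trace (s.map tbl) u ∧ trace (s.map tbl) u < iv.2
  tree : ∀ iv ∈ ivs, ∀ u, iv.1 < u → u < iv.2 →
    ∃ s ∈ subs, ∃ p, iv.1 ≤ p ∧ p < u ∧ trace (s.map tbl) p = u
  root : ∀ iv ∈ ivs, ∃ w : List ℕ, (∀ l ∈ w, l ∈ Ls) ∧ trace (w.map tbl) 0 = iv.1
  cover : ∀ u < n, ∃ iv ∈ ivs, iv.1 ≤ u ∧ u < iv.2
  le : ∀ iv ∈ ivs, iv.1 < iv.2 ∧ iv.2 ≤ n
  first : (0, 1) ∈ ivs

theorem main {G : Type*} [Group G] {n : ℕ} {tbl : ℕ → ℕ → ℕ} {inv : ℕ → ℕ} {Ls : List ℕ}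
    {subs : List (List ℕ)} {ivs : List (ℕ × ℕ)}
    (hT : Tables n tbl inv Ls) (hO : Orbits n tbl Ls subs ivs)
    (φ : G →* Equiv.Perm (Fin n)) (gen : ℕ → G) (hφ : ∀ l ∈ Ls, φ (gen l) = pg n tbl inv Ls l)
    (H : Subgroup G) (hH : H = Subgroup.closure {g | ∃ s ∈ subs, g = ev gen s})
    (hidx : H.index ≤ n) (h0 : H.index ≠ 0) :
    H.index = n ∧ ∃ Φ : G ⧸ H → Fin n, Function.Injective Φ ∧
      ∀ iv ∈ ivs, ∃ q : G ⧸ H, Φ '' (MulAction.orbit H q) = {u : Fin n | iv.1 ≤ u.1 ∧ u.1 < iv.2} := by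
  letI : MulAction G (Fin n) := MulAction.compHom (Fin n) φ
  have smul_def : ∀ (g : G) (u : Fin n), g • u = φ g u := fun g u => rfl
  have key : ∀ (w : List ℕ), (∀ l ∈ w, l ∈ Ls) → ∀ u : Fin n,
      (((ev gen w)⁻¹ • u : Fin n) : ℕ) = trace (w.map tbl) u := by
    intro w hw u
    rw [smul_def, map_inv, map_ev φ gen _ Ls hφ w hw, ev_pg_inv_apply hT w hw]
  have hn : 0 < n := by
    have := (hO.le _ hO.first); simp at this; omega
  -- the orbits of H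
  have horb : ∀ iv ∈ ivs, ∀ ha : iv.1 < n,
      MulAction.orbit H (⟨iv.1, ha⟩ : Fin n) = {u : Fin n | iv.1 ≤ u.1 ∧ u.1 < iv.2} := by
    intro iv hiv ha
    subst hH
    apply orbit_closure_eq _ _ (Set.toFinite _)
    · rintro g ⟨s, hs, rfl⟩
      have h1 : ∀ y ∈ {u : Fin n | iv.1 ≤ u.1 ∧ u.1 < iv.2},
          (ev gen s)⁻¹ • y ∈ {u : Fin n | iv.1 ≤ u.1 ∧ u.1 < iv.2} := by
        intro y hy
        simp only [Set.mem_setOf_eq] at hy ⊢
        rw [key s (hO.subL s hs)]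
        exact hO.maps iv hiv s hs y hy.1 hy.2
      have h2 := inv_smul_mem_of_mapsTo _ (Set.toFinite _) _ h1
      simpa using h2
    · simp only [Set.mem_setOf_eq]
      exact ⟨le_refl _, (hO.le iv hiv).1⟩
    · rintro ⟨y, hyn⟩ hy
      simp only [Set.mem_setOf_eq] at hy
      induction y using Nat.strong_induction_on with
      | _ y ih =>
        rcases Nat.eq_or_lt_of_le hy.1 with h | h
        · exact ⟨1, Subgroup.one_mem _, by simp [h]⟩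
        · obtain ⟨s, hs, p, hp1, hp2, hp3⟩ := hO.tree iv hiv y h hy.2
          obtain ⟨g, hg, hgp⟩ := ih p hp2 (by omega) ⟨hp1, by omega⟩
          refine ⟨(ev gen s)⁻¹ * g, Subgroup.mul_mem _ (Subgroup.inv_mem _ (Subgroup.subset_closure ⟨s, hs, rfl⟩)) hg, ?_⟩
          rw [mul_smul, hgp]
          apply Fin.ext
          rw [key s (hO.subL s hs)]
          exact hp3
  have hstab : H ≤ MulAction.stabilizer G (⟨0, hn⟩ : Fin n) := by
    intro h hh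
    rw [MulAction.mem_stabilizer_iff]
    have h1 : (⟨h, hh⟩ : H) • (⟨0, hn⟩ : Fin n) ∈ MulAction.orbit H (⟨0, hn⟩ : Fin n) := ⟨_, rfl⟩
    rw [horb (0, 1) hO.first hn] at h1
    simp only [Set.mem_setOf_eq] at h1
    apply Fin.ext
    have h2 : (((⟨h, hh⟩ : H) • (⟨0, hn⟩ : Fin n) : Fin n) : ℕ) = ((h • (⟨0, hn⟩ : Fin n) : Fin n) : ℕ) := rfl
    simp only at h2 ⊢
    omega
  have hroot : ∀ iv ∈ ivs, ∀ ha : iv.1 < n, ∃ g : G, g • (⟨0, hn⟩ : Fin n) = ⟨iv.1, ha⟩ := by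
    intro iv hiv ha
    obtain ⟨w, hw, hw0⟩ := hO.root iv hiv
    exact ⟨(ev gen w)⁻¹, Fin.ext (by rw [key w hw]; exact hw0)⟩
  have htrans : MulAction.orbit G (⟨0, hn⟩ : Fin n) = Set.univ := by
    rw [Set.eq_univ_iff_forall]
    intro u
    obtain ⟨iv, hiv, h1, h2⟩ := hO.cover u u.2
    have ha : iv.1 < n := by have := u.2; omega
    obtain ⟨g, hg⟩ := hroot iv hiv ha
    have hu : u ∈ MulAction.orbit H (⟨iv.1, ha⟩ : Fin n) := by
      rw [horb iv hiv ha]; exact ⟨h1, h2⟩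
    obtain ⟨h, rfl⟩ := hu
    refine ⟨(h : G) * g, ?_⟩
    simp only
    rw [mul_smul, hg]; rfl
  have hcard : (MulAction.orbit G (⟨0, hn⟩ : Fin n)).ncard = n := by
    rw [htrans, Set.ncard_univ]; simp
  obtain ⟨hi, hst⟩ := index_eq_of_le_stabilizer H _ hstab n hcard hidx h0
  refine ⟨hi, ?_⟩
  obtain ⟨Φ, hinj, heq, hmk⟩ := exists_equivariant H _ hst
  refine ⟨Φ, hinj, ?_⟩
  intro iv hiv
  have ha : iv.1 < n := by have := hO.le iv hiv; omega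
  obtain ⟨g, hg⟩ := hroot iv hiv ha
  refine ⟨(g : G ⧸ H), ?_⟩
  rw [image_orbit' H (fun h q => rfl) Φ heq, hmk, hg, horb iv hiv ha]

theorem tree_aux (tbl : ℕ → ℕ → ℕ) (subs : List (List ℕ)) (ws : List (List (ℕ → ℕ)))
    (h : ws = subs.map (fun s => s.map tbl)) (s : List (ℕ → ℕ)) (hs : s ∈ ws) (p a u : ℕ)
    (hp : a ≤ p ∧ p < u ∧ trace s p = u) :
    ∃ s' ∈ subs, ∃ p, a ≤ p ∧ p < u ∧ trace (s'.map tbl) p = u := by
  subst h
  obtain ⟨s', hs', rfl⟩ := List.mem_map.mp hs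
  exact ⟨s', hs', p, hp⟩

/-- cardinality of an interval of `Fin n` -/
theorem ncard_interval (n a b : ℕ) (hab : a ≤ b) (hb : b ≤ n) :
    {u : Fin n | a ≤ u.1 ∧ u.1 < b}.ncard = b - a := by
  have : {u : Fin n | a ≤ u.1 ∧ u.1 < b} = ((Finset.Ico a b).attachFin (fun m hm => by
      have := (Finset.mem_Ico.mp hm).2; omega) : Finset (Fin n)) := by
    ext u; simp
  rw [this, Set.ncard_coe_finset, Finset.card_attachFin]; simp

theorem ncard_of_image {X : Type*} {n : ℕ} (Φ : X → Fin n) (hΦ : Function.Injective Φ) (A : Set X)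
    (a b : ℕ) (hab : a ≤ b) (hb : b ≤ n) (h : Φ '' A = {u : Fin n | a ≤ u.1 ∧ u.1 < b}) :
    A.ncard = b - a := by
  rw [← Set.ncard_image_of_injective A hΦ, h, ncard_interval n a b hab hb]

theorem ne_of_image {X : Type*} {n : ℕ} (Φ : X → Fin n) (A B : Set X)
    (a b c d : ℕ) (hab : a < b) (hb : b ≤ n) (hbc : b ≤ c)
    (hA : Φ '' A = {u : Fin n | a ≤ u.1 ∧ u.1 < b}) (hB : Φ '' B = {u : Fin n | c ≤ u.1 ∧ u.1 < d}) :
    A ≠ B := by
  intro h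
  subst h
  rw [hA] at hB
  have : (⟨a, by omega⟩ : Fin n) ∈ {u : Fin n | a ≤ u.1 ∧ u.1 < b} := ⟨le_refl _, hab⟩
  rw [hB] at this
  simp only [Set.mem_setOf_eq] at this
  omega

end Cfsg.Agent.Lib.Helper11.PR
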