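import Cfsg.Agent.Lib.Helper11.F4
import Cfsg.Agent.Lib.Helper11.S44Simple

/-! # The homomorphism to `Sp(4, 4)` -/

set_option autoImplicit false
set_option maxRecDepth 100000

namespace Cfsg.Agent.Lib.Helper11.S44M

open Matrix Cfsg.Agent.Lib.Helper11 Cfsg.Agent.Lib.Helper11.TC

abbrev I4 := Fin 2 ⊕ Fin 2
abbrev M4 := Matrix I4 I4 F4

def ix : I4 → ℕ
  | .inl i => i.val
  | .inr u => 2 + u.val

def dg : ℕ → F4
  | 0 => .z
  | 1 => .o
  | 2 => .w
  | _ => .v

/-- the matrix with the given code in base 4 -/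
def mx (c : ℕ) : M4 := fun i j => dg (c / 4 ^ (4 * ix i + ix j) % 4)

def mat : ℕ → M4
  | 0 => mx 1074791441
  | 2 => mx 1074791457
  | 4 => mx 1074807809
  | 6 => mx 1074824193
  | 8 => mx 1074856961
  | 10 => mx 1074922497
  | 12 => mx 1141900289
  | 14 => mx 1209009153
  | 16 => mx 1343226885
  | 18 => mx 1611662345
  | 20 => mx 1078985985
  | 22 => mx 1083180545
  | 24 => mx 1074795585
  | 26 => mx 1074799745
  | 28 => mx 1091830785
  | 30 => mx 1108870145
  | _ => 1

theorem mx_one : mx 1074791425 = 1 := by decide +kernel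

theorem rl0_1 : (mat 6 * (1) : M4) = mx 1074824193 := by decide +kernel
theorem rl0_0 : (mat 4 * (mat 6 * (mat 4 * (mx 1074824193))) : M4) = mx 1074791425 := by decide +kernel
theorem rl0 : ([4, 6, 4, 6].map mat).prod = 1 := by
  simp only [List.map_cons, List.map_nil, List.prod_cons, List.prod_nil]
  rw [rl0_1, rl0_0, mx_one]

theorem rl1_1 : (mat 18 * (1) : M4) = mx 1611662345 := by decide +kernel
theorem rl1_0 : (mat 16 * (mat 18 * (mat 16 * (mx 1611662345))) : M4) = mx 1074791425 := by decide +kernel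
theorem rl1 : ([16, 18, 16, 18].map mat).prod = 1 := by
  simp only [List.map_cons, List.map_nil, List.prod_cons, List.prod_nil]
  rw [rl1_1, rl1_0, mx_one]

theorem rl2_1 : (mat 20 * (mat 4 * (mat 24 * (1))) : M4) = mx 1078990145 := by decide +kernel
theorem rl2_0 : (mat 0 * (mat 20 * (mat 0 * (mx 1078990145))) : M4) = mx 1074791425 := by decide +kernel
theorem rl2 : ([0, 20, 0, 20, 4, 24].map mat).prod = 1 := by
  simp only [List.map_cons, List.map_nil, List.prod_cons, List.prod_nil]
  rw [rl2_1, rl2_0, mx_one]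

theorem rl3_1 : (mat 20 * (mat 6 * (mat 26 * (1))) : M4) = mx 1078994305 := by decide +kernel
theorem rl3_0 : (mat 2 * (mat 20 * (mat 2 * (mx 1078994305))) : M4) = mx 1074791425 := by decide +kernel
theorem rl3 : ([2, 20, 2, 20, 6, 26].map mat).prod = 1 := by
  simp only [List.map_cons, List.map_nil, List.prod_cons, List.prod_nil]
  rw [rl3_1, rl3_0, mx_one]

theorem rl4_1 : (mat 16 * (mat 0 * (mat 24 * (1))) : M4) = mx 1343231045 := by decide +kernel
theorem rl4_0 : (mat 4 * (mat 16 * (mat 4 * (mx 1343231045))) : M4) = mx 1074791425 := by decide +kernel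
theorem rl4 : ([4, 16, 4, 16, 0, 24].map mat).prod = 1 := by
  simp only [List.map_cons, List.map_nil, List.prod_cons, List.prod_nil]
  rw [rl4_1, rl4_0, mx_one]

theorem rl5_2 : (mat 26 * (1) : M4) = mx 1074799745 := by decide +kernel
theorem rl5_1 : (mat 18 * (mat 2 * (mat 0 * (mx 1074799745))) : M4) = mx 1611670665 := by decide +kernel
theorem rl5_0 : (mat 4 * (mat 18 * (mat 4 * (mx 1611670665))) : M4) = mx 1074791425 := by decide +kernel
theorem rl5 : ([4, 18, 4, 18, 2, 0, 26].map mat).prod = 1 := by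
  simp only [List.map_cons, List.map_nil, List.prod_cons, List.prod_nil]
  rw [rl5_2, rl5_1, rl5_0, mx_one]

theorem rl6_1 : (mat 16 * (mat 2 * (mat 26 * (1))) : M4) = mx 1343235205 := by decide +kernel
theorem rl6_0 : (mat 6 * (mat 16 * (mat 6 * (mx 1343235205))) : M4) = mx 1074791425 := by decide +kernel
theorem rl6 : ([6, 16, 6, 16, 2, 26].map mat).prod = 1 := by
  simp only [List.map_cons, List.map_nil, List.prod_cons, List.prod_nil]
  rw [rl6_1, rl6_0, mx_one]

theorem rl7_2 : (mat 24 * (1) : M4) = mx 1074795585 := by decide +kernel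
theorem rl7_1 : (mat 18 * (mat 0 * (mat 26 * (mx 1074795585))) : M4) = mx 1611674825 := by decide +kernel
theorem rl7_0 : (mat 6 * (mat 18 * (mat 6 * (mx 1611674825))) : M4) = mx 1074791425 := by decide +kernel
theorem rl7 : ([6, 18, 6, 18, 0, 26, 24].map mat).prod = 1 := by
  simp only [List.map_cons, List.map_nil, List.prod_cons, List.prod_nil]
  rw [rl7_2, rl7_1, rl7_0, mx_one]

theorem rl8_1 : (mat 24 * (1) : M4) = mx 1074795585 := by decide +kernel
theorem rl8_0 : (mat 6 * (mat 24 * (mat 6 * (mx 1074795585))) : M4) = mx 1074791425 := by decide +kernel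
theorem rl8 : ([6, 24, 6, 24].map mat).prod = 1 := by
  simp only [List.map_cons, List.map_nil, List.prod_cons, List.prod_nil]
  rw [rl8_1, rl8_0, mx_one]

theorem rl9_1 : (mat 26 * (1) : M4) = mx 1074799745 := by decide +kernel
theorem rl9_0 : (mat 6 * (mat 26 * (mat 6 * (mx 1074799745))) : M4) = mx 1074791425 := by decide +kernel
theorem rl9 : ([6, 26, 6, 26].map mat).prod = 1 := by
  simp only [List.map_cons, List.map_nil, List.prod_cons, List.prod_nil]
  rw [rl9_1, rl9_0, mx_one]

theorem rl10_1 : (mat 28 * (mat 8 * (mat 20 * (1))) : M4) = mx 1096025345 := by decide +kernel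
theorem rl10_0 : (mat 4 * (mat 28 * (mat 4 * (mx 1096025345))) : M4) = mx 1074791425 := by decide +kernel
theorem rl10 : ([4, 28, 4, 28, 8, 20].map mat).prod = 1 := by
  simp only [List.map_cons, List.map_nil, List.prod_cons, List.prod_nil]
  rw [rl10_1, rl10_0, mx_one]

theorem rl11_1 : (mat 28 * (mat 10 * (mat 22 * (1))) : M4) = mx 1100219905 := by decide +kernel
theorem rl11_0 : (mat 6 * (mat 28 * (mat 6 * (mx 1100219905))) : M4) = mx 1074791425 := by decide +kernel
theorem rl11 : ([6, 28, 6, 28, 10, 22].map mat).prod = 1 := by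
  simp only [List.map_cons, List.map_nil, List.prod_cons, List.prod_nil]
  rw [rl11_1, rl11_0, mx_one]

theorem rl12_1 : (mat 16 * (mat 12 * (mat 28 * (1))) : M4) = mx 1360266245 := by decide +kernel
theorem rl12_0 : (mat 8 * (mat 16 * (mat 8 * (mx 1360266245))) : M4) = mx 1074791425 := by decide +kernel
theorem rl12 : ([8, 16, 8, 16, 12, 28].map mat).prod = 1 := by
  simp only [List.map_cons, List.map_nil, List.prod_cons, List.prod_nil]
  rw [rl12_1, rl12_0, mx_one]

theorem rl13_1 : (mat 16 * (mat 14 * (mat 30 * (1))) : M4) = mx 1377305605 := by decide +kernel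
theorem rl13_0 : (mat 10 * (mat 16 * (mat 10 * (mx 1377305605))) : M4) = mx 1074791425 := by decide +kernel
theorem rl13 : ([10, 16, 10, 16, 14, 30].map mat).prod = 1 := by
  simp only [List.map_cons, List.map_nil, List.prod_cons, List.prod_nil]
  rw [rl13_1, rl13_0, mx_one]

theorem rl14_1 : (mat 20 * (mat 8 * (mat 28 * (1))) : M4) = mx 1096025345 := by decide +kernel
theorem rl14_0 : (mat 12 * (mat 20 * (mat 12 * (mx 1096025345))) : M4) = mx 1074791425 := by decide +kernel
theorem rl14 : ([12, 20, 12, 20, 8, 28].map mat).prod = 1 := by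
  simp only [List.map_cons, List.map_nil, List.prod_cons, List.prod_nil]
  rw [rl14_1, rl14_0, mx_one]

theorem rl15_1 : (mat 20 * (mat 10 * (mat 30 * (1))) : M4) = mx 1113064705 := by decide +kernel
theorem rl15_0 : (mat 14 * (mat 20 * (mat 14 * (mx 1113064705))) : M4) = mx 1074791425 := by decide +kernel
theorem rl15 : ([14, 20, 14, 20, 10, 30].map mat).prod = 1 := by
  simp only [List.map_cons, List.map_nil, List.prod_cons, List.prod_nil]
  rw [rl15_1, rl15_0, mx_one]

theorem rl16_1 : (mat 24 * (1) : M4) = mx 1074795585 := by decide +kernel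
theorem rl16_0 : (mat 18 * (mat 24 * (mat 18 * (mx 1074795585))) : M4) = mx 1074791425 := by decide +kernel
theorem rl16 : ([18, 24, 18, 24].map mat).prod = 1 := by
  simp only [List.map_cons, List.map_nil, List.prod_cons, List.prod_nil]
  rw [rl16_1, rl16_0, mx_one]

theorem rl17_1 : (mat 26 * (1) : M4) = mx 1074799745 := by decide +kernel
theorem rl17_0 : (mat 18 * (mat 26 * (mat 18 * (mx 1074799745))) : M4) = mx 1074791425 := by decide +kernel
theorem rl17 : ([18, 26, 18, 26].map mat).prod = 1 := by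
  simp only [List.map_cons, List.map_nil, List.prod_cons, List.prod_nil]
  rw [rl17_1, rl17_0, mx_one]

theorem rl18_1 : (mat 28 * (1) : M4) = mx 1091830785 := by decide +kernel
theorem rl18_0 : (mat 18 * (mat 28 * (mat 18 * (mx 1091830785))) : M4) = mx 1074791425 := by decide +kernel
theorem rl18 : ([18, 28, 18, 28].map mat).prod = 1 := by
  simp only [List.map_cons, List.map_nil, List.prod_cons, List.prod_nil]
  rw [rl18_1, rl18_0, mx_one]

theorem rl19_1 : (mat 26 * (1) : M4) = mx 1074799745 := by decide +kernel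
theorem rl19_0 : (mat 22 * (mat 26 * (mat 22 * (mx 1074799745))) : M4) = mx 1074791425 := by decide +kernel
theorem rl19 : ([22, 26, 22, 26].map mat).prod = 1 := by
  simp only [List.map_cons, List.map_nil, List.prod_cons, List.prod_nil]
  rw [rl19_1, rl19_0, mx_one]

theorem rl20_1 : (mat 28 * (1) : M4) = mx 1091830785 := by decide +kernel
theorem rl20_0 : (mat 20 * (mat 28 * (mat 20 * (mx 1091830785))) : M4) = mx 1074791425 := by decide +kernel
theorem rl20 : ([20, 28, 20, 28].map mat).prod = 1 := by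
  simp only [List.map_cons, List.map_nil, List.prod_cons, List.prod_nil]
  rw [rl20_1, rl20_0, mx_one]

theorem rl21_1 : (mat 30 * (1) : M4) = mx 1108870145 := by decide +kernel
theorem rl21_0 : (mat 20 * (mat 30 * (mat 20 * (mx 1108870145))) : M4) = mx 1074791425 := by decide +kernel
theorem rl21 : ([20, 30, 20, 30].map mat).prod = 1 := by
  simp only [List.map_cons, List.map_nil, List.prod_cons, List.prod_nil]
  rw [rl21_1, rl21_0, mx_one]

theorem rl22_1 : (mat 28 * (1) : M4) = mx 1091830785 := by decide +kernel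
theorem rl22_0 : (mat 22 * (mat 28 * (mat 22 * (mx 1091830785))) : M4) = mx 1074791425 := by decide +kernel
theorem rl22 : ([22, 28, 22, 28].map mat).prod = 1 := by
  simp only [List.map_cons, List.map_nil, List.prod_cons, List.prod_nil]
  rw [rl22_1, rl22_0, mx_one]

theorem rl23_1 : (mat 30 * (1) : M4) = mx 1108870145 := by decide +kernel
theorem rl23_0 : (mat 22 * (mat 30 * (mat 22 * (mx 1108870145))) : M4) = mx 1074791425 := by decide +kernel
theorem rl23 : ([22, 30, 22, 30].map mat).prod = 1 := by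
  simp only [List.map_cons, List.map_nil, List.prod_cons, List.prod_nil]
  rw [rl23_1, rl23_0, mx_one]

theorem rl24_1 : (mat 20 * (mat 16 * (mat 20 * (1))) : M4) = mx 272630020 := by decide +kernel
theorem rl24_0 : (mat 16 * (mat 20 * (mat 16 * (mx 272630020))) : M4) = mx 1074791425 := by decide +kernel
theorem rl24 : ([16, 20, 16, 20, 16, 20].map mat).prod = 1 := by
  simp only [List.map_cons, List.map_nil, List.prod_cons, List.prod_nil]
  rw [rl24_1, rl24_0, mx_one]

theorem rl25_3 : (mat 20 * (1) : M4) = mx 1078985985 := by decide +kernel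
theorem rl25_2 : (mat 18 * (mat 20 * (mat 18 * (mx 1078985985))) : M4) = mx 816844300 := by decide +kernel
theorem rl25_1 : (mat 20 * (mat 18 * (mat 20 * (mx 816844300))) : M4) = mx 4033875215 := by decide +kernel
theorem rl25_0 : (mat 18 * (mat 20 * (mat 18 * (mx 4033875215))) : M4) = mx 1074791425 := by decide +kernel
theorem rl25 : ([18, 20, 18, 20, 18, 20, 18, 20, 18, 20].map mat).prod = 1 := by
  simp only [List.map_cons, List.map_nil, List.prod_cons, List.prod_nil]
  rw [rl25_3, rl25_2, rl25_1, rl25_0, mx_one]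

theorem rl26_2 : (mat 16 * (mat 18 * (mat 22 * (1))) : M4) = mx 814745100 := by decide +kernel
theorem rl26_1 : (mat 16 * (mat 18 * (mat 22 * (mx 814745100))) : M4) = mx 1887437325 := by decide +kernel
theorem rl26_0 : (mat 16 * (mat 18 * (mat 22 * (mx 1887437325))) : M4) = mx 1074791425 := by decide +kernel
theorem rl26 : ([16, 18, 22, 16, 18, 22, 16, 18, 22].map mat).prod = 1 := by
  simp only [List.map_cons, List.map_nil, List.prod_cons, List.prod_nil]
  rw [rl26_2, rl26_1, rl26_0, mx_one]

theorem rl27_2 : (mat 16 * (mat 22 * (1)) : M4) = mx 3499099655 := by decide +kernel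
theorem rl27_1 : (mat 18 * (mat 16 * (mat 20 * (mx 3499099655))) : M4) = mx 272630020 := by decide +kernel
theorem rl27_0 : (mat 16 * (mat 20 * (mat 16 * (mx 272630020))) : M4) = mx 1074791425 := by decide +kernel
theorem rl27 : ([16, 20, 16, 18, 16, 20, 16, 22].map mat).prod = 1 := by
  simp only [List.map_cons, List.map_nil, List.prod_cons, List.prod_nil]
  rw [rl27_2, rl27_1, rl27_0, mx_one]

theorem rl28_2 : (mat 28 * (mat 8 * (1)) : M4) = mx 1091896321 := by decide +kernel
theorem rl28_1 : (mat 4 * (mat 28 * (mat 24 * (mx 1091896321))) : M4) = mx 17043520 := by decide +kernel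
theorem rl28_0 : (mat 28 * (mat 24 * (mat 28 * (mx 17043520))) : M4) = mx 1074791425 := by decide +kernel
theorem rl28 : ([28, 24, 28, 4, 28, 24, 28, 8].map mat).prod = 1 := by
  simp only [List.map_cons, List.map_nil, List.prod_cons, List.prod_nil]
  rw [rl28_2, rl28_1, rl28_0, mx_one]

theorem symp_in : ∀ l ∈ S44.Ls, mat l * J (Fin 2) F4 * (mat l)ᵀ = J (Fin 2) F4 := by decide +kernel

theorem mat_sq_in : ∀ l ∈ S44.Ls, mat l * mat l = 1 := by decide +kernel

theorem mat_out : ∀ l, l ∉ S44.Ls → mat l = 1 := by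
  intro l hl
  match l, hl with
  | 0, h => exact absurd (by decide) h
  | 1, _ => rfl
  | 2, h => exact absurd (by decide) h
  | 3, _ => rfl
  | 4, h => exact absurd (by decide) h
  | 5, _ => rfl
  | 6, h => exact absurd (by decide) h
  | 7, _ => rfl
  | 8, h => exact absurd (by decide) h
  | 9, _ => rfl
  | 10, h => exact absurd (by decide) h
  | 11, _ => rfl
  | 12, h => exact absurd (by decide) h
  | 13, _ => rfl
  | 14, h => exact absurd (by decide) h
  | 15, _ => rfl
  | 16, h => exact absurd (by decide) h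
  | 17, _ => rfl
  | 18, h => exact absurd (by decide) h
  | 19, _ => rfl
  | 20, h => exact absurd (by decide) h
  | 21, _ => rfl
  | 22, h => exact absurd (by decide) h
  | 23, _ => rfl
  | 24, h => exact absurd (by decide) h
  | 25, _ => rfl
  | 26, h => exact absurd (by decide) h
  | 27, _ => rfl
  | 28, h => exact absurd (by decide) h
  | 29, _ => rfl
  | 30, h => exact absurd (by decide) h
  | (k + 31), _ => rfl

theorem mat_sq (l : ℕ) : mat l * mat l = 1 := by
  by_cases h : l ∈ S44.Ls
  · exact mat_sq_in l h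
  · rw [mat_out l h, one_mul]

theorem symp (l : ℕ) : mat l ∈ symplecticGroup (Fin 2) F4 := by
  rw [SymplecticGroup.mem_iff]
  by_cases h : l ∈ S44.Ls
  · exact symp_in l h
  · rw [mat_out l h]; simp

def sp (l : ℕ) : symplecticGroup (Fin 2) F4 := ⟨mat l, symp l⟩

theorem coe_ev (w : List ℕ) : ((ev sp w : symplecticGroup (Fin 2) F4) : M4) = (w.map mat).prod := by
  induction w with
  | nil => rfl
  | cons l w ih =>
    rw [ev_cons, Submonoid.coe_mul, ih]
    rfl

theorem one_of_prod (w : List ℕ) (h : (w.map mat).prod = 1) : ev sp w = 1 :=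
  Subtype.ext (by rw [coe_ev, h]; rfl)

theorem hrel : ∀ r ∈ S44.coxW ++ S44.extraW, ev sp r = 1 := by
  intro r hr
  simp only [S44.coxW, S44.extraW, List.mem_append, List.mem_cons, List.mem_nil_iff, or_false] at hr
  rcases hr with rfl | rfl | rfl | rfl | rfl | rfl | rfl | rfl | rfl | rfl | rfl | rfl | rfl | rfl | rfl | rfl | rfl | rfl | rfl | rfl | rfl | rfl | rfl | rfl | rfl | rfl | rfl | rfl | rfl
  · exact one_of_prod _ rl0
  · exact one_of_prod _ rl1
  · exact one_of_prod _ rl2
  · exact one_of_prod _ rl3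
  · exact one_of_prod _ rl4
  · exact one_of_prod _ rl5
  · exact one_of_prod _ rl6
  · exact one_of_prod _ rl7
  · exact one_of_prod _ rl8
  · exact one_of_prod _ rl9
  · exact one_of_prod _ rl10
  · exact one_of_prod _ rl11
  · exact one_of_prod _ rl12
  · exact one_of_prod _ rl13
  · exact one_of_prod _ rl14
  · exact one_of_prod _ rl15
  · exact one_of_prod _ rl16
  · exact one_of_prod _ rl17
  · exact one_of_prod _ rl18
  · exact one_of_prod _ rl19
  · exact one_of_prod _ rl20
  · exact one_of_prod _ rl21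
  · exact one_of_prod _ rl22
  · exact one_of_prod _ rl23
  · exact one_of_prod _ rl24
  · exact one_of_prod _ rl25
  · exact one_of_prod _ rl26
  · exact one_of_prod _ rl27
  · exact one_of_prod _ rl28

theorem hp : ∀ l ∈ S44.Ls, sp (S44.invL l) = (sp l)⁻¹ := by
  intro l _
  have h1 : sp l * sp l = 1 := Subtype.ext (mat_sq l)
  exact eq_inv_of_mul_eq_one_right h1

theorem mat_ne : mat 0 ≠ 1 := by decide +kernel

theorem exists_hom : ∃ γ : S44S.P →* symplecticGroup (Fin 2) F4, ∀ l ∈ S44.Ls, γ (S44S.gen l) = sp l :=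
  S44S.pres.lift _ sp hp hrel

end Cfsg.Agent.Lib.Helper11.S44M
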