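import Cfsg.Agent.Lib.Helper11.S44PT

set_option autoImplicit false
set_option maxRecDepth 1000000
set_option Elab.async false

namespace Cfsg.Agent.Lib.Helper11.S44

open Cfsg.Agent.Lib.Helper11

theorem rng0_0 : PR.allR (PR.mapsF [tb0] 0 84) 0 85 = true := by decide +kernel

theorem sq0_0 : PR.allR (PR.fixF [tb0, tb0]) 0 85 = true := by decide +kernel

theorem rng2_0 : PR.allR (PR.mapsF [tb2] 0 84) 0 85 = true := by decide +kernel

theorem sq2_0 : PR.allR (PR.fixF [tb2, tb2]) 0 85 = true := by decide +kernel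

theorem rng4_0 : PR.allR (PR.mapsF [tb4] 0 84) 0 85 = true := by decide +kernel

theorem sq4_0 : PR.allR (PR.fixF [tb4, tb4]) 0 85 = true := by decide +kernel

theorem rng6_0 : PR.allR (PR.mapsF [tb6] 0 84) 0 85 = true := by decide +kernel

theorem sq6_0 : PR.allR (PR.fixF [tb6, tb6]) 0 85 = true := by decide +kernel

theorem rng8_0 : PR.allR (PR.mapsF [tb8] 0 84) 0 85 = true := by decide +kernel

theorem sq8_0 : PR.allR (PR.fixF [tb8, tb8]) 0 85 = true := by decide +kernel

theorem rng10_0 : PR.allR (PR.mapsF [tb10] 0 84) 0 85 = true := by decide +kernel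

theorem sq10_0 : PR.allR (PR.fixF [tb10, tb10]) 0 85 = true := by decide +kernel

theorem rng12_0 : PR.allR (PR.mapsF [tb12] 0 84) 0 85 = true := by decide +kernel

theorem sq12_0 : PR.allR (PR.fixF [tb12, tb12]) 0 85 = true := by decide +kernel

theorem rng14_0 : PR.allR (PR.mapsF [tb14] 0 84) 0 85 = true := by decide +kernel

theorem sq14_0 : PR.allR (PR.fixF [tb14, tb14]) 0 85 = true := by decide +kernel

theorem rng16_0 : PR.allR (PR.mapsF [tb16] 0 84) 0 85 = true := by decide +kernel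

theorem sq16_0 : PR.allR (PR.fixF [tb16, tb16]) 0 85 = true := by decide +kernel

theorem rng18_0 : PR.allR (PR.mapsF [tb18] 0 84) 0 85 = true := by decide +kernel

theorem sq18_0 : PR.allR (PR.fixF [tb18, tb18]) 0 85 = true := by decide +kernel

theorem rng20_0 : PR.allR (PR.mapsF [tb20] 0 84) 0 85 = true := by decide +kernel

theorem sq20_0 : PR.allR (PR.fixF [tb20, tb20]) 0 85 = true := by decide +kernel

theorem rng22_0 : PR.allR (PR.mapsF [tb22] 0 84) 0 85 = true := by decide +kernel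

theorem sq22_0 : PR.allR (PR.fixF [tb22, tb22]) 0 85 = true := by decide +kernel

theorem rng24_0 : PR.allR (PR.mapsF [tb24] 0 84) 0 85 = true := by decide +kernel

theorem sq24_0 : PR.allR (PR.fixF [tb24, tb24]) 0 85 = true := by decide +kernel

theorem rng26_0 : PR.allR (PR.mapsF [tb26] 0 84) 0 85 = true := by decide +kernel

theorem sq26_0 : PR.allR (PR.fixF [tb26, tb26]) 0 85 = true := by decide +kernel

theorem rng28_0 : PR.allR (PR.mapsF [tb28] 0 84) 0 85 = true := by decide +kernel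

theorem sq28_0 : PR.allR (PR.fixF [tb28, tb28]) 0 85 = true := by decide +kernel

theorem rng30_0 : PR.allR (PR.mapsF [tb30] 0 84) 0 85 = true := by decide +kernel

theorem sq30_0 : PR.allR (PR.fixF [tb30, tb30]) 0 85 = true := by decide +kernel

theorem rel0_0 : PR.allR (PR.fixF [tb4, tb6, tb4, tb6]) 0 85 = true := by decide +kernel

theorem rel1_0 : PR.allR (PR.fixF [tb16, tb18, tb16, tb18]) 0 85 = true := by decide +kernel

theorem rel2_0 : PR.allR (PR.fixF [tb0, tb20, tb0, tb20, tb4, tb24]) 0 85 = true := by decide +kernel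

theorem rel3_0 : PR.allR (PR.fixF [tb2, tb20, tb2, tb20, tb6, tb26]) 0 85 = true := by decide +kernel

theorem rel4_0 : PR.allR (PR.fixF [tb4, tb16, tb4, tb16, tb0, tb24]) 0 85 = true := by decide +kernel

theorem rel5_0 : PR.allR (PR.fixF [tb4, tb18, tb4, tb18, tb2, tb0, tb26]) 0 85 = true := by decide +kernel

theorem rel6_0 : PR.allR (PR.fixF [tb6, tb16, tb6, tb16, tb2, tb26]) 0 85 = true := by decide +kernel

theorem rel7_0 : PR.allR (PR.fixF [tb6, tb18, tb6, tb18, tb0, tb26, tb24]) 0 85 = true := by decide +kernel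

theorem rel8_0 : PR.allR (PR.fixF [tb6, tb24, tb6, tb24]) 0 85 = true := by decide +kernel

theorem rel9_0 : PR.allR (PR.fixF [tb6, tb26, tb6, tb26]) 0 85 = true := by decide +kernel

theorem rel10_0 : PR.allR (PR.fixF [tb4, tb28, tb4, tb28, tb8, tb20]) 0 85 = true := by decide +kernel

theorem rel11_0 : PR.allR (PR.fixF [tb6, tb28, tb6, tb28, tb10, tb22]) 0 85 = true := by decide +kernel

theorem rel12_0 : PR.allR (PR.fixF [tb8, tb16, tb8, tb16, tb12, tb28]) 0 85 = true := by decide +kernel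

theorem rel13_0 : PR.allR (PR.fixF [tb10, tb16, tb10, tb16, tb14, tb30]) 0 85 = true := by decide +kernel

theorem rel14_0 : PR.allR (PR.fixF [tb12, tb20, tb12, tb20, tb8, tb28]) 0 85 = true := by decide +kernel

theorem rel15_0 : PR.allR (PR.fixF [tb14, tb20, tb14, tb20, tb10, tb30]) 0 85 = true := by decide +kernel

theorem rel16_0 : PR.allR (PR.fixF [tb18, tb24, tb18, tb24]) 0 85 = true := by decide +kernel

theorem rel17_0 : PR.allR (PR.fixF [tb18, tb26, tb18, tb26]) 0 85 = true := by decide +kernel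

theorem rel18_0 : PR.allR (PR.fixF [tb18, tb28, tb18, tb28]) 0 85 = true := by decide +kernel

theorem rel19_0 : PR.allR (PR.fixF [tb22, tb26, tb22, tb26]) 0 85 = true := by decide +kernel

theorem rel20_0 : PR.allR (PR.fixF [tb20, tb28, tb20, tb28]) 0 85 = true := by decide +kernel

theorem rel21_0 : PR.allR (PR.fixF [tb20, tb30, tb20, tb30]) 0 85 = true := by decide +kernel

theorem rel22_0 : PR.allR (PR.fixF [tb22, tb28, tb22, tb28]) 0 85 = true := by decide +kernel

theorem rel23_0 : PR.allR (PR.fixF [tb22, tb30, tb22, tb30]) 0 85 = true := by decide +kernel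

theorem rel24_0 : PR.allR (PR.fixF [tb16, tb20, tb16, tb20, tb16, tb20]) 0 85 = true := by decide +kernel

theorem rel25_0 : PR.allR (PR.fixF [tb18, tb20, tb18, tb20, tb18, tb20, tb18, tb20, tb18, tb20]) 0 85 = true := by decide +kernel

theorem rel26_0 : PR.allR (PR.fixF [tb16, tb18, tb22, tb16, tb18, tb22, tb16, tb18, tb22]) 0 85 = true := by decide +kernel

theorem rel27_0 : PR.allR (PR.fixF [tb16, tb20, tb16, tb18, tb16, tb20, tb16, tb22]) 0 85 = true := by decide +kernel

theorem rel28_0 : PR.allR (PR.fixF [tb28, tb24, tb28, tb4, tb28, tb24, tb28, tb8]) 0 85 = true := by decide +kernel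

theorem mp0_0_0 : PR.allR (PR.mapsF [tb16] 0 0) 0 1 = true := by decide +kernel

theorem mp0_1_0 : PR.allR (PR.mapsF [tb18] 0 0) 0 1 = true := by decide +kernel

theorem mp0_2_0 : PR.allR (PR.mapsF [tb4] 0 0) 0 1 = true := by decide +kernel

theorem mp0_3_0 : PR.allR (PR.mapsF [tb6] 0 0) 0 1 = true := by decide +kernel

theorem mp0_4_0 : PR.allR (PR.mapsF [tb24] 0 0) 0 1 = true := by decide +kernel

theorem mp0_5_0 : PR.allR (PR.mapsF [tb26] 0 0) 0 1 = true := by decide +kernel

theorem mp0_6_0 : PR.allR (PR.mapsF [tb0] 0 0) 0 1 = true := by decide +kernel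

theorem mp0_7_0 : PR.allR (PR.mapsF [tb2] 0 0) 0 1 = true := by decide +kernel

theorem mp0_8_0 : PR.allR (PR.mapsF [tb20] 0 0) 0 1 = true := by decide +kernel

theorem mp0_9_0 : PR.allR (PR.mapsF [tb22] 0 0) 0 1 = true := by decide +kernel

theorem mp0_10_0 : PR.allR (PR.mapsF [tb6, tb12, tb14, tb6, tb4, tb12, tb4] 0 0) 0 1 = true := by decide +kernel

theorem mp1_0_0 : PR.allR (PR.mapsF [tb16] 1 20) 1 20 = true := by decide +kernel

theorem mp1_1_0 : PR.allR (PR.mapsF [tb18] 1 20) 1 20 = true := by decide +kernel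

theorem mp1_2_0 : PR.allR (PR.mapsF [tb4] 1 20) 1 20 = true := by decide +kernel

theorem mp1_3_0 : PR.allR (PR.mapsF [tb6] 1 20) 1 20 = true := by decide +kernel

theorem mp1_4_0 : PR.allR (PR.mapsF [tb24] 1 20) 1 20 = true := by decide +kernel

theorem mp1_5_0 : PR.allR (PR.mapsF [tb26] 1 20) 1 20 = true := by decide +kernel

theorem mp1_6_0 : PR.allR (PR.mapsF [tb0] 1 20) 1 20 = true := by decide +kernel

theorem mp1_7_0 : PR.allR (PR.mapsF [tb2] 1 20) 1 20 = true := by decide +kernel

theorem mp1_8_0 : PR.allR (PR.mapsF [tb20] 1 20) 1 20 = true := by decide +kernel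

theorem mp1_9_0 : PR.allR (PR.mapsF [tb22] 1 20) 1 20 = true := by decide +kernel

theorem mp1_10_0 : PR.allR (PR.mapsF [tb6, tb12, tb14, tb6, tb4, tb12, tb4] 1 20) 1 20 = true := by decide +kernel

theorem tre1_0 : PR.allR (PR.treeF tbW [[tb16], [tb18], [tb4], [tb6], [tb24], [tb26], [tb0], [tb2], [tb20], [tb22], [tb6, tb12, tb14, tb6, tb4, tb12, tb4]] 1) 2 19 = true := by decide +kernel

theorem mp2_0_0 : PR.allR (PR.mapsF [tb16] 21 84) 21 64 = true := by decide +kernel

theorem mp2_1_0 : PR.allR (PR.mapsF [tb18] 21 84) 21 64 = true := by decide +kernel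

theorem mp2_2_0 : PR.allR (PR.mapsF [tb4] 21 84) 21 64 = true := by decide +kernel

theorem mp2_3_0 : PR.allR (PR.mapsF [tb6] 21 84) 21 64 = true := by decide +kernel

theorem mp2_4_0 : PR.allR (PR.mapsF [tb24] 21 84) 21 64 = true := by decide +kernel

theorem mp2_5_0 : PR.allR (PR.mapsF [tb26] 21 84) 21 64 = true := by decide +kernel

theorem mp2_6_0 : PR.allR (PR.mapsF [tb0] 21 84) 21 64 = true := by decide +kernel

theorem mp2_7_0 : PR.allR (PR.mapsF [tb2] 21 84) 21 64 = true := by decide +kernel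

theorem mp2_8_0 : PR.allR (PR.mapsF [tb20] 21 84) 21 64 = true := by decide +kernel

theorem mp2_9_0 : PR.allR (PR.mapsF [tb22] 21 84) 21 64 = true := by decide +kernel

theorem mp2_10_0 : PR.allR (PR.mapsF [tb6, tb12, tb14, tb6, tb4, tb12, tb4] 21 84) 21 64 = true := by decide +kernel

theorem tre2_0 : PR.allR (PR.treeF tbW [[tb16], [tb18], [tb4], [tb6], [tb24], [tb26], [tb0], [tb2], [tb20], [tb22], [tb6, tb12, tb14, tb6, tb4, tb12, tb4]] 21) 22 63 = true := by decide +kernel

theorem root0 : PR.trace [] 0 = 0 := by decide +kernel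

theorem root1 : PR.trace [tb8] 0 = 1 := by decide +kernel

theorem root2 : PR.trace [tb28] 0 = 21 := by decide +kernel

end Cfsg.Agent.Lib.Helper11.S44
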