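import Cfsg.Agent.Lib.Helper11.SimpleCore
import Cfsg.Agent.Lib.Helper11.CoxGlue

/-! # Order and simplicity of a Coxeter-style presented group from certificates -/

set_option autoImplicit false

namespace Cfsg.Agent.Lib.Helper11.Simp

open Cfsg.Agent.Lib.Helper11.TC (ev ev_cons ev_nil)
open Cfsg.Agent.Lib.Helper11

/-! ### killing generators -/

/-- cancel adjacent equal letters -/
def red : List ℕ → List ℕ
  | [] => []
  | l :: w => match red w with
    | [] => [l]
    | l' :: w' => if l = l' then w' else l :: l' :: w'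

theorem ev_red {Γ : Type*} [Group Γ] (g : ℕ → Γ) (hsq : ∀ l, g l * g l = 1) (w : List ℕ) :
    ev g (red w) = ev g w := by
  induction w with
  | nil => rfl
  | cons l w ih =>
    rw [ev_cons, ← ih]
    simp only [red]
    cases hr : red w with
    | nil => simp
    | cons l' w' =>
      simp only
      split_ifs with h
      · subst h
        rw [ev_cons, ← mul_assoc, hsq, one_mul]
      · rw [ev_cons]

theorem ev_filter {Γ : Type*} [Group Γ] (g : ℕ → Γ) (K : List ℕ) (hK : ∀ l ∈ K, g l = 1)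
    (w : List ℕ) : ev g (w.filter (fun l => !K.contains l)) = ev g w := by
  induction w with
  | nil => rfl
  | cons l w ih =>
    rw [List.filter_cons]
    split_ifs with h
    · rw [ev_cons, ev_cons, ih]
    · rw [ev_cons, ih]
      have : l ∈ K := by simpa using h
      rw [hK l this, one_mul]

def killable (K : List ℕ) (r : List ℕ) : Option ℕ :=
  match red (r.filter (fun l => !K.contains l)) with
  | [t] => some t
  | _ => none

def killStep (rels : List (List ℕ)) (K : List ℕ) : List ℕ := K ++ rels.filterMap (killable K)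

def killIter (rels : List (List ℕ)) : ℕ → List ℕ → List ℕ
  | 0, K => K
  | k + 1, K => killIter rels k (killStep rels K)

theorem killStep_sound {Γ : Type*} [Group Γ] (g : ℕ → Γ) (hsq : ∀ l, g l * g l = 1)
    (rels : List (List ℕ)) (hrel : ∀ r ∈ rels, ev g r = 1) (K : List ℕ) (hK : ∀ l ∈ K, g l = 1) :
    ∀ l ∈ killStep rels K, g l = 1 := by
  intro l hl
  rcases List.mem_append.mp hl with h | h
  · exact hK l h
  · obtain ⟨r, hr, hrl⟩ := List.mem_filterMap.mp h
    have h1 : ev g (red (r.filter (fun l => !K.contains l))) = 1 := by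
      rw [ev_red g hsq, ev_filter g K hK, hrel r hr]
    unfold killable at hrl
    split at hrl
    · rename_i t heq
      rw [heq] at h1
      simp only [Option.some.injEq] at hrl
      subst hrl
      simpa using h1
    · simp at hrl

theorem killIter_sound {Γ : Type*} [Group Γ] (g : ℕ → Γ) (hsq : ∀ l, g l * g l = 1)
    (rels : List (List ℕ)) (hrel : ∀ r ∈ rels, ev g r = 1) (k : ℕ) :
    ∀ (K : List ℕ), (∀ l ∈ K, g l = 1) → ∀ l ∈ killIter rels k K, g l = 1 := by
  induction k with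
  | zero => intro K hK; exact hK
  | succ k ih => intro K hK; exact ih _ (killStep_sound g hsq rels hrel K hK)

/-! ### products of conjugates -/

def conjWord (xw : List ℕ) (cs : List (List ℕ)) : List ℕ :=
  cs.flatMap (fun c => c ++ xw ++ c.reverse)

theorem ev_append {Γ : Type*} [Group Γ] (g : ℕ → Γ) (u v : List ℕ) :
    ev g (u ++ v) = ev g u * ev g v := by
  induction u with
  | nil => simp
  | cons l u ih => rw [List.cons_append, ev_cons, ev_cons, ih, mul_assoc]

theorem ev_reverse {Γ : Type*} [Group Γ] (g : ℕ → Γ) (hsq : ∀ l, g l * g l = 1) (w : List ℕ) :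
    ev g w.reverse = (ev g w)⁻¹ := by
  induction w with
  | nil => simp
  | cons l w ih =>
    have h1 : (g l)⁻¹ = g l := (eq_inv_of_mul_eq_one_left (hsq l)).symm
    rw [List.reverse_cons, ev_append, ih, ev_cons, ev_cons, ev_nil, mul_one, mul_inv_rev, h1]

theorem conjWord_mem {Γ : Type*} [Group Γ] (g : ℕ → Γ) (hsq : ∀ l, g l * g l = 1)
    (M : Subgroup Γ) (hM : M.Normal) (xw : List ℕ) (hx : ev g xw ∈ M) (cs : List (List ℕ)) :
    ev g (conjWord xw cs) ∈ M := by
  induction cs with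
  | nil => exact M.one_mem
  | cons c cs ih =>
    have : conjWord xw (c :: cs) = (c ++ xw ++ c.reverse) ++ conjWord xw cs := by
      simp [conjWord]
    rw [this, ev_append, ev_append, ev_append, ev_reverse g hsq]
    exact M.mul_mem (hM.conj_mem _ hx _) ih

end Cfsg.Agent.Lib.Helper11.Simp

namespace Cfsg.Agent.Lib.Helper11.PR

open Cfsg.Agent.Lib.Helper11.TC (ev)

/-- transitivity, and the suborbits, of the permutation representation -/
theorem act_facts {G : Type*} [Group G] {n : ℕ} {tbl : ℕ → ℕ → ℕ} {inv : ℕ → ℕ} {Ls : List ℕ}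
    {subs : List (List ℕ)} {ivs : List (ℕ × ℕ)}
    (hT : Tables n tbl inv Ls) (hO : Orbits n tbl Ls subs ivs)
    (φ : G →* Equiv.Perm (Fin n)) (gen : ℕ → G) (hφ : ∀ l ∈ Ls, φ (gen l) = pg n tbl inv Ls l)
    (hn : 0 < n) :
    (∀ u : Fin n, ∃ g : G, φ g ⟨0, hn⟩ = u) ∧
    ∀ iv ∈ ivs, ∀ u v : Fin n, iv.1 ≤ u.1 → u.1 < iv.2 → iv.1 ≤ v.1 → v.1 < iv.2 →
      ∃ k : G, φ k ⟨0, hn⟩ = ⟨0, hn⟩ ∧ φ k u = v := by
  letI : MulAction G (Fin n) := MulAction.compHom (Fin n) φ
  have smul_def : ∀ (g : G) (u : Fin n), g • u = φ g u := fun g u => rfl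
  set H : Subgroup G := Subgroup.closure {g | ∃ s ∈ subs, g = ev gen s} with hH
  have key : ∀ (w : List ℕ), (∀ l ∈ w, l ∈ Ls) → ∀ u : Fin n,
      (((ev gen w)⁻¹ • u : Fin n) : ℕ) = trace (w.map tbl) u := by
    intro w hw u
    rw [smul_def, map_inv, map_ev φ gen _ Ls hφ w hw, ev_pg_inv_apply hT w hw]
  have horb : ∀ iv ∈ ivs, ∀ ha : iv.1 < n,
      MulAction.orbit H (⟨iv.1, ha⟩ : Fin n) = {u : Fin n | iv.1 ≤ u.1 ∧ u.1 < iv.2} := by
    intro iv hiv ha
    apply orbit_closure_eq _ _ (Set.toFinite _)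
    · rintro g ⟨s, hs, rfl⟩
      have h1 : ∀ y ∈ {u : Fin n | iv.1 ≤ u.1 ∧ u.1 < iv.2},
          (ev gen s)⁻¹ • y ∈ {u : Fin n | iv.1 ≤ u.1 ∧ u.1 < iv.2} := by
        intro y hy
        simp only [Set.mem_setOf_eq] at hy ⊢
        rw [key s (hO.subL s hs)]
        exact hO.maps iv hiv s hs y hy.1 hy.2
      have h2 := inv_smul_mem_of_mapsTo _ (Set.toFinite _) _ h1
      simpa using h2
    · simp only [Set.mem_setOf_eq]
      exact ⟨le_refl _, (hO.le iv hiv).1⟩
    · rintro ⟨y, hyn⟩ hy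
      simp only [Set.mem_setOf_eq] at hy
      induction y using Nat.strong_induction_on with
      | _ y ih =>
        rcases Nat.eq_or_lt_of_le hy.1 with h | h
        · exact ⟨1, Subgroup.one_mem _, by simp [h]⟩
        · obtain ⟨s, hs, p, hp1, hp2, hp3⟩ := hO.tree iv hiv y h hy.2
          obtain ⟨g, hg, hgp⟩ := ih p hp2 (by omega) ⟨hp1, by omega⟩
          refine ⟨(ev gen s)⁻¹ * g, Subgroup.mul_mem _ (Subgroup.inv_mem _ (Subgroup.subset_closure ⟨s, hs, rfl⟩)) hg, ?_⟩
          rw [mul_smul, hgp]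
          apply Fin.ext
          rw [key s (hO.subL s hs)]
          exact hp3
  have hstab : H ≤ MulAction.stabilizer G (⟨0, hn⟩ : Fin n) := by
    intro h hh
    rw [MulAction.mem_stabilizer_iff]
    have h1 : (⟨h, hh⟩ : H) • (⟨0, hn⟩ : Fin n) ∈ MulAction.orbit H (⟨0, hn⟩ : Fin n) := ⟨_, rfl⟩
    rw [horb (0, 1) hO.first hn] at h1
    simp only [Set.mem_setOf_eq] at h1
    apply Fin.ext
    have h2 : (((⟨h, hh⟩ : H) • (⟨0, hn⟩ : Fin n) : Fin n) : ℕ) = ((h • (⟨0, hn⟩ : Fin n) : Fin n) : ℕ) := rfl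
    simp only at h2 ⊢
    omega
  have hroot : ∀ iv ∈ ivs, ∀ ha : iv.1 < n, ∃ g : G, g • (⟨0, hn⟩ : Fin n) = ⟨iv.1, ha⟩ := by
    intro iv hiv ha
    obtain ⟨w, hw, hw0⟩ := hO.root iv hiv
    exact ⟨(ev gen w)⁻¹, Fin.ext (by rw [key w hw]; exact hw0)⟩
  constructor
  · intro u
    obtain ⟨iv, hiv, h1, h2⟩ := hO.cover u u.2
    have ha : iv.1 < n := by have := u.2; omega
    obtain ⟨g, hg⟩ := hroot iv hiv ha
    have hu : u ∈ MulAction.orbit H (⟨iv.1, ha⟩ : Fin n) := by
      rw [horb iv hiv ha]; exact ⟨h1, h2⟩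
    obtain ⟨h, rfl⟩ := hu
    refine ⟨(h : G) * g, ?_⟩
    rw [← smul_def, mul_smul, hg]; rfl
  · intro iv hiv u v h1 h2 h3 h4
    have ha : iv.1 < n := by have := u.2; omega
    have hu : u ∈ MulAction.orbit H (⟨iv.1, ha⟩ : Fin n) := by
      rw [horb iv hiv ha]; exact ⟨h1, h2⟩
    have hv : v ∈ MulAction.orbit H (⟨iv.1, ha⟩ : Fin n) := by
      rw [horb iv hiv ha]; exact ⟨h3, h4⟩
    obtain ⟨a, rfl⟩ := hu
    obtain ⟨b, rfl⟩ := hv
    refine ⟨(b : G) * (a : G)⁻¹, ?_, ?_⟩
    · have := hstab (H.mul_mem b.2 (H.inv_mem a.2))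
      rw [MulAction.mem_stabilizer_iff] at this
      exact this
    · rw [← smul_def]
      show ((b : G) * (a : G)⁻¹) • ((a : G) • (⟨iv.1, ha⟩ : Fin n)) = (b : G) • (⟨iv.1, ha⟩ : Fin n)
      rw [← mul_smul]; simp

end Cfsg.Agent.Lib.Helper11.PR
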