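import Cfsg.Agent.Lib.Helper11.LBCore

/-! # Simplicity of a transitive permutation group from a certificate -/

set_option autoImplicit false

namespace Cfsg.Agent.Lib.Helper11.Simp

open Cfsg.Agent.Lib.Helper11.TC (ev)
open Cfsg.Agent.Lib.Helper11

/-! ### sums of lengths of intervals -/

/-- the list of intervals is a chain from `a` to `b` -/
def isChain : List (ℕ × ℕ) → ℕ → ℕ → Bool
  | [], a, b => a == b
  | iv :: t, a, b => iv.1 == a && (decide (iv.1 ≤ iv.2) && isChain t iv.2 b)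

/-- all sums of lengths of sublists -/
def sums : List (ℕ × ℕ) → List ℕ
  | [] => [0]
  | iv :: t => sums t ++ (sums t).map (fun s => (iv.2 - iv.1) + s)

theorem ncard_mem_sums {n : ℕ} (S : Set (Fin n)) (ivs : List (ℕ × ℕ)) :
    ∀ (a b : ℕ), isChain ivs a b = true → b ≤ n →
    (∀ iv ∈ ivs, (∀ u : Fin n, iv.1 ≤ u.1 → u.1 < iv.2 → u ∈ S) ∨
      (∀ u : Fin n, iv.1 ≤ u.1 → u.1 < iv.2 → u ∉ S)) →
    (S ∩ {u : Fin n | a ≤ u.1 ∧ u.1 < b}).ncard ∈ sums ivs := by
  induction ivs with
  | nil =>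
    intro a b h _ _
    simp only [isChain, beq_iff_eq] at h
    subst h
    have : (S ∩ {u : Fin n | a ≤ u.1 ∧ u.1 < a}) = ∅ := by
      ext u; simp only [Set.mem_inter_iff, Set.mem_setOf_eq, Set.mem_empty_iff_false, iff_false]
      omega
    rw [this]; simp [sums]
  | cons iv t ih =>
    intro a b h hb hd
    simp only [isChain, Bool.and_eq_true, beq_iff_eq, decide_eq_true_eq] at h
    obtain ⟨h1, h2, h3⟩ := h
    have ht := ih iv.2 b h3 hb (fun iv' h' => hd iv' (List.mem_cons_of_mem _ h'))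
    have hle : ∀ (l : List (ℕ × ℕ)) (a b : ℕ), isChain l a b = true → a ≤ b := by
      intro l
      induction l with
      | nil => intro a b h; simp only [isChain, beq_iff_eq] at h; omega
      | cons iv t ih =>
        intro a b h
        simp only [isChain, Bool.and_eq_true, beq_iff_eq, decide_eq_true_eq] at h
        have := ih _ _ h.2.2
        omega
    have h4 : iv.2 ≤ b := hle _ _ _ h3
    have hsplit : (S ∩ {u : Fin n | a ≤ u.1 ∧ u.1 < b}) =
        (S ∩ {u : Fin n | iv.1 ≤ u.1 ∧ u.1 < iv.2}) ∪ (S ∩ {u : Fin n | iv.2 ≤ u.1 ∧ u.1 < b}) := by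
      ext u
      simp only [Set.mem_inter_iff, Set.mem_setOf_eq, Set.mem_union]
      constructor
      · rintro ⟨hs, h5, h6⟩
        by_cases h7 : u.1 < iv.2
        · exact Or.inl ⟨hs, by omega, h7⟩
        · exact Or.inr ⟨hs, by omega, h6⟩
      · rintro (⟨hs, h5, h6⟩ | ⟨hs, h5, h6⟩)
        · exact ⟨hs, by omega, by omega⟩
        · exact ⟨hs, by omega, h6⟩
    have hdisj : Disjoint (S ∩ {u : Fin n | iv.1 ≤ u.1 ∧ u.1 < iv.2})
        (S ∩ {u : Fin n | iv.2 ≤ u.1 ∧ u.1 < b}) := by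
      rw [Set.disjoint_left]
      rintro u ⟨_, _, h5⟩ ⟨_, h6, _⟩
      omega
    rw [hsplit, Set.ncard_union_eq hdisj (Set.toFinite _) (Set.toFinite _)]
    simp only [sums, List.mem_append, List.mem_map]
    rcases hd iv List.mem_cons_self with hin | hout
    · right
      refine ⟨_, ht, ?_⟩
      congr 1
      have : (S ∩ {u : Fin n | iv.1 ≤ u.1 ∧ u.1 < iv.2}) = {u : Fin n | iv.1 ≤ u.1 ∧ u.1 < iv.2} := by
        ext u
        simp only [Set.mem_inter_iff, Set.mem_setOf_eq, and_iff_right_iff_imp]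
        exact fun h => hin u h.1 h.2
      rw [this, PR.ncard_interval n iv.1 iv.2 h2 (by omega)]
    · left
      have : (S ∩ {u : Fin n | iv.1 ≤ u.1 ∧ u.1 < iv.2}) = ∅ := by
        ext u
        simp only [Set.mem_inter_iff, Set.mem_setOf_eq, Set.mem_empty_iff_false, iff_false]
        exact fun h => hout u h.2.1 h.2.2 h.1
      rw [this, Set.ncard_empty, zero_add]
      exact ht

/-! ### maximality of the point stabiliser -/

theorem maximal_stab {G : Type*} [Group G] {n : ℕ} [MulAction G (Fin n)] (x0 : Fin n)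
    (hx0 : x0.1 = 0) (htrans : MulAction.orbit G x0 = Set.univ)
    (tl : List (ℕ × ℕ))
    (horb : ∀ iv ∈ tl, ∀ u v : Fin n, iv.1 ≤ u.1 → u.1 < iv.2 → iv.1 ≤ v.1 → v.1 < iv.2 →
      ∃ k ∈ MulAction.stabilizer G x0, k • u = v)
    (hchain : isChain tl 1 n = true)
    (harith : ∀ s ∈ sums tl, (1 + s) ∣ n → s = 0 ∨ 1 + s = n)
    (L : Subgroup G) (hL : MulAction.stabilizer G x0 ≤ L) :
    L = MulAction.stabilizer G x0 ∨ L = ⊤ := by
  have hn : 0 < n := by have := x0.2; omega
  set S : Set (Fin n) := MulAction.orbit L x0 with hS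
  have hx0S : x0 ∈ S := MulAction.mem_orbit_self _
  have hidx : (MulAction.stabilizer G x0).index = n := by
    rw [MulAction.index_stabilizer, htrans, Set.ncard_univ]; simp
  have hrel : (MulAction.stabilizer G x0).relIndex L = S.ncard := by
    rw [hS, ← MulAction.index_stabilizer (G := L) x0, Subgroup.relIndex]
    congr 1
  have hdvd : S.ncard ∣ n := by
    rw [← hrel]
    exact Dvd.intro _ ((Subgroup.relIndex_mul_index hL).trans hidx)
  have hd : ∀ iv ∈ tl, (∀ u : Fin n, iv.1 ≤ u.1 → u.1 < iv.2 → u ∈ S) ∨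
      (∀ u : Fin n, iv.1 ≤ u.1 → u.1 < iv.2 → u ∉ S) := by
    intro iv hiv
    by_cases hex : ∃ u : Fin n, iv.1 ≤ u.1 ∧ u.1 < iv.2 ∧ u ∈ S
    · left
      obtain ⟨u, h1, h2, ⟨l, hl⟩⟩ := hex
      intro v h3 h4
      obtain ⟨k, hk, hkv⟩ := horb iv hiv u v h1 h2 h3 h4
      refine ⟨⟨k, hL hk⟩ * l, ?_⟩
      rw [← hkv, ← hl]
      exact mul_smul _ _ _
    · right
      intro u h1 h2 h3
      exact hex ⟨u, h1, h2, h3⟩
  have hm := ncard_mem_sums S tl 1 n hchain le_rfl hd
  have hsplit : S = {x0} ∪ (S ∩ {u : Fin n | 1 ≤ u.1 ∧ u.1 < n}) := by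
    ext u
    simp only [Set.mem_union, Set.mem_singleton_iff, Set.mem_inter_iff, Set.mem_setOf_eq]
    constructor
    · intro hu
      by_cases h0 : u.1 = 0
      · left; exact Fin.ext (by omega)
      · right; exact ⟨hu, by omega, u.2⟩
    · rintro (rfl | h)
      · exact hx0S
      · exact h.1
  have hcard : S.ncard = 1 + (S ∩ {u : Fin n | 1 ≤ u.1 ∧ u.1 < n}).ncard := by
    conv_lhs => rw [hsplit]
    rw [Set.ncard_union_eq _ (Set.toFinite _) (Set.toFinite _), Set.ncard_singleton]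
    rw [Set.disjoint_left]
    rintro u hu ⟨_, h1, _⟩
    rw [Set.mem_singleton_iff] at hu
    subst hu
    omega
  rcases harith _ hm (by rw [← hcard]; exact hdvd) with h0 | h1
  · left
    apply le_antisymm _ hL
    intro l hl
    rw [MulAction.mem_stabilizer_iff]
    have h1 : S.ncard = 1 := by rw [hcard, h0]
    obtain ⟨y, hy⟩ := Set.ncard_eq_one.mp h1
    have h2 : x0 = y := by rw [hy] at hx0S; exact hx0S
    have h3 : l • x0 ∈ S := ⟨⟨l, hl⟩, rfl⟩
    rw [hy, Set.mem_singleton_iff, ← h2] at h3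
    exact h3
  · right
    have h2 := Subgroup.relIndex_mul_index hL
    rw [hrel, hidx, hcard, h1] at h2
    rw [← Subgroup.index_eq_one]
    exact Nat.eq_of_mul_eq_mul_left hn (by rw [h2, mul_one])

/-! ### simplicity -/

theorem simple_of_maximal {G X : Type*} [Group G] [Finite G] [Nontrivial G] [MulAction G X]
    [FaithfulSMul G X] (x0 : X) (htrans : MulAction.orbit G x0 = Set.univ)
    (hmax : ∀ L : Subgroup G, MulAction.stabilizer G x0 ≤ L →
      L = MulAction.stabilizer G x0 ∨ L = ⊤)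
    (e : ℕ) (hcop : Nat.Coprime e (Nat.card (MulAction.stabilizer G x0)))
    (x : G) (hx : x ^ e = 1) (hcl : ∀ M : Subgroup G, M.Normal → x ∈ M → M = ⊤) :
    IsSimpleGroup G := by
  refine ⟨fun M hM => ?_⟩
  by_cases hle : M ≤ MulAction.stabilizer G x0
  · left
    rw [eq_bot_iff]
    intro m hm
    rw [Subgroup.mem_bot]
    apply FaithfulSMul.eq_of_smul_eq_smul (α := X)
    intro y
    have hy : y ∈ MulAction.orbit G x0 := by rw [htrans]; trivial
    obtain ⟨g, rfl⟩ := hy
    have h1 : g⁻¹ * m * g ∈ M := by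
      have := hM.conj_mem m hm g⁻¹
      simpa using this
    have h2 := hle h1
    rw [MulAction.mem_stabilizer_iff] at h2
    rw [one_smul]
    calc m • g • x0 = g • ((g⁻¹ * m * g) • x0) := by simp only [← mul_smul]; group
      _ = g • x0 := by rw [h2]
  · right
    apply hcl M hM
    have htop : M ⊔ MulAction.stabilizer G x0 = ⊤ := by
      rcases hmax _ le_sup_right with h | h
      · exact absurd (h ▸ le_sup_left) hle
      · exact h
    have hdvd : M.index ∣ Nat.card (MulAction.stabilizer G x0) := by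
      rw [← Subgroup.relIndex_top_right, ← htop, Subgroup.relIndex_sup_left]
      exact Subgroup.relIndex_dvd_card _ _
    have h1 : ((x : G ⧸ M)) ^ e = 1 := by rw [← QuotientGroup.mk_pow, hx]; rfl
    have h2 : ((x : G ⧸ M)) ^ M.index = 1 := by
      rw [Subgroup.index_eq_card]; exact pow_card_eq_one'
    have h3 := pow_gcd_eq_one.mpr ⟨h1, h2⟩
    have h4 : Nat.gcd e M.index = 1 := Nat.Coprime.coprime_dvd_right hdvd hcop
    rw [h4, pow_one] at h3
    exact (QuotientGroup.eq_one_iff x).mp h3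

end Cfsg.Agent.Lib.Helper11.Simp
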