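import Cfsg.Agent.Lib.Helper11.SimpleCert

/-! # Master theorem: order and simplicity of a Coxeter-style presented group -/

set_option autoImplicit false

namespace Cfsg.Agent.Lib.Helper11.Cox

open Cfsg.Spor Cfsg.Agent.Lib.Helper11.TC Cfsg.Agent.Lib.Helper11

variable {α : Type} [DecidableEq α]
variable {edges : List (α × ℕ × α)} {extra : List (FreeGroup α)} {dec : ℕ → Option α}
  {code : α → ℕ} {Ls : List ℕ} {coxW extraW : List (List ℕ)}

theorem gen_sq (E : Enc edges extra dec code Ls coxW extraW) (l : ℕ) :
    genOf dec (PresentedGroup.of : α → CoxPresented α edges extra) l *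
      genOf dec (PresentedGroup.of : α → CoxPresented α edges extra) l = 1 := by
  simp only [genOf]
  cases dec l with
  | none => simp
  | some x => exact of_sq x (E.node x)

theorem gen_closure (E : Enc edges extra dec code Ls coxW extraW) :
    Subgroup.closure {x | ∃ l ∈ Ls, x =
      genOf dec (PresentedGroup.of : α → CoxPresented α edges extra) l} = ⊤ := by
  rw [eq_top_iff, ← PresentedGroup.closure_range_of, Subgroup.closure_le]
  rintro _ ⟨x, rfl⟩
  apply Subgroup.subset_closure
  exact ⟨code x, E.code_ls x, (genOf_code dec code E.dec_code _ x).symm⟩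

/-- the permutation representation given by verified tables -/
theorem exists_rep (E : Enc edges extra dec code Ls coxW extraW)
    {n : ℕ} {tbl : ℕ → ℕ → ℕ} (hT : PR.Tables n tbl (fun l => l) Ls)
    (hR : ∀ r ∈ coxW ++ extraW, ∀ u < n, PR.trace (r.map tbl) u = u) :
    ∃ φ : CoxPresented α edges extra →* Equiv.Perm (Fin n), ∀ l ∈ Ls,
      φ (genOf dec (PresentedGroup.of : α → CoxPresented α edges extra) l) =
        PR.pg n tbl (fun l => l) Ls l := by
  have hpsq : ∀ l ∈ Ls, PR.pg n tbl (fun l => l) Ls l * PR.pg n tbl (fun l => l) Ls l = 1 := by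
    intro l hl
    have h1 : PR.pg n tbl (fun l => l) Ls l = (PR.pg n tbl (fun l => l) Ls l)⁻¹ := PR.pg_inv hT l hl
    nth_rewrite 1 [h1]
    simp
  have hgp : ∀ l ∈ Ls, genOf dec (fun x => PR.pg n tbl (fun l => l) Ls (code x)) l =
      PR.pg n tbl (fun l => l) Ls l := by
    intro l hl
    have := E.ls l hl
    unfold genOf
    cases hd : dec l with
    | none => rw [hd] at this; simp at this
    | some x =>
      rw [hd] at this
      simp only [Option.map_some, Option.some.injEq] at this
      simp only [this]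
  have hev : ∀ r : List ℕ, (∀ l ∈ r, l ∈ Ls) →
      ev (genOf dec (fun x => PR.pg n tbl (fun l => l) Ls (code x))) r =
      ev (PR.pg n tbl (fun l => l) Ls) r := by
    intro r hr
    induction r with
    | nil => rfl
    | cons l r ih =>
      rw [ev_cons, ev_cons, hgp l (hr l List.mem_cons_self),
        ih (fun l' hl' => hr l' (List.mem_cons_of_mem _ hl'))]
  have hlift := lift_ok E (fun x => PR.pg n tbl (fun l => l) Ls (code x))
    (fun x => hpsq _ (E.code_ls x)) (by
      intro r hr
      rw [hev r (E.wl r hr)]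
      exact PR.ev_pg_eq_one hT r (E.wl r hr) (hR r hr))
  refine ⟨PresentedGroup.toGroup hlift, ?_⟩
  intro l hl
  have := E.ls l hl
  simp only [genOf]
  cases hd : dec l with
  | none => rw [hd] at this; simp at this
  | some x =>
    rw [hd] at this
    simp only [Option.map_some, Option.some.injEq] at this
    show (PresentedGroup.toGroup hlift) (PresentedGroup.of x) = _
    rw [PresentedGroup.toGroup.of, this]

/-- Order, faithfulness and the solution of the word problem by base images. -/
theorem order_master (E : Enc edges extra dec code Ls coxW extraW)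
    {n N : ℕ} {tbl : ℕ → ℕ → ℕ} (hT : PR.Tables n tbl (fun l => l) Ls)
    (φ : CoxPresented α edges extra →* Equiv.Perm (Fin n))
    (hφ : ∀ l ∈ Ls, φ (genOf dec (PresentedGroup.of : α → CoxPresented α edges extra) l) =
        PR.pg n tbl (fun l => l) Ls l)
    (hUB : Finite (CoxPresented α edges extra) ∧ Nat.card (CoxPresented α edges extra) ≤ N)
    (base : List ℕ) (hbase : ∀ β ∈ base, β < n)
    (hLB : ∀ c, c ≤ Nat.card (PR.stabChain (PR.letterGroup n tbl (fun l => l) Ls) base) →
      N * c ≤ Nat.card (PR.letterGroup n tbl (fun l => l) Ls))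
    (hN : 0 < N) :
    Nat.card (CoxPresented α edges extra) = N ∧ Function.Injective φ ∧
    ∀ w : List ℕ, (∀ l ∈ w, l ∈ Ls) → (∀ β ∈ base, PR.trace (w.map tbl) β = β) →
      ev (genOf dec (PresentedGroup.of : α → CoxPresented α edges extra)) w = 1 := by
  obtain ⟨hfin, hle⟩ := hUB
  set G := CoxPresented α edges extra with hG
  set gen : ℕ → G := genOf dec (PresentedGroup.of : α → CoxPresented α edges extra) with hgen
  set A := PR.letterGroup n tbl (fun l => l) Ls with hA
  have hAr : A ≤ φ.range := by
    rw [hA, PR.letterGroup, Subgroup.closure_le]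
    rintro _ ⟨l, hl, rfl⟩
    exact ⟨gen l, hφ l hl⟩
  have h1 : Nat.card A ≤ Nat.card φ.range := Subgroup.card_le_of_le hAr
  have h2 : Nat.card φ.range ≤ Nat.card G :=
    Nat.card_le_card_of_surjective φ.rangeRestrict φ.rangeRestrict_surjective
  have h3 : N ≤ Nat.card A := by
    have := hLB 1 (Nat.card_pos)
    omega
  have hcard : Nat.card G = N := by omega
  have hinj : Function.Injective φ := by
    have hb := Function.Surjective.bijective_of_nat_card_le φ.rangeRestrict_surjective
      (by omega : Nat.card G ≤ Nat.card φ.range)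
    intro a b hab
    apply hb.1
    exact Subtype.ext hab
  have hbot : PR.stabChain A base = ⊥ := by
    have h4 := hLB _ le_rfl
    have h5 : Nat.card (PR.stabChain A base) ≤ 1 := by
      by_contra hcon
      have : N * 2 ≤ N * Nat.card (PR.stabChain A base) := Nat.mul_le_mul_left _ (by omega)
      omega
    exact Subgroup.eq_bot_of_card_le _ h5
  refine ⟨hcard, hinj, ?_⟩
  intro w hw hfix
  have h6 := PR.ev_inv_mem_stabChain hT w hw base (fun β hβ => ⟨hbase β hβ, hfix β hβ⟩)
  rw [← hA, hbot, Subgroup.mem_bot, inv_eq_one] at h6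
  apply hinj
  rw [PR.map_ev φ gen _ Ls hφ w hw, h6, map_one]

open Simp in
/-- **Master theorem for order and simplicity.** -/
theorem simple_master (E : Enc edges extra dec code Ls coxW extraW)
    {n N : ℕ} {tbl : ℕ → ℕ → ℕ} {subs : List (List ℕ)} {tl : List (ℕ × ℕ)}
    (hT : PR.Tables n tbl (fun l => l) Ls)
    (hR : ∀ r ∈ coxW ++ extraW, ∀ u < n, PR.trace (r.map tbl) u = u)
    (hO : PR.Orbits n tbl Ls subs ((0, 1) :: tl))
    (hUB : Finite (CoxPresented α edges extra) ∧ Nat.card (CoxPresented α edges extra) ≤ N)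
    (base : List ℕ) (hbase : ∀ β ∈ base, β < n)
    (hLB : ∀ c, c ≤ Nat.card (PR.stabChain (PR.letterGroup n tbl (fun l => l) Ls) base) →
      N * c ≤ Nat.card (PR.letterGroup n tbl (fun l => l) Ls))
    (hN : 1 < N)
    (hchain : isChain tl 1 n = true)
    (harith : ∀ s ∈ sums tl, (1 + s) ∣ n → s = 0 ∨ 1 + s = n)
    (e : ℕ) (hcop : Nat.Coprime e (N / n))
    (xw : List ℕ) (hxw : ∀ l ∈ xw, l ∈ Ls)
    (hxe : ∀ β ∈ base, PR.trace (((List.replicate e xw).flatten).map tbl) β = β)
    (s : ℕ) (hs : s ∈ Ls) (cs : List (List ℕ)) (hcs : ∀ c ∈ cs, ∀ l ∈ c, l ∈ Ls)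
    (hid : ∀ β ∈ base, PR.trace ((s :: conjWord xw cs).map tbl) β = β)
    (fuel : ℕ) (hkill : ∀ l ∈ Ls, l ∈ killIter (coxW ++ extraW) fuel [s]) :
    IsSimpleGroup (CoxPresented α edges extra) ∧ Nat.card (CoxPresented α edges extra) = N := by
  obtain ⟨φ, hφ⟩ := exists_rep E hT hR
  obtain ⟨hcard, hinj, hwp⟩ := order_master E hT φ hφ hUB base hbase hLB (by omega)
  haveI hfin := hUB.1
  refine ⟨?_, hcard⟩
  set G := CoxPresented α edges extra with hG
  set gen : ℕ → G := genOf dec (PresentedGroup.of : α → CoxPresented α edges extra) with hgen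
  have hn : 0 < n := by
    have := (hO.le _ hO.first); simp at this; omega
  obtain ⟨htr, horb⟩ := PR.act_facts hT hO φ gen hφ hn
  letI : MulAction G (Fin n) := MulAction.compHom (Fin n) φ
  have smul_def : ∀ (g : G) (u : Fin n), g • u = φ g u := fun g u => rfl
  haveI : FaithfulSMul G (Fin n) := ⟨fun {a b} h => hinj (Equiv.ext h)⟩
  haveI : Nontrivial G := by
    rw [← Finite.one_lt_card_iff_nontrivial, hcard]; exact hN
  have htrans : MulAction.orbit G (⟨0, hn⟩ : Fin n) = Set.univ := by
    rw [Set.eq_univ_iff_forall]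
    intro u
    obtain ⟨g, hg⟩ := htr u
    exact ⟨g, hg⟩
  have hmax := maximal_stab (G := G) (⟨0, hn⟩ : Fin n) rfl htrans tl
    (fun iv hiv u v h1 h2 h3 h4 => by
      obtain ⟨k, hk1, hk2⟩ := horb iv (List.mem_cons_of_mem _ hiv) u v h1 h2 h3 h4
      exact ⟨k, hk1, hk2⟩) hchain harith
  have hidx : (MulAction.stabilizer G (⟨0, hn⟩ : Fin n)).index = n := by
    rw [MulAction.index_stabilizer, htrans, Set.ncard_univ]; simp
  have hst : Nat.card (MulAction.stabilizer G (⟨0, hn⟩ : Fin n)) = N / n := by
    have := Subgroup.index_mul_card (MulAction.stabilizer G (⟨0, hn⟩ : Fin n))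
    rw [hidx, hcard] at this
    exact (Nat.div_eq_of_eq_mul_right hn this.symm).symm
  have hsq : ∀ l, gen l * gen l = 1 := gen_sq E
  apply simple_of_maximal (⟨0, hn⟩ : Fin n) htrans hmax e (by rw [hst]; exact hcop) (ev gen xw)
  · rw [← ev_flatten_replicate]
    apply hwp _ _ hxe
    intro l hl
    obtain ⟨w, hw, hlw⟩ := List.mem_flatten.mp hl
    rw [List.eq_of_mem_replicate hw] at hlw
    exact hxw l hlw
  · intro M hM hx
    have h1 : ev gen (s :: conjWord xw cs) = 1 := by
      apply hwp _ _ hid
      intro l hl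
      rcases List.mem_cons.mp hl with rfl | hl
      · exact hs
      · obtain ⟨c, hc, hlc⟩ := List.mem_flatMap.mp hl
        simp only [List.mem_append, List.mem_reverse] at hlc
        rcases hlc with (h | h) | h
        · exact hcs c hc l h
        · exact hxw l h
        · exact hcs c hc l h
    have h2 : gen s ∈ M := by
      rw [ev_cons] at h1
      rw [eq_inv_of_mul_eq_one_left h1]
      exact M.inv_mem (conjWord_mem gen hsq M hM xw hx cs)
    -- pass to the quotient
    have hq : ∀ w : List ℕ, ev (fun l => (gen l : G ⧸ M)) w = ((ev gen w : G) : G ⧸ M) := by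
      intro w
      induction w with
      | nil => rfl
      | cons l w ih => rw [ev_cons, ev_cons, ih]; rfl
    have h3 := killIter_sound (fun l => (gen l : G ⧸ M))
      (fun l => by
        show ((gen l * gen l : G) : G ⧸ M) = 1
        rw [hsq]; rfl)
      (coxW ++ extraW) (fun r hr => by rw [hq, words_hold E r hr]; rfl) fuel [s]
      (fun l hl => by
        rw [List.mem_singleton] at hl
        subst hl
        exact (QuotientGroup.eq_one_iff _).mpr h2)
    rw [eq_top_iff, ← gen_closure E, Subgroup.closure_le]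
    rintro _ ⟨l, hl, rfl⟩
    exact (QuotientGroup.eq_one_iff _).mp (h3 l (hkill l hl))

end Cfsg.Agent.Lib.Helper11.Cox
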