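import Cfsg.Agent.Lib.Helper11.SimpleMaster

/-! # A stronger collapse check (identification of generators) and the corresponding master theorem -/

set_option autoImplicit false

namespace Cfsg.Agent.Lib.Helper11.Simp

open Cfsg.Agent.Lib.Helper11.TC (ev ev_cons ev_nil)
open Cfsg.Agent.Lib.Helper11

/-- apply a list of replacements of letters, in order -/
def sub (K : List (ℕ × ℕ)) (l : ℕ) : ℕ := K.foldl (fun l p => if l = p.1 then p.2 else l) l

theorem g_sub {Γ : Type*} (g : ℕ → Γ) (K : List (ℕ × ℕ)) (hK : ∀ p ∈ K, g p.1 = g p.2) (l : ℕ) :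
    g (sub K l) = g l := by
  induction K generalizing l with
  | nil => rfl
  | cons p K ih =>
    have h1 : sub (p :: K) l = sub K (if l = p.1 then p.2 else l) := rfl
    rw [h1, ih (fun q hq => hK q (List.mem_cons_of_mem _ hq))]
    split_ifs with h
    · rw [h, hK p List.mem_cons_self]
    · rfl

theorem ev_map_sub {Γ : Type*} [Group Γ] (g : ℕ → Γ) (K : List (ℕ × ℕ))
    (hK : ∀ p ∈ K, g p.1 = g p.2) (w : List ℕ) : ev g (w.map (sub K)) = ev g w := by
  induction w with
  | nil => rfl
  | cons l w ih => rw [List.map_cons, ev_cons, ev_cons, ih, g_sub g K hK]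

theorem ev_filter31 {Γ : Type*} [Group Γ] (g : ℕ → Γ) (h31 : g 31 = 1) (w : List ℕ) :
    ev g (w.filter (fun l => l != 31)) = ev g w := by
  induction w with
  | nil => rfl
  | cons l w ih =>
    rw [List.filter_cons]
    split_ifs with h
    · rw [ev_cons, ev_cons, ih]
    · have : l = 31 := by simpa using h
      rw [ev_cons, ih, this, h31, one_mul]

def newPair (K : List (ℕ × ℕ)) (r : List ℕ) : Option (ℕ × ℕ) :=
  match red ((r.map (sub K)).filter (fun l => l != 31)) with
  | [t] => some (t, 31)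
  | [s, t] => some (t, s)
  | _ => none

def idPass (rels : List (List ℕ)) (K : List (ℕ × ℕ)) : List (ℕ × ℕ) :=
  rels.foldl (fun K r => match newPair K r with
    | some p => K ++ [p]
    | none => K) K

def idIter (rels : List (List ℕ)) : ℕ → List (ℕ × ℕ) → List (ℕ × ℕ)
  | 0, K => K
  | k + 1, K => idIter rels k (idPass rels K)

theorem newPair_sound {Γ : Type*} [Group Γ] (g : ℕ → Γ) (hsq : ∀ l, g l * g l = 1) (h31 : g 31 = 1)
    (K : List (ℕ × ℕ)) (hK : ∀ p ∈ K, g p.1 = g p.2) (r : List ℕ) (hr : ev g r = 1)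
    (p : ℕ × ℕ) (hp : newPair K r = some p) : g p.1 = g p.2 := by
  have h1 : ev g (red ((r.map (sub K)).filter (fun l => l != 31))) = 1 := by
    rw [ev_red g hsq, ev_filter31 g h31, ev_map_sub g K hK, hr]
  unfold newPair at hp
  split at hp
  · rename_i t heq
    rw [heq] at h1
    simp only [Option.some.injEq] at hp
    subst hp
    simpa [h31] using h1
  · rename_i s t heq
    rw [heq] at h1
    simp only [Option.some.injEq] at hp
    subst hp
    simp only [ev_cons, ev_nil, mul_one] at h1
    show g t = g s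
    have h2 : g s * g t = g s * g s := by rw [h1, hsq]
    exact mul_left_cancel h2
  · simp at hp

theorem idPass_sound {Γ : Type*} [Group Γ] (g : ℕ → Γ) (hsq : ∀ l, g l * g l = 1) (h31 : g 31 = 1)
    (rels : List (List ℕ)) (hrel : ∀ r ∈ rels, ev g r = 1) :
    ∀ (K : List (ℕ × ℕ)), (∀ p ∈ K, g p.1 = g p.2) → ∀ p ∈ idPass rels K, g p.1 = g p.2 := by
  induction rels with
  | nil => intro K hK; exact hK
  | cons r rels ih =>
    intro K hK
    have h1 : idPass (r :: rels) K = idPass rels (match newPair K r with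
      | some p => K ++ [p]
      | none => K) := rfl
    rw [h1]
    apply ih (fun r' hr' => hrel r' (List.mem_cons_of_mem _ hr'))
    cases hn : newPair K r with
    | none => exact hK
    | some q =>
      intro p hp
      rcases List.mem_append.mp hp with h | h
      · exact hK p h
      · rw [List.mem_singleton] at h
        subst h
        exact newPair_sound g hsq h31 K hK r (hrel r List.mem_cons_self) _ hn

theorem idIter_sound {Γ : Type*} [Group Γ] (g : ℕ → Γ) (hsq : ∀ l, g l * g l = 1) (h31 : g 31 = 1)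
    (rels : List (List ℕ)) (hrel : ∀ r ∈ rels, ev g r = 1) (k : ℕ) :
    ∀ (K : List (ℕ × ℕ)), (∀ p ∈ K, g p.1 = g p.2) → ∀ p ∈ idIter rels k K, g p.1 = g p.2 := by
  induction k with
  | zero => intro K hK; exact hK
  | succ k ih => intro K hK; exact ih _ (idPass_sound g hsq h31 rels hrel K hK)

/-- the collapse property used by the master theorem -/
def Collapses (Ls : List ℕ) (rels : List (List ℕ)) (s : ℕ) : Prop :=
  ∀ (Γ : Type) [Group Γ] (g : ℕ → Γ), (∀ l, g l * g l = 1) → g 31 = 1 →
    (∀ r ∈ rels, ev g r = 1) → g s = 1 → ∀ l ∈ Ls, g l = 1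

theorem collapses_of_idIter (Ls : List ℕ) (rels : List (List ℕ)) (s : ℕ) (fuel : ℕ)
    (h : ∀ l ∈ Ls, sub (idIter rels fuel [(s, 31)]) l = 31) : Collapses Ls rels s := by
  intro Γ _ g hsq h31 hrel hs l hl
  have h1 := idIter_sound g hsq h31 rels hrel fuel [(s, 31)] (by
    intro p hp
    rw [List.mem_singleton] at hp
    subst hp
    rw [hs, h31])
  rw [← g_sub g _ h1 l, h l hl, h31]

/-- products of two relators -/
def pairRels (rels : List (List ℕ)) : List (List ℕ) :=
  rels.flatMap (fun r1 => rels.flatMap (fun r2 => [r1 ++ r2, r1 ++ r2.reverse]))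

theorem collapses_of_pairs {Ls : List ℕ} {rels : List (List ℕ)} {s : ℕ}
    (h : Collapses Ls (rels ++ pairRels rels) s) : Collapses Ls rels s := by
  intro Γ _ g hsq h31 hrel hs
  apply h Γ g hsq h31 _ hs
  intro r hr
  rcases List.mem_append.mp hr with h | h
  · exact hrel r h
  · obtain ⟨r1, h1, h'⟩ := List.mem_flatMap.mp h
    obtain ⟨r2, h2, h''⟩ := List.mem_flatMap.mp h'
    simp only [List.mem_cons, List.mem_nil_iff, or_false] at h''
    rcases h'' with rfl | rfl
    · rw [ev_append, hrel r1 h1, hrel r2 h2, one_mul]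
    · rw [ev_append, ev_reverse g hsq, hrel r1 h1, hrel r2 h2]; simp

end Cfsg.Agent.Lib.Helper11.Simp

namespace Cfsg.Agent.Lib.Helper11.Cox

open Cfsg.Spor Cfsg.Agent.Lib.Helper11.TC Cfsg.Agent.Lib.Helper11

variable {α : Type} [DecidableEq α]
variable {edges : List (α × ℕ × α)} {extra : List (FreeGroup α)} {dec : ℕ → Option α}
  {code : α → ℕ} {Ls : List ℕ} {coxW extraW : List (List ℕ)}

open Simp in
/-- **Master theorem for order and simplicity**, with an abstract collapse hypothesis. -/
theorem simple_master' (E : Enc edges extra dec code Ls coxW extraW)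
    {n N : ℕ} {tbl : ℕ → ℕ → ℕ} {subs : List (List ℕ)} {tl : List (ℕ × ℕ)}
    (hT : PR.Tables n tbl (fun l => l) Ls)
    (hR : ∀ r ∈ coxW ++ extraW, ∀ u < n, PR.trace (r.map tbl) u = u)
    (hO : PR.Orbits n tbl Ls subs ((0, 1) :: tl))
    (hUB : Finite (CoxPresented α edges extra) ∧ Nat.card (CoxPresented α edges extra) ≤ N)
    (base : List ℕ) (hbase : ∀ β ∈ base, β < n)
    (hLB : ∀ c, c ≤ Nat.card (PR.stabChain (PR.letterGroup n tbl (fun l => l) Ls) base) →
      N * c ≤ Nat.card (PR.letterGroup n tbl (fun l => l) Ls))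
    (hN : 1 < N)
    (hchain : isChain tl 1 n = true)
    (harith : ∀ s ∈ sums tl, (1 + s) ∣ n → s = 0 ∨ 1 + s = n)
    (e : ℕ) (hcop : Nat.Coprime e (N / n))
    (xw : List ℕ) (hxw : ∀ l ∈ xw, l ∈ Ls)
    (hxe : ∀ β ∈ base, PR.trace (((List.replicate e xw).flatten).map tbl) β = β)
    (s : ℕ) (hs : s ∈ Ls) (cs : List (List ℕ)) (hcs : ∀ c ∈ cs, ∀ l ∈ c, l ∈ Ls)
    (hid : ∀ β ∈ base, PR.trace ((s :: conjWord xw cs).map tbl) β = β)
    (hkill : Collapses Ls (coxW ++ extraW) s) :
    IsSimpleGroup (CoxPresented α edges extra) ∧ Nat.card (CoxPresented α edges extra) = N := by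
  obtain ⟨φ, hφ⟩ := exists_rep E hT hR
  obtain ⟨hcard, hinj, hwp⟩ := order_master E hT φ hφ hUB base hbase hLB (by omega)
  have hfin := hUB.1
  refine ⟨?_, hcard⟩
  set G := CoxPresented α edges extra with hG
  set gen : ℕ → G := genOf dec (PresentedGroup.of : α → CoxPresented α edges extra) with hgen
  have hn : 0 < n := by
    have := (hO.le _ hO.first); simp at this; omega
  obtain ⟨htr, horb⟩ := PR.act_facts hT hO φ gen hφ hn
  let _ : MulAction G (Fin n) := MulAction.compHom (Fin n) φ
  have smul_def : ∀ (g : G) (u : Fin n), g • u = φ g u := fun g u => rfl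
  have : FaithfulSMul G (Fin n) := ⟨fun {a b} h => hinj (Equiv.ext h)⟩
  have : Nontrivial G := by
    rw [← Finite.one_lt_card_iff_nontrivial, hcard]; exact hN
  have htrans : MulAction.orbit G (⟨0, hn⟩ : Fin n) = Set.univ := by
    rw [Set.eq_univ_iff_forall]
    intro u
    obtain ⟨g, hg⟩ := htr u
    exact ⟨g, hg⟩
  have hmax := maximal_stab (G := G) (⟨0, hn⟩ : Fin n) rfl htrans tl
    (fun iv hiv u v h1 h2 h3 h4 => by
      obtain ⟨k, hk1, hk2⟩ := horb iv (List.mem_cons_of_mem _ hiv) u v h1 h2 h3 h4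
      exact ⟨k, hk1, hk2⟩) hchain harith
  have hidx : (MulAction.stabilizer G (⟨0, hn⟩ : Fin n)).index = n := by
    rw [MulAction.index_stabilizer, htrans, Set.ncard_univ]; simp
  have hst : Nat.card (MulAction.stabilizer G (⟨0, hn⟩ : Fin n)) = N / n := by
    have := Subgroup.index_mul_card (MulAction.stabilizer G (⟨0, hn⟩ : Fin n))
    rw [hidx, hcard] at this
    exact (Nat.div_eq_of_eq_mul_right hn this.symm).symm
  have hsq : ∀ l, gen l * gen l = 1 := gen_sq E
  apply simple_of_maximal (⟨0, hn⟩ : Fin n) htrans hmax e (by rw [hst]; exact hcop) (ev gen xw)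
  · rw [← ev_flatten_replicate]
    apply hwp _ _ hxe
    intro l hl
    obtain ⟨w, hw, hlw⟩ := List.mem_flatten.mp hl
    rw [List.eq_of_mem_replicate hw] at hlw
    exact hxw l hlw
  · intro M hM hx
    have h1 : ev gen (s :: conjWord xw cs) = 1 := by
      apply hwp _ _ hid
      intro l hl
      rcases List.mem_cons.mp hl with rfl | hl
      · exact hs
      · obtain ⟨c, hc, hlc⟩ := List.mem_flatMap.mp hl
        simp only [List.mem_append, List.mem_reverse] at hlc
        rcases hlc with (h | h) | h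
        · exact hcs c hc l h
        · exact hxw l h
        · exact hcs c hc l h
    have h2 : gen s ∈ M := by
      rw [ev_cons] at h1
      rw [eq_inv_of_mul_eq_one_left h1]
      exact M.inv_mem (conjWord_mem gen hsq M hM xw hx cs)
    have hq : ∀ w : List ℕ, ev (fun l => (gen l : G ⧸ M)) w = ((ev gen w : G) : G ⧸ M) := by
      intro w
      induction w with
      | nil => rfl
      | cons l w ih => rw [ev_cons, ev_cons, ih]; rfl
    have h31 : gen 31 = 1 := by simp [hgen, genOf, E.dec31]
    have h3 := hkill (G ⧸ M) (fun l => (gen l : G ⧸ M))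
      (fun l => by
        show ((gen l * gen l : G) : G ⧸ M) = 1
        rw [hsq]; rfl)
      (by show ((gen 31 : G) : G ⧸ M) = 1
          rw [h31]; rfl)
      (fun r hr => by rw [hq, words_hold E r hr]; rfl)
      ((QuotientGroup.eq_one_iff _).mpr h2)
    rw [eq_top_iff, ← gen_closure E, Subgroup.closure_le]
    rintro _ ⟨l, hl, rfl⟩
    exact (QuotientGroup.eq_one_iff _).mp (h3 l hl)

end Cfsg.Agent.Lib.Helper11.Cox
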