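import Cfsg.Agent.Lib.Helper11.Suz1782PT

set_option autoImplicit false
set_option maxRecDepth 1000000
set_option Elab.async false

namespace Cfsg.Agent.Lib.Helper11.Suz1782

open Cfsg.Agent.Lib.Helper11

theorem rng0_0 : PR.allR (PR.mapsF [tb0] 0 1781) 0 1782 = true := by decide +kernel

theorem sq0_0 : PR.allR (PR.fixF [tb0, tb0]) 0 1782 = true := by decide +kernel

theorem rng2_0 : PR.allR (PR.mapsF [tb2] 0 1781) 0 1782 = true := by decide +kernel

theorem sq2_0 : PR.allR (PR.fixF [tb2, tb2]) 0 1782 = true := by decide +kernel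

theorem rng4_0 : PR.allR (PR.mapsF [tb4] 0 1781) 0 1782 = true := by decide +kernel

theorem sq4_0 : PR.allR (PR.fixF [tb4, tb4]) 0 1782 = true := by decide +kernel

theorem rng6_0 : PR.allR (PR.mapsF [tb6] 0 1781) 0 1782 = true := by decide +kernel

theorem sq6_0 : PR.allR (PR.fixF [tb6, tb6]) 0 1782 = true := by decide +kernel

theorem rng8_0 : PR.allR (PR.mapsF [tb8] 0 1781) 0 1782 = true := by decide +kernel

theorem sq8_0 : PR.allR (PR.fixF [tb8, tb8]) 0 1782 = true := by decide +kernel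

theorem rng10_0 : PR.allR (PR.mapsF [tb10] 0 1781) 0 1782 = true := by decide +kernel

theorem sq10_0 : PR.allR (PR.fixF [tb10, tb10]) 0 1782 = true := by decide +kernel

theorem rng12_0 : PR.allR (PR.mapsF [tb12] 0 1781) 0 1782 = true := by decide +kernel

theorem sq12_0 : PR.allR (PR.fixF [tb12, tb12]) 0 1782 = true := by decide +kernel

theorem rel0_0 : PR.allR (PR.fixF [tb0, tb2, tb0, tb2, tb0, tb2, tb0, tb2, tb0, tb2]) 0 1782 = true := by decide +kernel

theorem rel1_0 : PR.allR (PR.fixF [tb0, tb4, tb0, tb4]) 0 1782 = true := by decide +kernel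

theorem rel2_0 : PR.allR (PR.fixF [tb0, tb6, tb0, tb6]) 0 1782 = true := by decide +kernel

theorem rel3_0 : PR.allR (PR.fixF [tb0, tb8, tb0, tb8]) 0 1782 = true := by decide +kernel

theorem rel4_0 : PR.allR (PR.fixF [tb0, tb10, tb0, tb10]) 0 1782 = true := by decide +kernel

theorem rel5_0 : PR.allR (PR.fixF [tb0, tb12, tb0, tb12]) 0 1782 = true := by decide +kernel

theorem rel6_0 : PR.allR (PR.fixF [tb2, tb4, tb2, tb4, tb2, tb4]) 0 1782 = true := by decide +kernel

theorem rel7_0 : PR.allR (PR.fixF [tb2, tb6, tb2, tb6]) 0 1782 = true := by decide +kernel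

theorem rel8_0 : PR.allR (PR.fixF [tb2, tb8, tb2, tb8]) 0 1782 = true := by decide +kernel

theorem rel9_0 : PR.allR (PR.fixF [tb2, tb10, tb2, tb10, tb2, tb10]) 0 1782 = true := by decide +kernel

theorem rel10_0 : PR.allR (PR.fixF [tb2, tb12, tb2, tb12, tb2, tb12]) 0 1782 = true := by decide +kernel

theorem rel11_0 : PR.allR (PR.fixF [tb4, tb6, tb4, tb6, tb4, tb6, tb4, tb6, tb4, tb6, tb4, tb6, tb4, tb6, tb4, tb6]) 0 1782 = true := by decide +kernel

theorem rel12_0 : PR.allR (PR.fixF [tb4, tb8, tb4, tb8]) 0 1782 = true := by decide +kernel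

theorem rel13_0 : PR.allR (PR.fixF [tb4, tb10, tb4, tb10]) 0 1782 = true := by decide +kernel

theorem rel14_0 : PR.allR (PR.fixF [tb4, tb12, tb4, tb12]) 0 1782 = true := by decide +kernel

theorem rel15_0 : PR.allR (PR.fixF [tb6, tb8, tb6, tb8, tb6, tb8]) 0 1782 = true := by decide +kernel

theorem rel16_0 : PR.allR (PR.fixF [tb6, tb10, tb6, tb10]) 0 1782 = true := by decide +kernel

theorem rel17_0 : PR.allR (PR.fixF [tb6, tb12, tb6, tb12]) 0 1782 = true := by decide +kernel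

theorem rel18_0 : PR.allR (PR.fixF [tb8, tb10, tb8, tb10]) 0 1782 = true := by decide +kernel

theorem rel19_0 : PR.allR (PR.fixF [tb8, tb12, tb8, tb12]) 0 1782 = true := by decide +kernel

theorem rel20_0 : PR.allR (PR.fixF [tb10, tb12, tb10, tb12, tb10, tb12, tb10, tb12]) 0 1782 = true := by decide +kernel

theorem rel21_0 : PR.allR (PR.fixF [tb0, tb6, tb4, tb6, tb4, tb6, tb4, tb6, tb4]) 0 1782 = true := by decide +kernel

theorem rel22_0 : PR.allR (PR.fixF [tb0, tb12, tb10, tb12, tb10]) 0 1782 = true := by decide +kernel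

theorem rel23_0 : PR.allR (PR.fixF [tb0, tb2, tb4, tb10, tb0, tb2, tb4, tb10, tb0, tb2, tb4, tb10, tb0, tb2, tb4, tb10, tb0, tb2, tb4, tb10]) 0 1782 = true := by decide +kernel

theorem rel24_0 : PR.allR (PR.fixF [tb2, tb10, tb12, tb2, tb10, tb12, tb2, tb10, tb12, tb2, tb10, tb12, tb2, tb10, tb12]) 0 1782 = true := by decide +kernel

theorem rel25_0 : PR.allR (PR.fixF [tb2, tb4, tb6, tb4, tb6, tb2, tb4, tb6, tb4, tb6, tb2, tb4, tb6, tb4, tb6, tb2, tb4, tb6, tb4, tb6, tb2, tb4, tb6, tb4, tb6, tb8, tb2, tb4, tb6, tb4, tb6, tb2, tb4, tb6, tb4, tb6, tb2, tb4, tb6, tb4, tb6, tb2, tb4, tb6, tb4, tb6, tb2, tb4, tb6, tb4, tb6, tb8, tb2, tb4, tb6, tb4, tb6, tb2, tb4, tb6, tb4, tb6, tb2, tb4, tb6, tb4, tb6, tb2, tb4, tb6, tb4, tb6, tb2, tb4, tb6, tb4, tb6, tb8]) 0 1044 = true := by decide +kernel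

theorem rel25_1 : PR.allR (PR.fixF [tb2, tb4, tb6, tb4, tb6, tb2, tb4, tb6, tb4, tb6, tb2, tb4, tb6, tb4, tb6, tb2, tb4, tb6, tb4, tb6, tb2, tb4, tb6, tb4, tb6, tb8, tb2, tb4, tb6, tb4, tb6, tb2, tb4, tb6, tb4, tb6, tb2, tb4, tb6, tb4, tb6, tb2, tb4, tb6, tb4, tb6, tb2, tb4, tb6, tb4, tb6, tb8, tb2, tb4, tb6, tb4, tb6, tb2, tb4, tb6, tb4, tb6, tb2, tb4, tb6, tb4, tb6, tb2, tb4, tb6, tb4, tb6, tb2, tb4, tb6, tb4, tb6, tb8]) 1044 738 = true := by decide +kernel

theorem mp0_0_0 : PR.allR (PR.mapsF [tb0] 0 0) 0 1 = true := by decide +kernel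

theorem mp0_1_0 : PR.allR (PR.mapsF [tb2] 0 0) 0 1 = true := by decide +kernel

theorem mp0_2_0 : PR.allR (PR.mapsF [tb4] 0 0) 0 1 = true := by decide +kernel

theorem mp0_3_0 : PR.allR (PR.mapsF [tb6] 0 0) 0 1 = true := by decide +kernel

theorem mp0_4_0 : PR.allR (PR.mapsF [tb8] 0 0) 0 1 = true := by decide +kernel

theorem mp0_5_0 : PR.allR (PR.mapsF [tb10] 0 0) 0 1 = true := by decide +kernel

theorem mp1_0_0 : PR.allR (PR.mapsF [tb0] 1 1365) 1 1365 = true := by decide +kernel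

theorem mp1_1_0 : PR.allR (PR.mapsF [tb2] 1 1365) 1 1365 = true := by decide +kernel

theorem mp1_2_0 : PR.allR (PR.mapsF [tb4] 1 1365) 1 1365 = true := by decide +kernel

theorem mp1_3_0 : PR.allR (PR.mapsF [tb6] 1 1365) 1 1365 = true := by decide +kernel

theorem mp1_4_0 : PR.allR (PR.mapsF [tb8] 1 1365) 1 1365 = true := by decide +kernel

theorem mp1_5_0 : PR.allR (PR.mapsF [tb10] 1 1365) 1 1365 = true := by decide +kernel

theorem tre1_0 : PR.allR (PR.treeF tbW [[tb0], [tb2], [tb4], [tb6], [tb8], [tb10]] 1) 2 1364 = true := by decide +kernel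

theorem mp2_0_0 : PR.allR (PR.mapsF [tb0] 1366 1781) 1366 416 = true := by decide +kernel

theorem mp2_1_0 : PR.allR (PR.mapsF [tb2] 1366 1781) 1366 416 = true := by decide +kernel

theorem mp2_2_0 : PR.allR (PR.mapsF [tb4] 1366 1781) 1366 416 = true := by decide +kernel

theorem mp2_3_0 : PR.allR (PR.mapsF [tb6] 1366 1781) 1366 416 = true := by decide +kernel

theorem mp2_4_0 : PR.allR (PR.mapsF [tb8] 1366 1781) 1366 416 = true := by decide +kernel

theorem mp2_5_0 : PR.allR (PR.mapsF [tb10] 1366 1781) 1366 416 = true := by decide +kernel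

theorem tre2_0 : PR.allR (PR.treeF tbW [[tb0], [tb2], [tb4], [tb6], [tb8], [tb10]] 1366) 1367 415 = true := by decide +kernel

theorem root0 : PR.trace [] 0 = 0 := by decide +kernel

theorem root1 : PR.trace [tb12] 0 = 1 := by decide +kernel

theorem root2 : PR.trace [tb12, tb2, tb4, tb6, tb4, tb2, tb12] 0 = 1366 := by decide +kernel

end Cfsg.Agent.Lib.Helper11.Suz1782
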