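import Cfsg.Agent.Lib.Helper11.Suz22880PT

set_option autoImplicit false
set_option maxRecDepth 1000000
set_option Elab.async false

namespace Cfsg.Agent.Lib.Helper11.Suz22880

open Cfsg.Agent.Lib.Helper11

theorem rng0_0 : PR.allR (PR.mapsF [tb0] 0 22879) 0 22880 = true := by decide +kernel

theorem sq0_0 : PR.allR (PR.fixF [tb0, tb0]) 0 12743 = true := by decide +kernel

theorem sq0_1 : PR.allR (PR.fixF [tb0, tb0]) 12743 10137 = true := by decide +kernel

theorem rng2_0 : PR.allR (PR.mapsF [tb2] 0 22879) 0 22880 = true := by decide +kernel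

theorem sq2_0 : PR.allR (PR.fixF [tb2, tb2]) 0 12743 = true := by decide +kernel

theorem sq2_1 : PR.allR (PR.fixF [tb2, tb2]) 12743 10137 = true := by decide +kernel

theorem rng4_0 : PR.allR (PR.mapsF [tb4] 0 22879) 0 22880 = true := by decide +kernel

theorem sq4_0 : PR.allR (PR.fixF [tb4, tb4]) 0 12743 = true := by decide +kernel

theorem sq4_1 : PR.allR (PR.fixF [tb4, tb4]) 12743 10137 = true := by decide +kernel

theorem rng6_0 : PR.allR (PR.mapsF [tb6] 0 22879) 0 22880 = true := by decide +kernel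

theorem sq6_0 : PR.allR (PR.fixF [tb6, tb6]) 0 12743 = true := by decide +kernel

theorem sq6_1 : PR.allR (PR.fixF [tb6, tb6]) 12743 10137 = true := by decide +kernel

theorem rng8_0 : PR.allR (PR.mapsF [tb8] 0 22879) 0 22880 = true := by decide +kernel

theorem sq8_0 : PR.allR (PR.fixF [tb8, tb8]) 0 12743 = true := by decide +kernel

theorem sq8_1 : PR.allR (PR.fixF [tb8, tb8]) 12743 10137 = true := by decide +kernel

theorem rng10_0 : PR.allR (PR.mapsF [tb10] 0 22879) 0 22880 = true := by decide +kernel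

theorem sq10_0 : PR.allR (PR.fixF [tb10, tb10]) 0 12743 = true := by decide +kernel

theorem sq10_1 : PR.allR (PR.fixF [tb10, tb10]) 12743 10137 = true := by decide +kernel

theorem rng12_0 : PR.allR (PR.mapsF [tb12] 0 22879) 0 22880 = true := by decide +kernel

theorem sq12_0 : PR.allR (PR.fixF [tb12, tb12]) 0 12743 = true := by decide +kernel

theorem sq12_1 : PR.allR (PR.fixF [tb12, tb12]) 12743 10137 = true := by decide +kernel

theorem rel0_0 : PR.allR (PR.fixF [tb0, tb2, tb0, tb2, tb0, tb2, tb0, tb2, tb0, tb2]) 0 2548 = true := by decide +kernel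

theorem rel0_1 : PR.allR (PR.fixF [tb0, tb2, tb0, tb2, tb0, tb2, tb0, tb2, tb0, tb2]) 2548 2548 = true := by decide +kernel

theorem rel0_2 : PR.allR (PR.fixF [tb0, tb2, tb0, tb2, tb0, tb2, tb0, tb2, tb0, tb2]) 5096 2548 = true := by decide +kernel

theorem rel0_3 : PR.allR (PR.fixF [tb0, tb2, tb0, tb2, tb0, tb2, tb0, tb2, tb0, tb2]) 7644 2548 = true := by decide +kernel

theorem rel0_4 : PR.allR (PR.fixF [tb0, tb2, tb0, tb2, tb0, tb2, tb0, tb2, tb0, tb2]) 10192 2548 = true := by decide +kernel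

theorem rel0_5 : PR.allR (PR.fixF [tb0, tb2, tb0, tb2, tb0, tb2, tb0, tb2, tb0, tb2]) 12740 2548 = true := by decide +kernel

theorem rel0_6 : PR.allR (PR.fixF [tb0, tb2, tb0, tb2, tb0, tb2, tb0, tb2, tb0, tb2]) 15288 2548 = true := by decide +kernel

theorem rel0_7 : PR.allR (PR.fixF [tb0, tb2, tb0, tb2, tb0, tb2, tb0, tb2, tb0, tb2]) 17836 2548 = true := by decide +kernel

theorem rel0_8 : PR.allR (PR.fixF [tb0, tb2, tb0, tb2, tb0, tb2, tb0, tb2, tb0, tb2]) 20384 2496 = true := by decide +kernel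

theorem rel1_0 : PR.allR (PR.fixF [tb0, tb4, tb0, tb4]) 0 6371 = true := by decide +kernel

theorem rel1_1 : PR.allR (PR.fixF [tb0, tb4, tb0, tb4]) 6371 6371 = true := by decide +kernel

theorem rel1_2 : PR.allR (PR.fixF [tb0, tb4, tb0, tb4]) 12742 6371 = true := by decide +kernel

theorem rel1_3 : PR.allR (PR.fixF [tb0, tb4, tb0, tb4]) 19113 3767 = true := by decide +kernel

theorem rel2_0 : PR.allR (PR.fixF [tb0, tb6, tb0, tb6]) 0 6371 = true := by decide +kernel

theorem rel2_1 : PR.allR (PR.fixF [tb0, tb6, tb0, tb6]) 6371 6371 = true := by decide +kernel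

theorem rel2_2 : PR.allR (PR.fixF [tb0, tb6, tb0, tb6]) 12742 6371 = true := by decide +kernel

theorem rel2_3 : PR.allR (PR.fixF [tb0, tb6, tb0, tb6]) 19113 3767 = true := by decide +kernel

theorem rel3_0 : PR.allR (PR.fixF [tb0, tb8, tb0, tb8]) 0 6371 = true := by decide +kernel

theorem rel3_1 : PR.allR (PR.fixF [tb0, tb8, tb0, tb8]) 6371 6371 = true := by decide +kernel

theorem rel3_2 : PR.allR (PR.fixF [tb0, tb8, tb0, tb8]) 12742 6371 = true := by decide +kernel

theorem rel3_3 : PR.allR (PR.fixF [tb0, tb8, tb0, tb8]) 19113 3767 = true := by decide +kernel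

theorem rel4_0 : PR.allR (PR.fixF [tb0, tb10, tb0, tb10]) 0 6371 = true := by decide +kernel

theorem rel4_1 : PR.allR (PR.fixF [tb0, tb10, tb0, tb10]) 6371 6371 = true := by decide +kernel

theorem rel4_2 : PR.allR (PR.fixF [tb0, tb10, tb0, tb10]) 12742 6371 = true := by decide +kernel

theorem rel4_3 : PR.allR (PR.fixF [tb0, tb10, tb0, tb10]) 19113 3767 = true := by decide +kernel

theorem rel5_0 : PR.allR (PR.fixF [tb0, tb12, tb0, tb12]) 0 6371 = true := by decide +kernel

theorem rel5_1 : PR.allR (PR.fixF [tb0, tb12, tb0, tb12]) 6371 6371 = true := by decide +kernel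

theorem rel5_2 : PR.allR (PR.fixF [tb0, tb12, tb0, tb12]) 12742 6371 = true := by decide +kernel

theorem rel5_3 : PR.allR (PR.fixF [tb0, tb12, tb0, tb12]) 19113 3767 = true := by decide +kernel

theorem rel6_0 : PR.allR (PR.fixF [tb2, tb4, tb2, tb4, tb2, tb4]) 0 4247 = true := by decide +kernel

theorem rel6_1 : PR.allR (PR.fixF [tb2, tb4, tb2, tb4, tb2, tb4]) 4247 4247 = true := by decide +kernel

theorem rel6_2 : PR.allR (PR.fixF [tb2, tb4, tb2, tb4, tb2, tb4]) 8494 4247 = true := by decide +kernel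

theorem rel6_3 : PR.allR (PR.fixF [tb2, tb4, tb2, tb4, tb2, tb4]) 12741 4247 = true := by decide +kernel

theorem rel6_4 : PR.allR (PR.fixF [tb2, tb4, tb2, tb4, tb2, tb4]) 16988 4247 = true := by decide +kernel

theorem rel6_5 : PR.allR (PR.fixF [tb2, tb4, tb2, tb4, tb2, tb4]) 21235 1645 = true := by decide +kernel

theorem rel7_0 : PR.allR (PR.fixF [tb2, tb6, tb2, tb6]) 0 6371 = true := by decide +kernel

theorem rel7_1 : PR.allR (PR.fixF [tb2, tb6, tb2, tb6]) 6371 6371 = true := by decide +kernel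

theorem rel7_2 : PR.allR (PR.fixF [tb2, tb6, tb2, tb6]) 12742 6371 = true := by decide +kernel

theorem rel7_3 : PR.allR (PR.fixF [tb2, tb6, tb2, tb6]) 19113 3767 = true := by decide +kernel

theorem rel8_0 : PR.allR (PR.fixF [tb2, tb8, tb2, tb8]) 0 6371 = true := by decide +kernel

theorem rel8_1 : PR.allR (PR.fixF [tb2, tb8, tb2, tb8]) 6371 6371 = true := by decide +kernel

theorem rel8_2 : PR.allR (PR.fixF [tb2, tb8, tb2, tb8]) 12742 6371 = true := by decide +kernel

theorem rel8_3 : PR.allR (PR.fixF [tb2, tb8, tb2, tb8]) 19113 3767 = true := by decide +kernel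

theorem rel9_0 : PR.allR (PR.fixF [tb2, tb10, tb2, tb10, tb2, tb10]) 0 4247 = true := by decide +kernel

theorem rel9_1 : PR.allR (PR.fixF [tb2, tb10, tb2, tb10, tb2, tb10]) 4247 4247 = true := by decide +kernel

theorem rel9_2 : PR.allR (PR.fixF [tb2, tb10, tb2, tb10, tb2, tb10]) 8494 4247 = true := by decide +kernel

theorem rel9_3 : PR.allR (PR.fixF [tb2, tb10, tb2, tb10, tb2, tb10]) 12741 4247 = true := by decide +kernel

theorem rel9_4 : PR.allR (PR.fixF [tb2, tb10, tb2, tb10, tb2, tb10]) 16988 4247 = true := by decide +kernel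

theorem rel9_5 : PR.allR (PR.fixF [tb2, tb10, tb2, tb10, tb2, tb10]) 21235 1645 = true := by decide +kernel

theorem rel10_0 : PR.allR (PR.fixF [tb2, tb12, tb2, tb12, tb2, tb12]) 0 4247 = true := by decide +kernel

theorem rel10_1 : PR.allR (PR.fixF [tb2, tb12, tb2, tb12, tb2, tb12]) 4247 4247 = true := by decide +kernel

theorem rel10_2 : PR.allR (PR.fixF [tb2, tb12, tb2, tb12, tb2, tb12]) 8494 4247 = true := by decide +kernel

theorem rel10_3 : PR.allR (PR.fixF [tb2, tb12, tb2, tb12, tb2, tb12]) 12741 4247 = true := by decide +kernel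

theorem rel10_4 : PR.allR (PR.fixF [tb2, tb12, tb2, tb12, tb2, tb12]) 16988 4247 = true := by decide +kernel

theorem rel10_5 : PR.allR (PR.fixF [tb2, tb12, tb2, tb12, tb2, tb12]) 21235 1645 = true := by decide +kernel

theorem rel11_0 : PR.allR (PR.fixF [tb4, tb6, tb4, tb6, tb4, tb6, tb4, tb6, tb4, tb6, tb4, tb6, tb4, tb6, tb4, tb6]) 0 1592 = true := by decide +kernel

theorem rel11_1 : PR.allR (PR.fixF [tb4, tb6, tb4, tb6, tb4, tb6, tb4, tb6, tb4, tb6, tb4, tb6, tb4, tb6, tb4, tb6]) 1592 1592 = true := by decide +kernel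

theorem rel11_2 : PR.allR (PR.fixF [tb4, tb6, tb4, tb6, tb4, tb6, tb4, tb6, tb4, tb6, tb4, tb6, tb4, tb6, tb4, tb6]) 3184 1592 = true := by decide +kernel

theorem rel11_3 : PR.allR (PR.fixF [tb4, tb6, tb4, tb6, tb4, tb6, tb4, tb6, tb4, tb6, tb4, tb6, tb4, tb6, tb4, tb6]) 4776 1592 = true := by decide +kernel

theorem rel11_4 : PR.allR (PR.fixF [tb4, tb6, tb4, tb6, tb4, tb6, tb4, tb6, tb4, tb6, tb4, tb6, tb4, tb6, tb4, tb6]) 6368 1592 = true := by decide +kernel

theorem rel11_5 : PR.allR (PR.fixF [tb4, tb6, tb4, tb6, tb4, tb6, tb4, tb6, tb4, tb6, tb4, tb6, tb4, tb6, tb4, tb6]) 7960 1592 = true := by decide +kernel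

theorem rel11_6 : PR.allR (PR.fixF [tb4, tb6, tb4, tb6, tb4, tb6, tb4, tb6, tb4, tb6, tb4, tb6, tb4, tb6, tb4, tb6]) 9552 1592 = true := by decide +kernel

theorem rel11_7 : PR.allR (PR.fixF [tb4, tb6, tb4, tb6, tb4, tb6, tb4, tb6, tb4, tb6, tb4, tb6, tb4, tb6, tb4, tb6]) 11144 1592 = true := by decide +kernel

theorem rel11_8 : PR.allR (PR.fixF [tb4, tb6, tb4, tb6, tb4, tb6, tb4, tb6, tb4, tb6, tb4, tb6, tb4, tb6, tb4, tb6]) 12736 1592 = true := by decide +kernel

theorem rel11_9 : PR.allR (PR.fixF [tb4, tb6, tb4, tb6, tb4, tb6, tb4, tb6, tb4, tb6, tb4, tb6, tb4, tb6, tb4, tb6]) 14328 1592 = true := by decide +kernel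

end Cfsg.Agent.Lib.Helper11.Suz22880
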