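import Cfsg.Agent.Lib.Helper11.Suz22880PT

set_option autoImplicit false
set_option maxRecDepth 1000000
set_option Elab.async false

namespace Cfsg.Agent.Lib.Helper11.Suz22880

open Cfsg.Agent.Lib.Helper11

theorem rel11_10 : PR.allR (PR.fixF [tb4, tb6, tb4, tb6, tb4, tb6, tb4, tb6, tb4, tb6, tb4, tb6, tb4, tb6, tb4, tb6]) 15920 1592 = true := by decide +kernel

theorem rel11_11 : PR.allR (PR.fixF [tb4, tb6, tb4, tb6, tb4, tb6, tb4, tb6, tb4, tb6, tb4, tb6, tb4, tb6, tb4, tb6]) 17512 1592 = true := by decide +kernel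

theorem rel11_12 : PR.allR (PR.fixF [tb4, tb6, tb4, tb6, tb4, tb6, tb4, tb6, tb4, tb6, tb4, tb6, tb4, tb6, tb4, tb6]) 19104 1592 = true := by decide +kernel

theorem rel11_13 : PR.allR (PR.fixF [tb4, tb6, tb4, tb6, tb4, tb6, tb4, tb6, tb4, tb6, tb4, tb6, tb4, tb6, tb4, tb6]) 20696 1592 = true := by decide +kernel

theorem rel11_14 : PR.allR (PR.fixF [tb4, tb6, tb4, tb6, tb4, tb6, tb4, tb6, tb4, tb6, tb4, tb6, tb4, tb6, tb4, tb6]) 22288 592 = true := by decide +kernel

theorem rel12_0 : PR.allR (PR.fixF [tb4, tb8, tb4, tb8]) 0 6371 = true := by decide +kernel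

theorem rel12_1 : PR.allR (PR.fixF [tb4, tb8, tb4, tb8]) 6371 6371 = true := by decide +kernel

theorem rel12_2 : PR.allR (PR.fixF [tb4, tb8, tb4, tb8]) 12742 6371 = true := by decide +kernel

theorem rel12_3 : PR.allR (PR.fixF [tb4, tb8, tb4, tb8]) 19113 3767 = true := by decide +kernel

theorem rel13_0 : PR.allR (PR.fixF [tb4, tb10, tb4, tb10]) 0 6371 = true := by decide +kernel

theorem rel13_1 : PR.allR (PR.fixF [tb4, tb10, tb4, tb10]) 6371 6371 = true := by decide +kernel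

theorem rel13_2 : PR.allR (PR.fixF [tb4, tb10, tb4, tb10]) 12742 6371 = true := by decide +kernel

theorem rel13_3 : PR.allR (PR.fixF [tb4, tb10, tb4, tb10]) 19113 3767 = true := by decide +kernel

theorem rel14_0 : PR.allR (PR.fixF [tb4, tb12, tb4, tb12]) 0 6371 = true := by decide +kernel

theorem rel14_1 : PR.allR (PR.fixF [tb4, tb12, tb4, tb12]) 6371 6371 = true := by decide +kernel

theorem rel14_2 : PR.allR (PR.fixF [tb4, tb12, tb4, tb12]) 12742 6371 = true := by decide +kernel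

theorem rel14_3 : PR.allR (PR.fixF [tb4, tb12, tb4, tb12]) 19113 3767 = true := by decide +kernel

theorem rel15_0 : PR.allR (PR.fixF [tb6, tb8, tb6, tb8, tb6, tb8]) 0 4247 = true := by decide +kernel

theorem rel15_1 : PR.allR (PR.fixF [tb6, tb8, tb6, tb8, tb6, tb8]) 4247 4247 = true := by decide +kernel

theorem rel15_2 : PR.allR (PR.fixF [tb6, tb8, tb6, tb8, tb6, tb8]) 8494 4247 = true := by decide +kernel

theorem rel15_3 : PR.allR (PR.fixF [tb6, tb8, tb6, tb8, tb6, tb8]) 12741 4247 = true := by decide +kernel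

theorem rel15_4 : PR.allR (PR.fixF [tb6, tb8, tb6, tb8, tb6, tb8]) 16988 4247 = true := by decide +kernel

theorem rel15_5 : PR.allR (PR.fixF [tb6, tb8, tb6, tb8, tb6, tb8]) 21235 1645 = true := by decide +kernel

theorem rel16_0 : PR.allR (PR.fixF [tb6, tb10, tb6, tb10]) 0 6371 = true := by decide +kernel

theorem rel16_1 : PR.allR (PR.fixF [tb6, tb10, tb6, tb10]) 6371 6371 = true := by decide +kernel

theorem rel16_2 : PR.allR (PR.fixF [tb6, tb10, tb6, tb10]) 12742 6371 = true := by decide +kernel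

theorem rel16_3 : PR.allR (PR.fixF [tb6, tb10, tb6, tb10]) 19113 3767 = true := by decide +kernel

theorem rel17_0 : PR.allR (PR.fixF [tb6, tb12, tb6, tb12]) 0 6371 = true := by decide +kernel

theorem rel17_1 : PR.allR (PR.fixF [tb6, tb12, tb6, tb12]) 6371 6371 = true := by decide +kernel

theorem rel17_2 : PR.allR (PR.fixF [tb6, tb12, tb6, tb12]) 12742 6371 = true := by decide +kernel

theorem rel17_3 : PR.allR (PR.fixF [tb6, tb12, tb6, tb12]) 19113 3767 = true := by decide +kernel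

theorem rel18_0 : PR.allR (PR.fixF [tb8, tb10, tb8, tb10]) 0 6371 = true := by decide +kernel

theorem rel18_1 : PR.allR (PR.fixF [tb8, tb10, tb8, tb10]) 6371 6371 = true := by decide +kernel

theorem rel18_2 : PR.allR (PR.fixF [tb8, tb10, tb8, tb10]) 12742 6371 = true := by decide +kernel

theorem rel18_3 : PR.allR (PR.fixF [tb8, tb10, tb8, tb10]) 19113 3767 = true := by decide +kernel

theorem rel19_0 : PR.allR (PR.fixF [tb8, tb12, tb8, tb12]) 0 6371 = true := by decide +kernel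

theorem rel19_1 : PR.allR (PR.fixF [tb8, tb12, tb8, tb12]) 6371 6371 = true := by decide +kernel

theorem rel19_2 : PR.allR (PR.fixF [tb8, tb12, tb8, tb12]) 12742 6371 = true := by decide +kernel

theorem rel19_3 : PR.allR (PR.fixF [tb8, tb12, tb8, tb12]) 19113 3767 = true := by decide +kernel

theorem rel20_0 : PR.allR (PR.fixF [tb10, tb12, tb10, tb12, tb10, tb12, tb10, tb12]) 0 3185 = true := by decide +kernel

theorem rel20_1 : PR.allR (PR.fixF [tb10, tb12, tb10, tb12, tb10, tb12, tb10, tb12]) 3185 3185 = true := by decide +kernel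

theorem rel20_2 : PR.allR (PR.fixF [tb10, tb12, tb10, tb12, tb10, tb12, tb10, tb12]) 6370 3185 = true := by decide +kernel

theorem rel20_3 : PR.allR (PR.fixF [tb10, tb12, tb10, tb12, tb10, tb12, tb10, tb12]) 9555 3185 = true := by decide +kernel

theorem rel20_4 : PR.allR (PR.fixF [tb10, tb12, tb10, tb12, tb10, tb12, tb10, tb12]) 12740 3185 = true := by decide +kernel

theorem rel20_5 : PR.allR (PR.fixF [tb10, tb12, tb10, tb12, tb10, tb12, tb10, tb12]) 15925 3185 = true := by decide +kernel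

theorem rel20_6 : PR.allR (PR.fixF [tb10, tb12, tb10, tb12, tb10, tb12, tb10, tb12]) 19110 3185 = true := by decide +kernel

theorem rel20_7 : PR.allR (PR.fixF [tb10, tb12, tb10, tb12, tb10, tb12, tb10, tb12]) 22295 585 = true := by decide +kernel

theorem rel21_0 : PR.allR (PR.fixF [tb0, tb6, tb4, tb6, tb4, tb6, tb4, tb6, tb4]) 0 2831 = true := by decide +kernel

theorem rel21_1 : PR.allR (PR.fixF [tb0, tb6, tb4, tb6, tb4, tb6, tb4, tb6, tb4]) 2831 2831 = true := by decide +kernel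

theorem rel21_2 : PR.allR (PR.fixF [tb0, tb6, tb4, tb6, tb4, tb6, tb4, tb6, tb4]) 5662 2831 = true := by decide +kernel

theorem rel21_3 : PR.allR (PR.fixF [tb0, tb6, tb4, tb6, tb4, tb6, tb4, tb6, tb4]) 8493 2831 = true := by decide +kernel

theorem rel21_4 : PR.allR (PR.fixF [tb0, tb6, tb4, tb6, tb4, tb6, tb4, tb6, tb4]) 11324 2831 = true := by decide +kernel

theorem rel21_5 : PR.allR (PR.fixF [tb0, tb6, tb4, tb6, tb4, tb6, tb4, tb6, tb4]) 14155 2831 = true := by decide +kernel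

theorem rel21_6 : PR.allR (PR.fixF [tb0, tb6, tb4, tb6, tb4, tb6, tb4, tb6, tb4]) 16986 2831 = true := by decide +kernel

theorem rel21_7 : PR.allR (PR.fixF [tb0, tb6, tb4, tb6, tb4, tb6, tb4, tb6, tb4]) 19817 2831 = true := by decide +kernel

theorem rel21_8 : PR.allR (PR.fixF [tb0, tb6, tb4, tb6, tb4, tb6, tb4, tb6, tb4]) 22648 232 = true := by decide +kernel

theorem rel22_0 : PR.allR (PR.fixF [tb0, tb12, tb10, tb12, tb10]) 0 5097 = true := by decide +kernel

theorem rel22_1 : PR.allR (PR.fixF [tb0, tb12, tb10, tb12, tb10]) 5097 5097 = true := by decide +kernel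

theorem rel22_2 : PR.allR (PR.fixF [tb0, tb12, tb10, tb12, tb10]) 10194 5097 = true := by decide +kernel

theorem rel22_3 : PR.allR (PR.fixF [tb0, tb12, tb10, tb12, tb10]) 15291 5097 = true := by decide +kernel

theorem rel22_4 : PR.allR (PR.fixF [tb0, tb12, tb10, tb12, tb10]) 20388 2492 = true := by decide +kernel

theorem rel23_0 : PR.allR (PR.fixF [tb0, tb2, tb4, tb10, tb0, tb2, tb4, tb10, tb0, tb2, tb4, tb10, tb0, tb2, tb4, tb10, tb0, tb2, tb4, tb10]) 0 1274 = true := by decide +kernel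

theorem rel23_1 : PR.allR (PR.fixF [tb0, tb2, tb4, tb10, tb0, tb2, tb4, tb10, tb0, tb2, tb4, tb10, tb0, tb2, tb4, tb10, tb0, tb2, tb4, tb10]) 1274 1274 = true := by decide +kernel

theorem rel23_2 : PR.allR (PR.fixF [tb0, tb2, tb4, tb10, tb0, tb2, tb4, tb10, tb0, tb2, tb4, tb10, tb0, tb2, tb4, tb10, tb0, tb2, tb4, tb10]) 2548 1274 = true := by decide +kernel

theorem rel23_3 : PR.allR (PR.fixF [tb0, tb2, tb4, tb10, tb0, tb2, tb4, tb10, tb0, tb2, tb4, tb10, tb0, tb2, tb4, tb10, tb0, tb2, tb4, tb10]) 3822 1274 = true := by decide +kernel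

theorem rel23_4 : PR.allR (PR.fixF [tb0, tb2, tb4, tb10, tb0, tb2, tb4, tb10, tb0, tb2, tb4, tb10, tb0, tb2, tb4, tb10, tb0, tb2, tb4, tb10]) 5096 1274 = true := by decide +kernel

theorem rel23_5 : PR.allR (PR.fixF [tb0, tb2, tb4, tb10, tb0, tb2, tb4, tb10, tb0, tb2, tb4, tb10, tb0, tb2, tb4, tb10, tb0, tb2, tb4, tb10]) 6370 1274 = true := by decide +kernel

theorem rel23_6 : PR.allR (PR.fixF [tb0, tb2, tb4, tb10, tb0, tb2, tb4, tb10, tb0, tb2, tb4, tb10, tb0, tb2, tb4, tb10, tb0, tb2, tb4, tb10]) 7644 1274 = true := by decide +kernel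

theorem rel23_7 : PR.allR (PR.fixF [tb0, tb2, tb4, tb10, tb0, tb2, tb4, tb10, tb0, tb2, tb4, tb10, tb0, tb2, tb4, tb10, tb0, tb2, tb4, tb10]) 8918 1274 = true := by decide +kernel

theorem rel23_8 : PR.allR (PR.fixF [tb0, tb2, tb4, tb10, tb0, tb2, tb4, tb10, tb0, tb2, tb4, tb10, tb0, tb2, tb4, tb10, tb0, tb2, tb4, tb10]) 10192 1274 = true := by decide +kernel

theorem rel23_9 : PR.allR (PR.fixF [tb0, tb2, tb4, tb10, tb0, tb2, tb4, tb10, tb0, tb2, tb4, tb10, tb0, tb2, tb4, tb10, tb0, tb2, tb4, tb10]) 11466 1274 = true := by decide +kernel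

theorem rel23_10 : PR.allR (PR.fixF [tb0, tb2, tb4, tb10, tb0, tb2, tb4, tb10, tb0, tb2, tb4, tb10, tb0, tb2, tb4, tb10, tb0, tb2, tb4, tb10]) 12740 1274 = true := by decide +kernel

theorem rel23_11 : PR.allR (PR.fixF [tb0, tb2, tb4, tb10, tb0, tb2, tb4, tb10, tb0, tb2, tb4, tb10, tb0, tb2, tb4, tb10, tb0, tb2, tb4, tb10]) 14014 1274 = true := by decide +kernel

theorem rel23_12 : PR.allR (PR.fixF [tb0, tb2, tb4, tb10, tb0, tb2, tb4, tb10, tb0, tb2, tb4, tb10, tb0, tb2, tb4, tb10, tb0, tb2, tb4, tb10]) 15288 1274 = true := by decide +kernel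

theorem rel23_13 : PR.allR (PR.fixF [tb0, tb2, tb4, tb10, tb0, tb2, tb4, tb10, tb0, tb2, tb4, tb10, tb0, tb2, tb4, tb10, tb0, tb2, tb4, tb10]) 16562 1274 = true := by decide +kernel

theorem rel23_14 : PR.allR (PR.fixF [tb0, tb2, tb4, tb10, tb0, tb2, tb4, tb10, tb0, tb2, tb4, tb10, tb0, tb2, tb4, tb10, tb0, tb2, tb4, tb10]) 17836 1274 = true := by decide +kernel

theorem rel23_15 : PR.allR (PR.fixF [tb0, tb2, tb4, tb10, tb0, tb2, tb4, tb10, tb0, tb2, tb4, tb10, tb0, tb2, tb4, tb10, tb0, tb2, tb4, tb10]) 19110 1274 = true := by decide +kernel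

theorem rel23_16 : PR.allR (PR.fixF [tb0, tb2, tb4, tb10, tb0, tb2, tb4, tb10, tb0, tb2, tb4, tb10, tb0, tb2, tb4, tb10, tb0, tb2, tb4, tb10]) 20384 1274 = true := by decide +kernel

theorem rel23_17 : PR.allR (PR.fixF [tb0, tb2, tb4, tb10, tb0, tb2, tb4, tb10, tb0, tb2, tb4, tb10, tb0, tb2, tb4, tb10, tb0, tb2, tb4, tb10]) 21658 1222 = true := by decide +kernel

theorem rel24_0 : PR.allR (PR.fixF [tb2, tb10, tb12, tb2, tb10, tb12, tb2, tb10, tb12, tb2, tb10, tb12, tb2, tb10, tb12]) 0 1699 = true := by decide +kernel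

theorem rel24_1 : PR.allR (PR.fixF [tb2, tb10, tb12, tb2, tb10, tb12, tb2, tb10, tb12, tb2, tb10, tb12, tb2, tb10, tb12]) 1699 1699 = true := by decide +kernel

theorem rel24_2 : PR.allR (PR.fixF [tb2, tb10, tb12, tb2, tb10, tb12, tb2, tb10, tb12, tb2, tb10, tb12, tb2, tb10, tb12]) 3398 1699 = true := by decide +kernel

theorem rel24_3 : PR.allR (PR.fixF [tb2, tb10, tb12, tb2, tb10, tb12, tb2, tb10, tb12, tb2, tb10, tb12, tb2, tb10, tb12]) 5097 1699 = true := by decide +kernel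

theorem rel24_4 : PR.allR (PR.fixF [tb2, tb10, tb12, tb2, tb10, tb12, tb2, tb10, tb12, tb2, tb10, tb12, tb2, tb10, tb12]) 6796 1699 = true := by decide +kernel

theorem rel24_5 : PR.allR (PR.fixF [tb2, tb10, tb12, tb2, tb10, tb12, tb2, tb10, tb12, tb2, tb10, tb12, tb2, tb10, tb12]) 8495 1699 = true := by decide +kernel

end Cfsg.Agent.Lib.Helper11.Suz22880
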