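/-! Definitions of the coset-enumeration certificate checker (no imports, so that data files load fast). -/

set_option autoImplicit false

namespace Cfsg.Agent.Lib.Helper11.TC

def fQ (r : Nat) : Nat := Nat.land r 1048575
def fY (r : Nat) : Nat := Nat.land (Nat.shiftRight r 20) 31
def fP (r : Nat) : Nat := Nat.land (Nat.shiftRight r 25) 1048575

/-- Follow a chain of directed facts read from the stream `S`, spelling the word `w`. -/
noncomputable def walk (F : Nat → Nat) (dmax S : Nat) (fin : Nat → Bool) (w : List (Nat × Nat)) :
    Nat → Nat → Bool :=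
  List.rec (motive := fun _ => Nat → Nat → Bool)
    (fun cur _ => fin cur)
    (fun e _ ih cur sptr =>
      (fun d => Bool.rec false
        ((fun r => Bool.rec
            (Bool.rec false (ih (fQ r) (Nat.add sptr 22))
              (Nat.beq (Nat.shiftRight r 20) (Nat.add (Nat.mul cur 32) e.1)))
            (Bool.rec false (ih (fP r) (Nat.add sptr 22))
              (Nat.beq (Nat.land r 33554431) (Nat.add e.2 cur)))
            (Nat.beq (Nat.land d 1) 1)) (F (Nat.shiftRight d 1)))
        (Nat.ble d dmax)) (Nat.land (Nat.shiftRight S sptr) 4194303))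
    w

/-- `m` facts `lo, lo+1, …`, all justified by the same word. -/
noncomputable def checkFacts (F : Nat → Nat) (dmax S : Nat) (z : Bool) (ey stride lo : Nat)
    (w : List (Nat × Nat)) (m : Nat) : Bool :=
  Nat.rec true (fun i ih => Bool.rec false ih
    ((fun r => Bool.rec false
        (Bool.rec false
          (walk F dmax S (fun c => Nat.beq c (fP r)) w (fQ r) (Nat.mul i stride))
          (Bool.rec true (Nat.beq (fQ r) 0) z))
        (Nat.beq (fY r) ey)) (F (Nat.add lo i)))) m

/-- An admissible word: flag (subgroup word?), first letter, stride, remaining letters. -/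
abbrev Adm := Bool × Nat × Nat × List (Nat × Nat)

noncomputable def nth (l : List Adm) : Nat → Adm :=
  List.rec (motive := fun _ => Nat → Adm) (fun _ => (false, 31, 0, []))
    (fun a _ ih i => Nat.rec a (fun j _ => ih j) i) l

/-- A list of blocks `(index of the word, number of facts, stream)` covering the facts `lo .. hi-1`. -/
noncomputable def checkBlocks (F : Nat → Nat) (adm : List Adm) (bl : List (Nat × Nat × Nat)) : Nat → Nat → Bool :=
  List.rec (motive := fun _ => Nat → Nat → Bool) (fun lo hi => Nat.beq lo hi)
    (fun b _ ih lo hi => (fun a : Adm => Bool.rec false (ih (Nat.add lo b.2.1) hi)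
      (checkFacts F (Nat.pred (Nat.mul 2 lo)) b.2.2 a.1 a.2.1 a.2.2.1 lo a.2.2.2 b.2.1)) (nth adm b.1)) bl

/-- The facts `lo .. lo+m-1` are definitions of the nodes with the same number. -/
noncomputable def checkDefs (F : Nat → Nat) (lo m : Nat) : Bool :=
  Nat.rec true (fun i ih => Bool.rec false ih
    ((fun v => (fun r => Bool.rec false (Nat.ble (Nat.succ (fP r)) v) (Nat.beq (fQ r) v)) (F v))
      (Nat.add lo i))) m

/-- Completeness: the nodes `lo .. lo+m-1` have an edge with letter `e` to a node `≤ nm1`. -/
noncomputable def checkC (F : Nat → Nat) (dmax S nm1 : Nat) (e : Nat × Nat) (lo m : Nat) : Bool :=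
  Nat.rec true (fun i ih => Bool.rec false ih
    (walk F dmax S (fun c => Nat.ble c nm1) [e] (Nat.add lo i) (Nat.mul i 22))) m

/-- list version of `checkC`, covering the nodes `lo .. hi-1`. -/
noncomputable def checkCL (F : Nat → Nat) (dmax nm1 : Nat) (e : Nat × Nat) (bl : List (Nat × Nat)) : Nat → Nat → Bool :=
  List.rec (motive := fun _ => Nat → Nat → Bool) (fun lo hi => Nat.beq lo hi)
    (fun b _ ih lo hi => Bool.rec false (ih (Nat.add lo b.1) hi) (checkC F dmax b.2 nm1 e lo b.1)) bl

end Cfsg.Agent.Lib.Helper11.TC
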