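import Mathlib
import Cfsg.Agent.Lib.Helper11.TCDefs

/-!
# A certificate checker for coset enumeration (Todd–Coxeter), generic soundness

Nodes are natural numbers, `kap v` is the coset attached to the node `v`.  A *fact* is a record
`[p:20][y:5][q:20]` saying `act y (kap p) = kap q` (the code `31` acts as the identity, so that a
fact with `y = 31` is a coincidence).  Facts `1 .. N-1` are the definitions of the nodes, every
other fact is justified by a chain of earlier facts spelling the rest of a word acting trivially.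
All the functions evaluated by the kernel are written with bare recursors.
-/

set_option autoImplicit false

namespace Cfsg.Agent.Lib.Helper11.TC

theorem brec {α : Sort*} (b : Bool) (f t : α) :
    (Bool.rec f t b : α) = if b = true then t else f := by cases b <;> rfl

theorem brf (b t : Bool) : ((Bool.rec false t b : Bool) = true) = (b = true ∧ t = true) := by
  cases b <;> simp

theorem brt (b t : Bool) : ((Bool.rec true t b : Bool) = true) = (b = true → t = true) := by
  cases b <;> simp

theorem fQ_eq (r : ℕ) : fQ r = r % 1048576 := by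
  have := Nat.and_two_pow_sub_one_eq_mod r 20
  simpa [fQ] using this

theorem fY_eq (r : ℕ) : fY r = r / 1048576 % 32 := by
  have := Nat.and_two_pow_sub_one_eq_mod (r >>> 20) 5
  rw [Nat.shiftRight_eq_div_pow] at this
  simpa [fY, Nat.shiftRight_eq_div_pow] using this

theorem fP_eq (r : ℕ) : fP r = r / 33554432 % 1048576 := by
  have := Nat.and_two_pow_sub_one_eq_mod (r >>> 25) 20
  rw [Nat.shiftRight_eq_div_pow] at this
  simpa [fP, Nat.shiftRight_eq_div_pow] using this

theorem land25_eq (r : ℕ) : Nat.land r 33554431 = r % 33554432 := by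
  have := Nat.and_two_pow_sub_one_eq_mod r 25
  simpa using this

theorem shr20_eq (r : ℕ) : Nat.shiftRight r 20 = r / 1048576 := by
  have := Nat.shiftRight_eq_div_pow r 20
  simpa using this

theorem shr1_eq (r : ℕ) : Nat.shiftRight r 1 = r / 2 := by
  have := Nat.shiftRight_eq_div_pow r 1
  simpa using this

theorem walk_nil (F : ℕ → ℕ) (dmax S : ℕ) (fin : ℕ → Bool) (cur sptr : ℕ) :
    walk F dmax S fin [] cur sptr = fin cur := rfl

theorem walk_cons (F : ℕ → ℕ) (dmax S : ℕ) (fin : ℕ → Bool) (e : ℕ × ℕ) (w : List (ℕ × ℕ))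
    (cur sptr : ℕ) :
    walk F dmax S fin (e :: w) cur sptr =
      (fun d => Bool.rec false
        ((fun r => Bool.rec
            (Bool.rec false (walk F dmax S fin w (fQ r) (Nat.add sptr 22))
              (Nat.beq (Nat.shiftRight r 20) (Nat.add (Nat.mul cur 32) e.1)))
            (Bool.rec false (walk F dmax S fin w (fP r) (Nat.add sptr 22))
              (Nat.beq (Nat.land r 33554431) (Nat.add e.2 cur)))
            (Nat.beq (Nat.land d 1) 1)) (F (Nat.shiftRight d 1)))
        (Nat.ble d dmax)) (Nat.land (Nat.shiftRight S sptr) 4194303) := rfl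

theorem checkFacts_succ (F : ℕ → ℕ) (dmax S : ℕ) (z : Bool) (ey stride lo : ℕ)
    (w : List (ℕ × ℕ)) (m : ℕ) :
    checkFacts F dmax S z ey stride lo w (m + 1) = Bool.rec false (checkFacts F dmax S z ey stride lo w m)
    ((fun r => Bool.rec false
        (Bool.rec false
          (walk F dmax S (fun c => Nat.beq c (fP r)) w (fQ r) (Nat.mul m stride))
          (Bool.rec true (Nat.beq (fQ r) 0) z))
        (Nat.beq (fY r) ey)) (F (Nat.add lo m))) := rfl

theorem nth_mem (l : List Adm) (i : ℕ) : nth l i = (false, 31, 0, []) ∨ nth l i ∈ l := by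
  induction l generalizing i with
  | nil => left; rfl
  | cons a l ih =>
    cases i with
    | zero => right; exact List.mem_cons_self
    | succ j =>
      have : nth (a :: l) (j + 1) = nth l j := rfl
      rw [this]
      rcases ih j with h | h
      · left; exact h
      · right; exact List.mem_cons_of_mem _ h

theorem checkBlocks_cons (F : ℕ → ℕ) (adm : List Adm) (b : ℕ × ℕ × ℕ) (bl : List (ℕ × ℕ × ℕ))
    (lo hi : ℕ) : checkBlocks F adm (b :: bl) lo hi =
    (fun a : Adm => Bool.rec false (checkBlocks F adm bl (Nat.add lo b.2.1) hi)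
      (checkFacts F (Nat.pred (Nat.mul 2 lo)) b.2.2 a.1 a.2.1 a.2.2.1 lo a.2.2.2 b.2.1)) (nth adm b.1) := rfl

theorem checkDefs_succ (F : ℕ → ℕ) (lo m : ℕ) : checkDefs F lo (m + 1) =
    Bool.rec false (checkDefs F lo m)
    ((fun v => (fun r => Bool.rec false (Nat.ble (Nat.succ (fP r)) v) (Nat.beq (fQ r) v)) (F v))
      (Nat.add lo m)) := rfl

theorem checkC_succ (F : ℕ → ℕ) (dmax S nm1 : ℕ) (e : ℕ × ℕ) (lo m : ℕ) :
    checkC F dmax S nm1 e lo (m + 1) = Bool.rec false (checkC F dmax S nm1 e lo m)
    (walk F dmax S (fun c => Nat.ble c nm1) [e] (Nat.add lo m) (Nat.mul m 22)) := rfl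

theorem checkCL_cons (F : ℕ → ℕ) (dmax nm1 : ℕ) (e : ℕ × ℕ) (b : ℕ × ℕ) (bl : List (ℕ × ℕ))
    (lo hi : ℕ) : checkCL F dmax nm1 e (b :: bl) lo hi =
    Bool.rec false (checkCL F dmax nm1 e bl (Nat.add lo b.1) hi) (checkC F dmax b.2 nm1 e lo b.1) := rfl



section Sound

variable {Q : Type*} (act : ℕ → Q → Q) (q0 : Q) (F : ℕ → ℕ)

def actW (w : List ℕ) (x : Q) : Q := w.foldl (fun x l => act l x) x

@[simp] theorem actW_nil (x : Q) : actW act [] x = x := rfl
@[simp] theorem actW_cons (l : ℕ) (w : List ℕ) (x : Q) : actW act (l :: w) x = actW act w (act l x) := rfl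

theorem actW_append (v w : List ℕ) (x : Q) : actW act (v ++ w) x = actW act w (actW act v x) := by
  simp [actW, List.foldl_append]

/-- The coset attached to a node. -/
noncomputable def kap (v : ℕ) : Q :=
  if h : fP (F v) < v then act (fY (F v)) (kap (fP (F v))) else q0
termination_by v
decreasing_by exact h

def Valid (f : ℕ) : Prop := act (fY (F f)) (kap act q0 F (fP (F f))) = kap act q0 F (fQ (F f))

/-- the pair `(s, t * 2^20)` where `t` is the code of the inverse of the letter `s`. -/
def PairOK (e : ℕ × ℕ) : Prop :=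
  e.1 < 32 ∧ ∃ t, t < 32 ∧ e.2 = t * 1048576 ∧ (∀ x, act e.1 (act t x) = x) ∧ ∀ x, act t (act e.1 x) = x

theorem kap_zero : kap act q0 F 0 = q0 := by
  rw [kap]; simp

theorem walk_sound (dmax S : ℕ) (fin : ℕ → Bool)
    (hV : ∀ d, d ≤ dmax → Valid act q0 F (d / 2)) :
    ∀ (w : List (ℕ × ℕ)), (∀ e ∈ w, PairOK act e) → ∀ cur sptr, cur < 1048576 →
      walk F dmax S fin w cur sptr = true →
      ∃ c, fin c = true ∧ kap act q0 F c = actW act (w.map Prod.fst) (kap act q0 F cur) := by
  intro w
  induction w with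
  | nil =>
    intro _ cur sptr _ h
    exact ⟨cur, h, rfl⟩
  | cons e w ih =>
    intro hw cur sptr hcur h
    rw [walk_cons] at h
    simp only [brec] at h
    obtain ⟨he1, t, ht, he2, hst, hts⟩ := hw e List.mem_cons_self
    have hw' : ∀ e ∈ w, PairOK act e := fun e' he' => hw e' (List.mem_cons_of_mem _ he')
    set d := Nat.land (Nat.shiftRight S sptr) 4194303 with hd
    split_ifs at h with h1 h2 h3 h4
    · -- backward
      have hv := hV d (Nat.le_of_ble_eq_true h1)
      rw [shr1_eq] at h h3
      set r := F (d / 2) with hr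
      have h3' := Nat.eq_of_beq_eq_true h3
      rw [land25_eq, he2] at h3'
      have hq : fQ r = cur := by rw [fQ_eq]; simp only [Nat.add_eq] at h3'; omega
      have hy : fY r = t := by rw [fY_eq]; simp only [Nat.add_eq] at h3'; omega
      have hlt : fP r < 1048576 := by rw [fP_eq]; omega
      obtain ⟨c, hc, hk⟩ := ih hw' _ _ hlt h
      refine ⟨c, hc, ?_⟩
      rw [hk]
      simp only [List.map_cons, actW_cons]
      unfold Valid at hv
      rw [← hr, hq, hy] at hv
      rw [← hv, hst]
    · -- forward
      have hv := hV d (Nat.le_of_ble_eq_true h1)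
      rw [shr1_eq] at h h4
      set r := F (d / 2) with hr
      have h4' := Nat.eq_of_beq_eq_true h4
      rw [shr20_eq] at h4'
      have hp : fP r = cur := by rw [fP_eq]; simp only [Nat.add_eq, Nat.mul_eq] at h4'; omega
      have hy : fY r = e.1 := by rw [fY_eq]; simp only [Nat.add_eq, Nat.mul_eq] at h4'; omega
      have hlt : fQ r < 1048576 := by rw [fQ_eq]; omega
      obtain ⟨c, hc, hk⟩ := ih hw' _ _ hlt h
      refine ⟨c, hc, ?_⟩
      rw [hk]
      simp only [List.map_cons, actW_cons]
      unfold Valid at hv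
      rw [← hr, hp, hy] at hv
      rw [hv]

theorem actW_injective (w : List (ℕ × ℕ)) (hw : ∀ e ∈ w, PairOK act e) :
    Function.Injective (actW act (w.map Prod.fst)) := by
  induction w with
  | nil => intro x y h; exact h
  | cons e w ih =>
    intro x y h
    simp only [List.map_cons, actW_cons] at h
    have := ih (fun e' he' => hw e' (List.mem_cons_of_mem _ he')) h
    obtain ⟨_, t, _, _, _, hts⟩ := hw e List.mem_cons_self
    rw [← hts x, this, hts]

/-- Semantic condition on an admissible word. -/
def AdmOK (a : Adm) : Prop :=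
  (∀ e ∈ a.2.2.2, PairOK act e) ∧
  ((a.1 = false ∧ ∀ x, actW act (a.2.1 :: a.2.2.2.map Prod.fst) x = x) ∨
   (a.1 = true ∧ a.2.1 = 31 ∧ actW act (a.2.2.2.map Prod.fst) q0 = q0))

theorem checkFacts_sound (h31 : ∀ x, act 31 x = x) (dmax S : ℕ) (z : Bool) (ey stride lo : ℕ)
    (w : List (ℕ × ℕ)) (ha : AdmOK act q0 (z, ey, stride, w))
    (hV : ∀ d, d ≤ dmax → Valid act q0 F (d / 2)) (m : ℕ)
    (h : checkFacts F dmax S z ey stride lo w m = true) :
    ∀ i < m, Valid act q0 F (lo + i) := by
  induction m with
  | zero => intro i hi; omega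
  | succ m ih =>
    rw [checkFacts_succ] at h
    simp only [brf, brt] at h
    obtain ⟨⟨h1, h2, h3⟩, h⟩ := h
    intro i hi
    rcases Nat.lt_succ_iff_lt_or_eq.mp hi with hi | rfl
    · exact ih h i hi
    · have hr : Nat.add lo i = lo + i := rfl
      rw [hr] at h1 h2 h3
      set r := F (lo + i) with hrr
      have hlt : fQ r < 1048576 := by rw [fQ_eq]; omega
      obtain ⟨c, hc, hk⟩ := walk_sound act q0 F dmax S _ hV w ha.1 _ _ hlt h3
      have hc' := Nat.eq_of_beq_eq_true hc
      have hy := Nat.eq_of_beq_eq_true h1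
      subst hc'
      unfold Valid
      rw [← hrr, hy]
      rcases ha.2 with ⟨_, htriv⟩ | ⟨hz, hey, hsub⟩
      · apply actW_injective act w ha.1
        have := htriv (kap act q0 F (fP r))
        simp only [actW_cons] at this
        rw [this, hk]
      · simp only at hz hey hsub
        subst hz
        have hq0 : fQ r = 0 := Nat.eq_of_beq_eq_true (h2 rfl)
        rw [hey, h31, hk, hq0, kap_zero, hsub]

theorem checkBlocks_sound (h31 : ∀ x, act 31 x = x) (adm : List Adm)
    (hadm : ∀ a ∈ adm, AdmOK act q0 a) (bl : List (ℕ × ℕ × ℕ)) :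
    ∀ (lo hi : ℕ), 0 < lo → checkBlocks F adm bl lo hi = true →
      (∀ f < lo, Valid act q0 F f) → ∀ f < hi, Valid act q0 F f := by
  induction bl with
  | nil =>
    intro lo hi _ h hV
    have : lo = hi := Nat.eq_of_beq_eq_true h
    subst this; exact hV
  | cons b bl ih =>
    intro lo hi hlo h hV
    rw [checkBlocks_cons] at h
    simp only [brf] at h
    obtain ⟨h1, h⟩ := h
    have ha : AdmOK act q0 (nth adm b.1) := by
      rcases nth_mem adm b.1 with h0 | h0
      · rw [h0]
        refine ⟨by simp, Or.inl ⟨rfl, ?_⟩⟩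
        intro x; simp [h31]
      · exact hadm _ h0
    have hV' : ∀ d, d ≤ Nat.pred (Nat.mul 2 lo) → Valid act q0 F (d / 2) := by
      intro d hd
      apply hV
      have : Nat.pred (Nat.mul 2 lo) = 2 * lo - 1 := rfl
      omega
    have := checkFacts_sound act q0 F h31 _ _ _ _ _ lo _ ha hV' _ h1
    apply ih (Nat.add lo b.2.1) hi (Nat.add_pos_left hlo _) h
    intro f hf
    by_cases hfl : f < lo
    · exact hV f hfl
    · have hf' : f < lo + b.2.1 := hf
      have := this (f - lo) (by omega)
      rwa [show lo + (f - lo) = f by omega] at this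

theorem checkDefs_sound (lo m : ℕ) (h : checkDefs F lo m = true) :
    ∀ i < m, Valid act q0 F (lo + i) := by
  induction m with
  | zero => intro i hi; omega
  | succ m ih =>
    rw [checkDefs_succ] at h
    simp only [brf] at h
    obtain ⟨⟨h2, h1⟩, h⟩ := h
    intro i hi
    rcases Nat.lt_succ_iff_lt_or_eq.mp hi with hi | rfl
    · exact ih h i hi
    · have hr : Nat.add lo i = lo + i := rfl
      rw [hr] at h1 h2
      have hq := Nat.eq_of_beq_eq_true h2
      have hp : fP (F (lo + i)) < lo + i := Nat.le_of_ble_eq_true h1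
      unfold Valid
      rw [hq]
      conv_rhs => rw [kap]
      rw [dif_pos hp]

theorem checkC_sound (dmax S nm1 : ℕ) (e : ℕ × ℕ) (he : PairOK act e)
    (hV : ∀ d, d ≤ dmax → Valid act q0 F (d / 2)) (lo m : ℕ) (hlm : lo + m ≤ 1048576)
    (h : checkC F dmax S nm1 e lo m = true) :
    ∀ i < m, ∃ v ≤ nm1, act e.1 (kap act q0 F (lo + i)) = kap act q0 F v := by
  induction m with
  | zero => intro i hi; omega
  | succ m ih =>
    rw [checkC_succ] at h
    simp only [brf] at h
    obtain ⟨h1, h⟩ := h
    intro i hi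
    rcases Nat.lt_succ_iff_lt_or_eq.mp hi with hi | rfl
    · exact ih (by omega) h i hi
    · have hr : Nat.add lo i = lo + i := rfl
      rw [hr] at h1
      obtain ⟨c, hc, hk⟩ := walk_sound act q0 F dmax S _ hV [e] (by simpa using he) _ _ (by omega) h1
      exact ⟨c, Nat.le_of_ble_eq_true hc, by simpa using hk.symm⟩

theorem valid_zero (h31 : ∀ x, act 31 x = x) (h : F 0 = 32505856) :
    ∀ f < 1, Valid act q0 F f := by
  intro f hf
  obtain rfl : f = 0 := by omega
  unfold Valid
  rw [h]
  have h1 : fY 32505856 = 31 := by rw [fY_eq]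
  have h2 : fP 32505856 = 0 := by rw [fP_eq]
  have h3 : fQ 32505856 = 0 := by rw [fQ_eq]
  rw [h1, h2, h3, h31]

theorem checkDefs_chain (lo m : ℕ) (h : checkDefs F lo m = true)
    (hV : ∀ f < lo, Valid act q0 F f) : ∀ f < lo + m, Valid act q0 F f := by
  intro f hf
  by_cases hfl : f < lo
  · exact hV f hfl
  · have := checkDefs_sound act q0 F lo m h (f - lo) (by omega)
    rwa [show lo + (f - lo) = f by omega] at this

theorem checkCL_sound (dmax nm1 : ℕ) (e : ℕ × ℕ) (he : PairOK act e)
    (hV : ∀ d, d ≤ dmax → Valid act q0 F (d / 2)) (bl : List (ℕ × ℕ)) :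
    ∀ (lo hi : ℕ), hi ≤ 1048576 → checkCL F dmax nm1 e bl lo hi = true →
      (∀ u < lo, ∃ v ≤ nm1, act e.1 (kap act q0 F u) = kap act q0 F v) →
      lo ≤ hi ∧ ∀ u < hi, ∃ v ≤ nm1, act e.1 (kap act q0 F u) = kap act q0 F v := by
  induction bl with
  | nil =>
    intro lo hi _ h hP
    have : lo = hi := Nat.eq_of_beq_eq_true h
    subst this; exact ⟨le_refl _, hP⟩
  | cons b bl ih =>
    intro lo hi hhi h hP
    rw [checkCL_cons] at h
    simp only [brf] at h
    obtain ⟨h1, h⟩ := h
    by_cases hle : lo + b.1 ≤ 1048576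
    · have h2 := checkC_sound act q0 F dmax b.2 nm1 e he hV lo b.1 hle h1
      have h3 := ih (Nat.add lo b.1) hi hhi h (by
        intro u hu
        by_cases hul : u < lo
        · exact hP u hul
        · have hu' : u < lo + b.1 := hu
          have := h2 (u - lo) (by omega)
          rwa [show lo + (u - lo) = u by omega] at this)
      have h4 : lo + b.1 ≤ hi := h3.1
      exact ⟨by omega, h3.2⟩
    · -- impossible: the remaining blocks only increase `lo`
      exfalso
      have mono : ∀ (bl : List (ℕ × ℕ)) (lo hi : ℕ), checkCL F dmax nm1 e bl lo hi = true → lo ≤ hi := by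
        intro bl
        induction bl with
        | nil => intro lo hi h; exact le_of_eq (Nat.eq_of_beq_eq_true h)
        | cons b bl ih =>
          intro lo hi h
          rw [checkCL_cons] at h
          simp only [brf] at h
          have h5 : lo + b.1 ≤ hi := ih _ _ h.2
          omega
      have h5 : lo + b.1 ≤ hi := mono _ _ _ h
      omega

end Sound

end Cfsg.Agent.Lib.Helper11.TC
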