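import Cfsg.Agent.Lib.Helper11.GenMaster2
import Cfsg.Agent.Lib.Helper11.U62LB
import Cfsg.Agent.Lib.Helper11.U62U0Cert
import Cfsg.Agent.Lib.Helper11.U62U0Pres
import Cfsg.Agent.Lib.Helper11.U62U1Cert
import Cfsg.Agent.Lib.Helper11.U62U1Pres
import Cfsg.Agent.Lib.Helper11.U62U2Cert
import Cfsg.Agent.Lib.Helper11.U62U2Pres
import Cfsg.Agent.Lib.Helper11.U62U3Cert
import Cfsg.Agent.Lib.Helper11.U62U3Pres
import Cfsg.Agent.Lib.Helper11.U62U4Cert
import Cfsg.Agent.Lib.Helper11.U62U4Pres

/-! # A presentation on eight involutions (an `E₇` diagram closed to a hexagon by an eighth node)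
defining a simple group of order `|U(6, 2)|` -/

set_option autoImplicit false
set_option maxRecDepth 100000

namespace Cfsg.Agent.Lib.Helper11.U62S

open Cfsg.Agent.Lib.Helper11 Cfsg.Agent.Lib.Helper11.TC

abbrev P : Type := GM.WG U62.invL U62.Ls (U62.coxW ++ U62.extraW)

def gen : ℕ → P := GM.wgen U62.invL U62.Ls (U62.coxW ++ U62.extraW)

theorem pres : GM.Pres P gen U62.invL U62.Ls (U62.coxW ++ U62.extraW) :=
  GM.wg_pres (fun _ hl => hl) (by decide) (by decide) (by decide +kernel)

theorem b4 : UB.Bound U62U4.Ls (U62U4.coxW ++ U62U4.extraW) (120 * 1) :=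
  UB.Bound.step (n := 120) (by norm_num)
    (fun act q0 h31 hadm hl => U62U4.closed act q0 h31 hadm hl) (subs := U62U4.subs)
    (by decide +kernel) (by decide) (by decide) (by decide +kernel)
    (Ls' := []) (by decide) (by decide) (rels' := []) (by decide) (UB.Bound.nil _)

theorem b3 : UB.Bound U62U3.Ls (U62U3.coxW ++ U62U3.extraW) (16 * (120 * 1)) :=
  UB.Bound.step (n := 16) (by norm_num)
    (fun act q0 h31 hadm hl => U62U3.closed act q0 h31 hadm hl) (subs := U62U3.subs)
    (by decide +kernel) (by decide) (by decide) (by decide +kernel)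
    (by decide) (by decide) (by decide +kernel) b4

theorem b2 : UB.Bound U62U2.Ls (U62U2.coxW ++ U62U2.extraW) (27 * (16 * (120 * 1))) :=
  UB.Bound.step (n := 27) (by norm_num)
    (fun act q0 h31 hadm hl => U62U2.closed act q0 h31 hadm hl) (subs := U62U2.subs)
    (by decide +kernel) (by decide) (by decide) (by decide +kernel)
    (by decide) (by decide) (by decide +kernel) b3

theorem b1 : UB.Bound U62U1.Ls (U62U1.coxW ++ U62U1.extraW) (28 * (27 * (16 * (120 * 1)))) :=
  UB.Bound.step (n := 28) (by norm_num)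
    (fun act q0 h31 hadm hl => U62U1.closed act q0 h31 hadm hl) (subs := U62U1.subs)
    (by decide +kernel) (by decide) (by decide) (by decide +kernel)
    (by decide) (by decide) (by decide +kernel) b2

theorem b0 : UB.Bound U62U0.Ls (U62U0.coxW ++ U62U0.extraW) (6336 * (28 * (27 * (16 * (120 * 1))))) :=
  UB.Bound.step (n := 6336) (by norm_num)
    (fun act q0 h31 hadm hl => U62U0.closed act q0 h31 hadm hl) (subs := U62U0.subs)
    (by decide +kernel) (by decide) (by decide) (by decide +kernel)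
    (by decide) (by decide) (by decide +kernel) b1

theorem card_le : Finite P ∧ Nat.card P ≤ 9196830720 :=
  GM.card_le_of_bound pres (fun _ => rfl) b0

def xw : List ℕ := [4, 8, 10, 6, 12, 16, 14, 16, 18]

def cs : List (List ℕ) := [
  [6, 8, 10, 12, 14, 6, 16, 18, 10, 16, 14, 6],
  [6, 8, 10, 12, 14, 6, 16, 18, 10, 16, 14, 8],
  [6, 8, 10, 12, 14, 6, 16, 18, 10, 16, 14, 6],
  [6, 8, 10, 12, 14, 6, 16, 18, 10, 16, 14, 8],
  [6, 8, 10, 12, 14, 6, 16, 18, 10, 16, 14, 6],
  [6, 8, 10, 12, 14, 6, 16, 18, 10, 16, 14, 8],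
  [6, 8, 10, 12, 14, 6, 16, 18, 10, 16, 14, 6],
  [6, 8, 10, 12, 14, 6, 16, 18, 10, 16, 14, 8]]

theorem simple : IsSimpleGroup P ∧ Nat.card P = 9196830720 :=
  GM.simple_master pres (n := 693) (N := 9196830720) U62.tables U62.relsOK U62.orbits
    card_le U62.lbase (by decide) U62.lb (by norm_num) (by decide +kernel) (by decide +kernel)
    11 (by norm_num) xw (by decide) (by decide +kernel) 4 (by decide) cs (by decide +kernel)
    (by decide +kernel) (GM.collapses_of_kill (fun _ => rfl) 10 (by decide +kernel))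

end Cfsg.Agent.Lib.Helper11.U62S
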