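import Cfsg.Agent.Lib.Helper11.F4
import Cfsg.Agent.Lib.Helper11.U62Simple
import Cfsg.Prelude.Def_Classical

/-! # The homomorphism to `PSU(6, 2)` -/

set_option autoImplicit false
set_option maxRecDepth 100000

namespace Cfsg.Agent.Lib.Helper11.U62M

open Matrix Cfsg.Agent.Lib.Helper11 Cfsg.Agent.Lib.Helper11.TC

abbrev M6 := Matrix (Fin 6) (Fin 6) F4

def dg : ℕ → F4
  | 0 => .z
  | 1 => .o
  | 2 => .w
  | _ => .v

/-- the matrix with the given code in base 4 -/
def mx (c : ℕ) : M6 := fun i j => dg (c / 4 ^ (6 * i.val + j.val) % 4)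

def mat : ℕ → M6
  | 4 => mx 708820809150649216476
  | 6 => mx 295436139953819500545
  | 8 => mx 591160505885475749889
  | 10 => mx 387692463005179592705
  | 12 => mx 1180663680926229078236
  | 14 => mx 701899620535769251841
  | 16 => mx 1180663679755716202580
  | 18 => mx 1180663681269709480124
  | _ => 1

theorem mx_one : mx 1180663682709764194305 = 1 := by decide +kernel

theorem mx_w : mx 2361327365419528388610 = F4.w • (1 : M6) := by decide +kernel

theorem rl0_2 : (mat 4 * (mat 6 * (1)) : M6) = mx 2479059774631216293852 := by decide +kernel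
theorem rl0_1 : (mat 4 * (mat 6 * (mx 2479059774631216293852)) : M6) = mx 3796743448529784417756 := by decide +kernel
theorem rl0_0 : (mat 4 * (mat 6 * (mx 3796743448529784417756)) : M6) = mx 1180663682709764194305 := by decide +kernel
theorem rl0 : ([4, 6, 4, 6, 4, 6].map mat).prod = 1 := by
  simp only [List.map_cons, List.map_nil, List.prod_cons, List.prod_nil]
  rw [rl0_2, rl0_1, rl0_0, mx_one]

theorem rl1_1 : (mat 4 * (mat 8 * (1)) : M6) = mx 1298323985974937660892 := by decide +kernel
theorem rl1_0 : (mat 4 * (mat 8 * (mx 1298323985974937660892)) : M6) = mx 1180663682709764194305 := by decide +kernel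
theorem rl1 : ([4, 8, 4, 8].map mat).prod = 1 := by
  simp only [List.map_cons, List.map_nil, List.prod_cons, List.prod_nil]
  rw [rl1_1, rl1_0, mx_one]

theorem rl2_1 : (mat 4 * (mat 10 * (1)) : M6) = mx 2128981364744753917404 := by decide +kernel
theorem rl2_0 : (mat 4 * (mat 10 * (mx 2128981364744753917404)) : M6) = mx 1180663682709764194305 := by decide +kernel
theorem rl2 : ([4, 10, 4, 10].map mat).prod = 1 := by
  simp only [List.map_cons, List.map_nil, List.prod_cons, List.prod_nil]
  rw [rl2_1, rl2_0, mx_one]

theorem rl3_1 : (mat 4 * (mat 12 * (1)) : M6) = mx 708820810934184332545 := by decide +kernel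
theorem rl3_0 : (mat 4 * (mat 12 * (mx 708820810934184332545)) : M6) = mx 1180663682709764194305 := by decide +kernel
theorem rl3 : ([4, 12, 4, 12].map mat).prod = 1 := by
  simp only [List.map_cons, List.map_nil, List.prod_cons, List.prod_nil]
  rw [rl3_1, rl3_0, mx_one]

theorem rl4_1 : (mat 4 * (mat 14 * (1)) : M6) = mx 1187584871324644158940 := by decide +kernel
theorem rl4_0 : (mat 4 * (mat 14 * (mx 1187584871324644158940)) : M6) = mx 1180663682709764194305 := by decide +kernel
theorem rl4 : ([4, 14, 4, 14].map mat).prod = 1 := by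
  simp only [List.map_cons, List.map_nil, List.prod_cons, List.prod_nil]
  rw [rl4_1, rl4_0, mx_one]

theorem rl5_1 : (mat 4 * (mat 16 * (1)) : M6) = mx 708820814441159556489 := by decide +kernel
theorem rl5_0 : (mat 4 * (mat 16 * (mx 708820814441159556489)) : M6) = mx 1180663682709764194305 := by decide +kernel
theorem rl5 : ([4, 16, 4, 16].map mat).prod = 1 := by
  simp only [List.map_cons, List.map_nil, List.prod_cons, List.prod_nil]
  rw [rl5_1, rl5_0, mx_one]

theorem rl6_1 : (mat 4 * (mat 18 * (1)) : M6) = mx 708820811827722800481 := by decide +kernel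
theorem rl6_0 : (mat 4 * (mat 18 * (mx 708820811827722800481)) : M6) = mx 1180663682709764194305 := by decide +kernel
theorem rl6 : ([4, 18, 4, 18].map mat).prod = 1 := by
  simp only [List.map_cons, List.map_nil, List.prod_cons, List.prod_nil]
  rw [rl6_1, rl6_0, mx_one]

theorem rl7_2 : (mat 6 * (mat 8 * (1)) : M6) = mx 3541918981738624729089 := by decide +kernel
theorem rl7_1 : (mat 6 * (mat 8 * (mx 3541918981738624729089)) : M6) = mx 2361399418615251353601 := by decide +kernel
theorem rl7_0 : (mat 6 * (mat 8 * (mx 2361399418615251353601)) : M6) = mx 1180663682709764194305 := by decide +kernel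
theorem rl7 : ([6, 8, 6, 8, 6, 8].map mat).prod = 1 := by
  simp only [List.map_cons, List.map_nil, List.prod_cons, List.prod_nil]
  rw [rl7_2, rl7_1, rl7_0, mx_one]

theorem rl8_1 : (mat 6 * (mat 10 * (1)) : M6) = mx 1272920005761124286465 := by decide +kernel
theorem rl8_0 : (mat 6 * (mat 10 * (mx 1272920005761124286465)) : M6) = mx 1180663682709764194305 := by decide +kernel
theorem rl8 : ([6, 10, 6, 10].map mat).prod = 1 := by
  simp only [List.map_cons, List.map_nil, List.prod_cons, List.prod_nil]
  rw [rl8_1, rl8_0, mx_one]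

theorem rl9_1 : (mat 6 * (mat 12 * (1)) : M6) = mx 295436138170284384476 := by decide +kernel
theorem rl9_0 : (mat 6 * (mat 12 * (mx 295436138170284384476)) : M6) = mx 1180663682709764194305 := by decide +kernel
theorem rl9 : ([6, 12, 6, 12].map mat).prod = 1 := by
  simp only [List.map_cons, List.map_nil, List.prod_cons, List.prod_nil]
  rw [rl9_1, rl9_0, mx_one]

theorem rl10_2 : (mat 6 * (mat 14 * (1)) : M6) = mx 3781753779707493498881 := by decide +kernel
theorem rl10_1 : (mat 6 * (mat 14 * (mx 3781753779707493498881)) : M6) = mx 2472138586016333185025 := by decide +kernel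
theorem rl10_0 : (mat 6 * (mat 14 * (mx 2472138586016333185025)) : M6) = mx 1180663682709764194305 := by decide +kernel
theorem rl10 : ([6, 14, 6, 14, 6, 14].map mat).prod = 1 := by
  simp only [List.map_cons, List.map_nil, List.prod_cons, List.prod_nil]
  rw [rl10_2, rl10_1, rl10_0, mx_one]

theorem rl11_1 : (mat 6 * (mat 16 * (1)) : M6) = mx 295436136999771508820 := by decide +kernel
theorem rl11_0 : (mat 6 * (mat 16 * (mx 295436136999771508820)) : M6) = mx 1180663682709764194305 := by decide +kernel
theorem rl11 : ([6, 16, 6, 16].map mat).prod = 1 := by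
  simp only [List.map_cons, List.map_nil, List.prod_cons, List.prod_nil]
  rw [rl11_1, rl11_0, mx_one]

theorem rl12_1 : (mat 6 * (mat 18 * (1)) : M6) = mx 295436138513764786364 := by decide +kernel
theorem rl12_0 : (mat 6 * (mat 18 * (mx 295436138513764786364)) : M6) = mx 1180663682709764194305 := by decide +kernel
theorem rl12 : ([6, 18, 6, 18].map mat).prod = 1 := by
  simp only [List.map_cons, List.map_nil, List.prod_cons, List.prod_nil]
  rw [rl12_1, rl12_0, mx_one]

theorem rl13_2 : (mat 8 * (mat 10 * (1)) : M6) = mx 2545934498031432908801 := by decide +kernel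
theorem rl13_1 : (mat 8 * (mat 10 * (mx 2545934498031432908801)) : M6) = mx 3634175463158313926657 := by decide +kernel
theorem rl13_0 : (mat 8 * (mat 10 * (mx 3634175463158313926657)) : M6) = mx 1180663682709764194305 := by decide +kernel
theorem rl13 : ([8, 10, 8, 10, 8, 10].map mat).prod = 1 := by
  simp only [List.map_cons, List.map_nil, List.prod_cons, List.prod_nil]
  rw [rl13_2, rl13_1, rl13_0, mx_one]

theorem rl14_1 : (mat 8 * (mat 12 * (1)) : M6) = mx 591160504101940633820 := by decide +kernel
theorem rl14_0 : (mat 8 * (mat 12 * (mx 591160504101940633820)) : M6) = mx 1180663682709764194305 := by decide +kernel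
theorem rl14 : ([8, 12, 8, 12].map mat).prod = 1 := by
  simp only [List.map_cons, List.map_nil, List.prod_cons, List.prod_nil]
  rw [rl14_1, rl14_0, mx_one]

theorem rl15_1 : (mat 8 * (mat 14 * (1)) : M6) = mx 1291402797360057696257 := by decide +kernel
theorem rl15_0 : (mat 8 * (mat 14 * (mx 1291402797360057696257)) : M6) = mx 1180663682709764194305 := by decide +kernel
theorem rl15 : ([8, 14, 8, 14].map mat).prod = 1 := by
  simp only [List.map_cons, List.map_nil, List.prod_cons, List.prod_nil]
  rw [rl15_1, rl15_0, mx_one]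

theorem rl16_1 : (mat 8 * (mat 16 * (1)) : M6) = mx 591160502931427758164 := by decide +kernel
theorem rl16_0 : (mat 8 * (mat 16 * (mx 591160502931427758164)) : M6) = mx 1180663682709764194305 := by decide +kernel
theorem rl16 : ([8, 16, 8, 16].map mat).prod = 1 := by
  simp only [List.map_cons, List.map_nil, List.prod_cons, List.prod_nil]
  rw [rl16_1, rl16_0, mx_one]

theorem rl17_1 : (mat 8 * (mat 18 * (1)) : M6) = mx 591160504445421035708 := by decide +kernel
theorem rl17_0 : (mat 8 * (mat 18 * (mx 591160504445421035708)) : M6) = mx 1180663682709764194305 := by decide +kernel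
theorem rl17 : ([8, 18, 8, 18].map mat).prod = 1 := by
  simp only [List.map_cons, List.map_nil, List.prod_cons, List.prod_nil]
  rw [rl17_1, rl17_0, mx_one]

theorem rl18_2 : (mat 10 * (mat 12 * (1)) : M6) = mx 566438937828176306396 := by decide +kernel
theorem rl18_1 : (mat 10 * (mat 12 * (mx 566438937828176306396)) : M6) = mx 387692559117923723900 := by decide +kernel
theorem rl18_0 : (mat 10 * (mat 12 * (mx 387692559117923723900)) : M6) = mx 1180663682709764194305 := by decide +kernel
theorem rl18 : ([10, 12, 10, 12, 10, 12].map mat).prod = 1 := by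
  simp only [List.map_cons, List.map_nil, List.prod_cons, List.prod_nil]
  rw [rl18_2, rl18_1, rl18_0, mx_one]

theorem rl19_1 : (mat 10 * (mat 14 * (1)) : M6) = mx 2122060176129873952769 := by decide +kernel
theorem rl19_0 : (mat 10 * (mat 14 * (mx 2122060176129873952769)) : M6) = mx 1180663682709764194305 := by decide +kernel
theorem rl19 : ([10, 14, 10, 14].map mat).prod = 1 := by
  simp only [List.map_cons, List.map_nil, List.prod_cons, List.prod_nil]
  rw [rl19_1, rl19_0, mx_one]

theorem rl20_1 : (mat 10 * (mat 16 * (1)) : M6) = mx 387692466646590754900 := by decide +kernel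
theorem rl20_0 : (mat 10 * (mat 16 * (mx 387692466646590754900)) : M6) = mx 1180663682709764194305 := by decide +kernel
theorem rl20 : ([10, 16, 10, 16].map mat).prod = 1 := by
  simp only [List.map_cons, List.map_nil, List.prod_cons, List.prod_nil]
  rw [rl20_1, rl20_0, mx_one]

theorem rl21_2 : (mat 10 * (mat 18 * (1)) : M6) = mx 568745343306391429308 := by decide +kernel
theorem rl21_1 : (mat 10 * (mat 18 * (mx 568745343306391429308)) : M6) = mx 387692559461398291948 := by decide +kernel
theorem rl21_0 : (mat 10 * (mat 18 * (mx 387692559461398291948)) : M6) = mx 1180663682709764194305 := by decide +kernel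
theorem rl21 : ([10, 18, 10, 18, 10, 18].map mat).prod = 1 := by
  simp only [List.map_cons, List.map_nil, List.prod_cons, List.prod_nil]
  rw [rl21_2, rl21_1, rl21_0, mx_one]

theorem rl22_1 : (mat 12 * (mat 14 * (1)) : M6) = mx 701899623144375066844 := by decide +kernel
theorem rl22_0 : (mat 12 * (mat 14 * (mx 701899623144375066844)) : M6) = mx 1180663682709764194305 := by decide +kernel
theorem rl22 : ([12, 14, 12, 14].map mat).prod = 1 := by
  simp only [List.map_cons, List.map_nil, List.prod_cons, List.prod_nil]
  rw [rl22_1, rl22_0, mx_one]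

theorem rl23_1 : (mat 12 * (mat 16 * (1)) : M6) = mx 1180663686216739418249 := by decide +kernel
theorem rl23_0 : (mat 12 * (mat 16 * (mx 1180663686216739418249)) : M6) = mx 1180663682709764194305 := by decide +kernel
theorem rl23 : ([12, 16, 12, 16].map mat).prod = 1 := by
  simp only [List.map_cons, List.map_nil, List.prod_cons, List.prod_nil]
  rw [rl23_1, rl23_0, mx_one]

theorem rl24_1 : (mat 12 * (mat 18 * (1)) : M6) = mx 1180663683603302662241 := by decide +kernel
theorem rl24_0 : (mat 12 * (mat 18 * (mx 1180663683603302662241)) : M6) = mx 1180663682709764194305 := by decide +kernel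
theorem rl24 : ([12, 18, 12, 18].map mat).prod = 1 := by
  simp only [List.map_cons, List.map_nil, List.prod_cons, List.prod_nil]
  rw [rl24_1, rl24_0, mx_one]

theorem rl25_2 : (mat 14 * (mat 16 * (1)) : M6) = mx 774509475760104083540 := by decide +kernel
theorem rl25_1 : (mat 14 * (mat 16 * (mx 774509475760104083540)) : M6) = mx 701899754987132427236 := by decide +kernel
theorem rl25_0 : (mat 14 * (mat 16 * (mx 701899754987132427236)) : M6) = mx 1180663682709764194305 := by decide +kernel
theorem rl25 : ([14, 16, 14, 16, 14, 16].map mat).prod = 1 := by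
  simp only [List.map_cons, List.map_nil, List.prod_cons, List.prod_nil]
  rw [rl25_2, rl25_1, rl25_0, mx_one]

theorem rl26_1 : (mat 14 * (mat 18 * (1)) : M6) = mx 701899623487855468732 := by decide +kernel
theorem rl26_0 : (mat 14 * (mat 18 * (mx 701899623487855468732)) : M6) = mx 1180663682709764194305 := by decide +kernel
theorem rl26 : ([14, 18, 14, 18].map mat).prod = 1 := by
  simp only [List.map_cons, List.map_nil, List.prod_cons, List.prod_nil]
  rw [rl26_1, rl26_0, mx_one]

theorem rl27_2 : (mat 16 * (mat 18 * (1)) : M6) = mx 1180663689857479282751 := by decide +kernel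
theorem rl27_1 : (mat 16 * (mat 18 * (mx 1180663689857479282751)) : M6) = mx 1180663692883301048342 := by decide +kernel
theorem rl27_0 : (mat 16 * (mat 18 * (mx 1180663692883301048342)) : M6) = mx 1180663682709764194305 := by decide +kernel
theorem rl27 : ([16, 18, 16, 18, 16, 18].map mat).prod = 1 := by
  simp only [List.map_cons, List.map_nil, List.prod_cons, List.prod_nil]
  rw [rl27_2, rl27_1, rl27_0, mx_one]

theorem rl28_31 : (mat 16 * (1) : M6) = mx 1180663679755716202580 := by decide +kernel
theorem rl28_30 : (mat 12 * (mat 14 * (mx 1180663679755716202580)) : M6) = mx 774509482497347383433 := by decide +kernel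
theorem rl28_29 : (mat 8 * (mat 10 * (mx 774509482497347383433)) : M6) = mx 4393706220255227113609 := by decide +kernel
theorem rl28_28 : (mat 4 * (mat 6 * (mx 4393706220255227113609)) : M6) = mx 2512447989051906428243 := by decide +kernel
theorem rl28_27 : (mat 14 * (mat 16 * (mx 2512447989051906428243)) : M6) = mx 2496333419542768158435 := by decide +kernel
theorem rl28_26 : (mat 10 * (mat 12 * (mx 2496333419542768158435)) : M6) = mx 1814537999724423777347 := by decide +kernel
theorem rl28_25 : (mat 6 * (mat 8 * (mx 1814537999724423777347)) : M6) = mx 3873116782371851570243 := by decide +kernel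
theorem rl28_24 : (mat 16 * (mat 4 * (mx 3873116782371851570243)) : M6) = mx 4002239300815331669976 := by decide +kernel
theorem rl28_23 : (mat 12 * (mat 14 * (mx 4002239300815331669976)) : M6) = mx 3855819913891967023832 := by decide +kernel
theorem rl28_22 : (mat 8 * (mat 10 * (mx 3855819913891967023832)) : M6) = mx 583715902839972051672 := by decide +kernel
theorem rl28_21 : (mat 4 * (mat 6 * (mx 583715902839972051672)) : M6) = mx 3468789682738361843714 := by decide +kernel
theorem rl28_20 : (mat 14 * (mat 16 * (mx 3468789682738361843714)) : M6) = mx 786073945349347617548 := by decide +kernel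
theorem rl28_19 : (mat 10 * (mat 12 * (mx 786073945349347617548)) : M6) = mx 2265054577941545606262 := by decide +kernel
theorem rl28_18 : (mat 6 * (mat 8 * (mx 2265054577941545606262)) : M6) = mx 4234560041258932886646 := by decide +kernel
theorem rl28_17 : (mat 16 * (mat 4 * (mx 4234560041258932886646)) : M6) = mx 351966668562568069905 := by decide +kernel
theorem rl28_16 : (mat 12 * (mat 14 * (mx 351966668562568069905)) : M6) = mx 2138205174703965687393 := by decide +kernel
theorem rl28_15 : (mat 8 * (mat 10 * (mx 2138205174703965687393)) : M6) = mx 4159617448374585609825 := by decide +kernel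
theorem rl28_14 : (mat 4 * (mat 6 * (mx 4159617448374585609825)) : M6) = mx 545649155243806835729 := by decide +kernel
theorem rl28_13 : (mat 14 * (mat 16 * (mx 545649155243806835729)) : M6) = mx 4206870999937952193188 := by decide +kernel
theorem rl28_12 : (mat 10 * (mat 12 * (mx 4206870999937952193188)) : M6) = mx 3337355941343044572932 := by decide +kernel
theorem rl28_11 : (mat 6 * (mat 8 * (mx 3337355941343044572932)) : M6) = mx 2003572408975788873476 := by decide +kernel
theorem rl28_10 : (mat 16 * (mat 4 * (mx 2003572408975788873476)) : M6) = mx 4649309159776828341080 := by decide +kernel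
theorem rl28_9 : (mat 12 * (mat 14 * (mx 4649309159776828341080)) : M6) = mx 62297553973147249919 := by decide +kernel
theorem rl28_8 : (mat 8 * (mat 10 * (mx 62297553973147249919)) : M6) = mx 204117861581659483391 := by decide +kernel
theorem rl28_7 : (mat 4 * (mat 6 * (mx 204117861581659483391)) : M6) = mx 2862108707928168647666 := by decide +kernel
theorem rl28_6 : (mat 14 * (mat 16 * (mx 2862108707928168647666)) : M6) = mx 4514415952414203626994 := by decide +kernel
theorem rl28_5 : (mat 10 * (mat 12 * (mx 4514415952414203626994)) : M6) = mx 492656422817601733154 := by decide +kernel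
theorem rl28_4 : (mat 6 * (mat 8 * (mx 492656422817601733154)) : M6) = mx 985197662614556820002 := by decide +kernel
theorem rl28_3 : (mat 16 * (mat 4 * (mx 985197662614556820002)) : M6) = mx 3641096566325859921276 := by decide +kernel
theorem rl28_2 : (mat 12 * (mat 14 * (mx 3641096566325859921276)) : M6) = mx 978276534354134314460 := by decide +kernel
theorem rl28_1 : (mat 8 * (mat 10 * (mx 978276534354134314460)) : M6) = mx 3796743448529784417756 := by decide +kernel
theorem rl28_0 : (mat 4 * (mat 6 * (mx 3796743448529784417756)) : M6) = mx 1180663682709764194305 := by decide +kernel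
theorem rl28 : ([4, 6, 8, 10, 12, 14, 16, 4, 6, 8, 10, 12, 14, 16, 4, 6, 8, 10, 12, 14, 16, 4, 6, 8, 10, 12, 14, 16, 4, 6, 8, 10, 12, 14, 16, 4, 6, 8, 10, 12, 14, 16, 4, 6, 8, 10, 12, 14, 16, 4, 6, 8, 10, 12, 14, 16, 4, 6, 8, 10, 12, 14, 16].map mat).prod = 1 := by
  simp only [List.map_cons, List.map_nil, List.prod_cons, List.prod_nil]
  rw [rl28_31, rl28_30, rl28_29, rl28_28, rl28_27, rl28_26, rl28_25, rl28_24, rl28_23, rl28_22, rl28_21, rl28_20, rl28_19, rl28_18, rl28_17, rl28_16, rl28_15, rl28_14, rl28_13, rl28_12, rl28_11, rl28_10, rl28_9, rl28_8, rl28_7, rl28_6, rl28_5, rl28_4, rl28_3, rl28_2, rl28_1, rl28_0, mx_one]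

theorem rl29_11 : (mat 6 * (mat 8 * (1)) : M6) = mx 3541918981738624729089 := by decide +kernel
theorem rl29_10 : (mat 8 * (mat 10 * (mx 3541918981738624729089)) : M6) = mx 1365198920494274854913 := by decide +kernel
theorem rl29_9 : (mat 6 * (mat 14 * (mx 1365198920494274854913)) : M6) = mx 3284367147158609084417 := by decide +kernel
theorem rl29_8 : (mat 14 * (mat 16 * (mx 3284367147158609084417)) : M6) = mx 3338507795276484187620 := by decide +kernel
theorem rl29_7 : (mat 10 * (mat 18 * (mx 3338507795276484187620)) : M6) = mx 4498656986802941273238 := by decide +kernel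
theorem rl29_6 : (mat 6 * (mat 8 * (mx 4498656986802941273238)) : M6) = mx 3001467941780918314134 := by decide +kernel
theorem rl29_5 : (mat 18 * (mat 16 * (mx 3001467941780918314134)) : M6) = mx 3001467933148040341719 := by decide +kernel
theorem rl29_4 : (mat 8 * (mat 10 * (mx 3001467933148040341719)) : M6) = mx 3181286250458627123415 := by decide +kernel
theorem rl29_3 : (mat 16 * (mat 14 * (mx 3181286250458627123415)) : M6) = mx 4229584101154334784054 := by decide +kernel
theorem rl29_2 : (mat 6 * (mat 18 * (mx 4229584101154334784054)) : M6) = mx 2736915211007176613909 := by decide +kernel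
theorem rl29_1 : (mat 16 * (mat 14 * (mx 2736915211007176613909)) : M6) = mx 726950403821663563988 := by decide +kernel
theorem rl29_0 : (mat 18 * (mat 10 * (mx 726950403821663563988)) : M6) = mx 2361327365419528388610 := by decide +kernel
theorem rl29 : ([18, 10, 16, 14, 6, 18, 16, 14, 8, 10, 18, 16, 6, 8, 10, 18, 14, 16, 6, 14, 8, 10, 6, 8].map mat).prod = F4.w • (1 : M6) := by
  simp only [List.map_cons, List.map_nil, List.prod_cons, List.prod_nil]
  rw [rl29_11, rl29_10, rl29_9, rl29_8, rl29_7, rl29_6, rl29_5, rl29_4, rl29_3, rl29_2, rl29_1, rl29_0, mx_w]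

theorem rl30_14 : (mat 8 * (mat 6 * (1)) : M6) = mx 2361399418615251353601 := by decide +kernel
theorem rl30_13 : (mat 10 * (mat 6 * (mx 2361399418615251353601)) : M6) = mx 2453655847245497516033 := by decide +kernel
theorem rl30_12 : (mat 6 * (mat 8 * (mx 2453655847245497516033)) : M6) = mx 1457410070075242725377 := by decide +kernel
theorem rl30_11 : (mat 10 * (mat 12 * (mx 1457410070075242725377)) : M6) = mx 2983709967256673398140 := by decide +kernel
theorem rl30_10 : (mat 6 * (mat 8 * (mx 2983709967256673398140)) : M6) = mx 1538397323392377761148 := by decide +kernel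
theorem rl30_9 : (mat 6 * (mat 14 * (mx 1538397323392377761148)) : M6) = mx 1513047408674408574332 := by decide +kernel
theorem rl30_8 : (mat 10 * (mat 8 * (mx 1513047408674408574332)) : M6) = mx 1457410107095904759164 := by decide +kernel
theorem rl30_7 : (mat 18 * (mat 12 * (mx 1457410107095904759164)) : M6) = mx 1457410106752129735450 := by decide +kernel
theorem rl30_6 : (mat 8 * (mat 10 * (mx 1457410106752129735450)) : M6) = mx 1525733203643789908762 := by decide +kernel
theorem rl30_5 : (mat 12 * (mat 6 * (mx 1525733203643789908762)) : M6) = mx 1712461047641235669265 := by decide +kernel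
theorem rl30_4 : (mat 8 * (mat 10 * (mx 1712461047641235669265)) : M6) = mx 3899650637680959701265 := by decide +kernel
theorem rl30_3 : (mat 18 * (mat 14 * (mx 3899650637680959701265)) : M6) = mx 4073713106406541031959 := by decide +kernel
theorem rl30_2 : (mat 12 * (mat 10 * (mx 4073713106406541031959)) : M6) = mx 1064756325141258772668 := by decide +kernel
theorem rl30_1 : (mat 8 * (mat 6 * (mx 1064756325141258772668)) : M6) = mx 568745343306391429308 := by decide +kernel
theorem rl30_0 : (mat 18 * (mat 10 * (mx 568745343306391429308)) : M6) = mx 1180663682709764194305 := by decide +kernel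
theorem rl30 : ([18, 10, 8, 6, 12, 10, 18, 14, 8, 10, 12, 6, 8, 10, 18, 12, 10, 8, 6, 14, 6, 8, 10, 12, 6, 8, 10, 6, 8, 6].map mat).prod = 1 := by
  simp only [List.map_cons, List.map_nil, List.prod_cons, List.prod_nil]
  rw [rl30_14, rl30_13, rl30_12, rl30_11, rl30_10, rl30_9, rl30_8, rl30_7, rl30_6, rl30_5, rl30_4, rl30_3, rl30_2, rl30_1, rl30_0, mx_one]

theorem rl31_14 : (mat 6 * (mat 4 * (1)) : M6) = mx 3796743448529784417756 := by decide +kernel
theorem rl31_13 : (mat 8 * (mat 4 * (mx 3796743448529784417756)) : M6) = mx 3757568095496963499996 := by decide +kernel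
theorem rl31_12 : (mat 4 * (mat 6 * (mx 3757568095496963499996)) : M6) = mx 1396312902034110425820 := by decide +kernel
theorem rl31_11 : (mat 6 * (mat 14 * (mx 1396312902034110425820)) : M6) = mx 3751804050511354014428 := by decide +kernel
theorem rl31_10 : (mat 8 * (mat 4 * (mx 3751804050511354014428)) : M6) = mx 3781753780120028856529 := by decide +kernel
theorem rl31_9 : (mat 14 * (mat 6 * (mx 3781753780120028856529)) : M6) = mx 1180663683122299551953 := by decide +kernel
theorem rl31_8 : (mat 14 * (mat 16 * (mx 1180663683122299551953)) : M6) = mx 878285073632014671935 := by decide +kernel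
theorem rl31_7 : (mat 4 * (mat 6 * (mx 878285073632014671935)) : M6) = mx 950620826287033375301 := by decide +kernel
theorem rl31_6 : (mat 6 * (mat 8 * (mx 950620826287033375301)) : M6) = mx 632720172840251382341 := by decide +kernel
theorem rl31_5 : (mat 16 * (mat 14 * (mx 632720172840251382341)) : M6) = mx 1396312899694225525264 := by decide +kernel
theorem rl31_4 : (mat 16 * (mat 18 * (mx 1396312899694225525264)) : M6) = mx 1396312908904027740915 := by decide +kernel
theorem rl31_3 : (mat 6 * (mat 14 * (mx 1396312908904027740915)) : M6) = mx 3679188585026103106291 := by decide +kernel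
theorem rl31_2 : (mat 8 * (mat 4 * (mx 3679188585026103106291)) : M6) = mx 3561528328161482575935 := by decide +kernel
theorem rl31_1 : (mat 14 * (mat 6 * (mx 3561528328161482575935)) : M6) = mx 1180663689857479282751 := by decide +kernel
theorem rl31_0 : (mat 18 * (mat 16 * (mx 1180663689857479282751)) : M6) = mx 1180663682709764194305 := by decide +kernel
theorem rl31 : ([18, 16, 14, 6, 8, 4, 6, 14, 16, 18, 16, 14, 6, 8, 4, 6, 14, 16, 14, 6, 8, 4, 6, 14, 4, 6, 8, 4, 6, 4].map mat).prod = 1 := by
  simp only [List.map_cons, List.map_nil, List.prod_cons, List.prod_nil]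
  rw [rl31_14, rl31_13, rl31_12, rl31_11, rl31_10, rl31_9, rl31_8, rl31_7, rl31_6, rl31_5, rl31_4, rl31_3, rl31_2, rl31_1, rl31_0, mx_one]

theorem gram_in : ∀ l ∈ U62.Ls, (mat l)ᵀ * (mat l).map (· ^ 2) = 1 := by decide +kernel

theorem mat_sq_in : ∀ l ∈ U62.Ls, mat l * mat l = 1 := by decide +kernel

theorem mat_out : ∀ l, l ∉ U62.Ls → mat l = 1 := by
  intro l hl
  match l, hl with
  | 0, _ => rfl
  | 1, _ => rfl
  | 2, _ => rfl
  | 3, _ => rfl
  | 4, h => exact absurd (by decide) h
  | 5, _ => rfl
  | 6, h => exact absurd (by decide) h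
  | 7, _ => rfl
  | 8, h => exact absurd (by decide) h
  | 9, _ => rfl
  | 10, h => exact absurd (by decide) h
  | 11, _ => rfl
  | 12, h => exact absurd (by decide) h
  | 13, _ => rfl
  | 14, h => exact absurd (by decide) h
  | 15, _ => rfl
  | 16, h => exact absurd (by decide) h
  | 17, _ => rfl
  | 18, h => exact absurd (by decide) h
  | (k + 19), _ => rfl

theorem mat_sq (l : ℕ) : mat l * mat l = 1 := by
  by_cases h : l ∈ U62.Ls
  · exact mat_sq_in l h
  · rw [mat_out l h, one_mul]

theorem gram (l : ℕ) : (mat l)ᵀ * (mat l).map (· ^ 2) = 1 := by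
  by_cases h : l ∈ U62.Ls
  · exact gram_in l h
  · rw [mat_out l h]
    decide +kernel

theorem f4_sq_one : ∀ x : F4, x * x = 1 → x = 1 := by decide

theorem det_mat (l : ℕ) : (mat l).det = 1 := by
  apply f4_sq_one
  rw [← Matrix.det_mul, mat_sq, Matrix.det_one]

theorem sq_add : ∀ x y : F4, (x + y) ^ 2 = x ^ 2 + y ^ 2 := by decide

theorem sq_sum {ι : Type*} (s : Finset ι) (f : ι → F4) :
    (∑ i ∈ s, f i) ^ 2 = ∑ i ∈ s, (f i) ^ 2 := by
  classical
  induction s using Finset.induction_on with
  | empty => rfl
  | insert a s ha ih => rw [Finset.sum_insert ha, Finset.sum_insert ha, sq_add, ih]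

theorem herm_pres {n : ℕ} (M : Matrix (Fin n) (Fin n) F4) (h : Mᵀ * M.map (· ^ 2) = 1)
    (u v : Fin n → F4) :
    Cfsg.hermForm n F4 2 (M *ᵥ u) (M *ᵥ v) = Cfsg.hermForm n F4 2 u v := by
  have h1 : ∀ w w' : Fin n → F4, Cfsg.hermForm n F4 2 w w' = w ⬝ᵥ (fun i => w' i ^ 2) :=
    fun _ _ => rfl
  have h2 : (fun i => (M *ᵥ v) i ^ 2) = (M.map (· ^ 2)) *ᵥ (fun i => v i ^ 2) := by
    funext i
    simp only [Matrix.mulVec, dotProduct, Matrix.map_apply]
    rw [sq_sum]
    simp only [mul_pow]
  rw [h1, h1, h2, dotProduct_comm, Matrix.dotProduct_mulVec, dotProduct_comm,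
    ← Matrix.mulVec_transpose, Matrix.mulVec_mulVec, h, Matrix.one_mulVec]

def sl (l : ℕ) : SpecialLinearGroup (Fin 6) F4 := ⟨mat l, det_mat l⟩

theorem sl_mem (l : ℕ) : sl l ∈ Cfsg.SU 6 F4 2 := by
  intro u v
  exact herm_pres (mat l) (gram l) u v

def su (l : ℕ) : Cfsg.SU 6 F4 2 := ⟨sl l, sl_mem l⟩

theorem coe_ev (w : List ℕ) :
    (((ev su w : Cfsg.SU 6 F4 2) : SpecialLinearGroup (Fin 6) F4) : M6) = (w.map mat).prod := by
  induction w with
  | nil => rfl
  | cons l w ih =>
    rw [ev_cons, Subgroup.coe_mul, Matrix.SpecialLinearGroup.coe_mul, ih]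
    rfl

def psu (l : ℕ) : Cfsg.PSU 6 F4 2 := QuotientGroup.mk (su l)

theorem ev_psu (w : List ℕ) : ev psu w = QuotientGroup.mk (ev su w) := by
  induction w with
  | nil => rfl
  | cons l w ih => rw [ev_cons, ev_cons, ih]; rfl

theorem one_of_prod (w : List ℕ) (h : (w.map mat).prod = 1) : ev psu w = 1 := by
  rw [ev_psu]
  have : ev su w = 1 := Subtype.ext (Subtype.ext (by rw [coe_ev, h]; rfl))
  rw [this]; rfl

theorem one_of_scalar (w : List ℕ) (c : F4) (h : (w.map mat).prod = c • (1 : M6)) :
    ev psu w = 1 := by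
  rw [ev_psu, QuotientGroup.eq_one_iff, Subgroup.mem_center_iff]
  intro g
  apply Subtype.ext
  apply Subtype.ext
  rw [Subgroup.coe_mul, Subgroup.coe_mul, Matrix.SpecialLinearGroup.coe_mul,
    Matrix.SpecialLinearGroup.coe_mul, coe_ev, h]
  simp

theorem hrel : ∀ r ∈ U62.coxW ++ U62.extraW, ev psu r = 1 := by
  intro r hr
  simp only [U62.coxW, U62.extraW, List.mem_append, List.mem_cons, List.mem_nil_iff, or_false] at hr
  rcases hr with rfl | rfl | rfl | rfl | rfl | rfl | rfl | rfl | rfl | rfl | rfl | rfl | rfl | rfl | rfl | rfl | rfl | rfl | rfl | rfl | rfl | rfl | rfl | rfl | rfl | rfl | rfl | rfl | rfl | rfl | rfl | rfl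
  · exact one_of_prod _ rl0
  · exact one_of_prod _ rl1
  · exact one_of_prod _ rl2
  · exact one_of_prod _ rl3
  · exact one_of_prod _ rl4
  · exact one_of_prod _ rl5
  · exact one_of_prod _ rl6
  · exact one_of_prod _ rl7
  · exact one_of_prod _ rl8
  · exact one_of_prod _ rl9
  · exact one_of_prod _ rl10
  · exact one_of_prod _ rl11
  · exact one_of_prod _ rl12
  · exact one_of_prod _ rl13
  · exact one_of_prod _ rl14
  · exact one_of_prod _ rl15
  · exact one_of_prod _ rl16
  · exact one_of_prod _ rl17
  · exact one_of_prod _ rl18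
  · exact one_of_prod _ rl19
  · exact one_of_prod _ rl20
  · exact one_of_prod _ rl21
  · exact one_of_prod _ rl22
  · exact one_of_prod _ rl23
  · exact one_of_prod _ rl24
  · exact one_of_prod _ rl25
  · exact one_of_prod _ rl26
  · exact one_of_prod _ rl27
  · exact one_of_prod _ rl28
  · exact one_of_scalar _ _ rl29
  · exact one_of_prod _ rl30
  · exact one_of_prod _ rl31

theorem hp : ∀ l ∈ U62.Ls, psu (U62.invL l) = (psu l)⁻¹ := by
  intro l _
  have h1 : su l * su l = 1 := Subtype.ext (Subtype.ext (mat_sq l))
  have h2 : psu l * psu l = 1 := by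
    show (QuotientGroup.mk (su l * su l) : Cfsg.PSU 6 F4 2) = 1
    rw [h1]; rfl
  exact eq_inv_of_mul_eq_one_right h2

theorem mat_nc : mat 6 * mat 4 ≠ mat 4 * mat 6 := by decide +kernel

theorem psu_ne : psu 4 ≠ 1 := by
  intro h
  have h1 : su 4 ∈ Subgroup.center (Cfsg.SU 6 F4 2) := (QuotientGroup.eq_one_iff _).mp h
  have h2 := Subgroup.mem_center_iff.mp h1 (su 6)
  apply mat_nc
  have h3 := congrArg (fun x : Cfsg.SU 6 F4 2 => ((x : SpecialLinearGroup (Fin 6) F4) : M6)) h2
  exact h3

theorem exists_hom : ∃ γ : U62S.P →* Cfsg.PSU 6 F4 2, ∀ l ∈ U62.Ls, γ (U62S.gen l) = psu l :=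
  U62S.pres.lift _ psu hp hrel

end Cfsg.Agent.Lib.Helper11.U62M
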