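import Cfsg.Agent.Lib.Helper11.GenMaster

/-! # The group presented by letters and relator words -/

set_option autoImplicit false

namespace Cfsg.Agent.Lib.Helper11.GM

open Cfsg.Agent.Lib.Helper11.TC Cfsg.Agent.Lib.Helper11

/-- the relators: the words, `l * inv l`, and the letters which are not used -/
def wrels (inv : ℕ → ℕ) (Ls : List ℕ) (rels : List (List ℕ)) : Set (FreeGroup ℕ) :=
  {r | (∃ w ∈ rels, r = ev FreeGroup.of w) ∨ (∃ l ∈ Ls, r = FreeGroup.of l * FreeGroup.of (inv l)) ∨
    (∃ l, l ∉ Ls ∧ r = FreeGroup.of l)}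

/-- the group presented by the letters `Ls` and the words `rels` -/
abbrev WG (inv : ℕ → ℕ) (Ls : List ℕ) (rels : List (List ℕ)) : Type :=
  PresentedGroup (wrels inv Ls rels)

/-- its generators -/
def wgen (inv : ℕ → ℕ) (Ls : List ℕ) (rels : List (List ℕ)) (l : ℕ) : WG inv Ls rels :=
  PresentedGroup.of l

theorem map_ev' {A B : Type*} [Group A] [Group B] (φ : A →* B) (g : ℕ → A) (w : List ℕ) :
    φ (ev g w) = ev (fun l => φ (g l)) w := by
  induction w with
  | nil => simp
  | cons l w ih => rw [ev_cons, ev_cons, map_mul, ih]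

theorem ev_congr {A : Type*} [Group A] (g h : ℕ → A) (w : List ℕ) (hw : ∀ l ∈ w, g l = h l) :
    ev g w = ev h w := by
  induction w with
  | nil => rfl
  | cons l w ih =>
    rw [ev_cons, ev_cons, hw l List.mem_cons_self, ih (fun l' hl' => hw l' (List.mem_cons_of_mem _ hl'))]

theorem wg_pres {inv : ℕ → ℕ} {Ls : List ℕ} {rels : List (List ℕ)}
    (hout : ∀ l, l ∉ Ls → inv l ∉ Ls) (invm : ∀ l ∈ Ls, inv l ∈ Ls) (l31 : ∀ l ∈ Ls, l < 31)
    (wl : ∀ r ∈ rels, ∀ l ∈ r, l ∈ Ls) :
    Pres (WG inv Ls rels) (wgen inv Ls rels) inv Ls rels where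
  h31 := by
    have : 31 ∉ Ls := fun h => by have := l31 31 h; omega
    exact PresentedGroup.one_of_mem (Or.inr (Or.inr ⟨31, this, rfl⟩))
  hinv := by
    intro l
    by_cases h : l ∈ Ls
    · have h1 : (PresentedGroup.mk (wrels inv Ls rels)) (FreeGroup.of l * FreeGroup.of (inv l)) = 1 :=
        PresentedGroup.one_of_mem (Or.inr (Or.inl ⟨l, h, rfl⟩))
      rw [map_mul] at h1
      exact eq_inv_of_mul_eq_one_right h1
    · have h1 : wgen inv Ls rels l = 1 :=
        PresentedGroup.one_of_mem (Or.inr (Or.inr ⟨l, h, rfl⟩))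
      have h2 : wgen inv Ls rels (inv l) = 1 :=
        PresentedGroup.one_of_mem (Or.inr (Or.inr ⟨inv l, hout l h, rfl⟩))
      rw [h1, h2, inv_one]
  hrel := by
    intro r hr
    have h1 : (PresentedGroup.mk (wrels inv Ls rels)) (ev FreeGroup.of r) = 1 :=
      PresentedGroup.one_of_mem (Or.inl ⟨r, hr, rfl⟩)
    rw [map_ev'] at h1
    exact h1
  hgen := by
    rw [eq_top_iff, ← PresentedGroup.closure_range_of, Subgroup.closure_le]
    rintro _ ⟨l, rfl⟩
    by_cases h : l ∈ Ls
    · exact Subgroup.subset_closure ⟨l, h, rfl⟩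
    · have h1 : (PresentedGroup.of l : WG inv Ls rels) = 1 :=
        PresentedGroup.one_of_mem (Or.inr (Or.inr ⟨l, h, rfl⟩))
      rw [h1]; exact Subgroup.one_mem _
  lift := by
    classical
    intro P _ p hp hw
    let f : ℕ → P := fun l => if l ∈ Ls then p l else 1
    have hf : ∀ l ∈ Ls, f l = p l := fun l hl => by simp only [f, if_pos hl]
    have hlift : ∀ r ∈ wrels inv Ls rels, FreeGroup.lift f r = 1 := by
      rintro r (⟨w, hw1, rfl⟩ | ⟨l, hl, rfl⟩ | ⟨l, hl, rfl⟩)
      · rw [map_ev']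
        simp only [FreeGroup.lift_apply_of]
        rw [ev_congr f p w (fun l hl => hf l (wl w hw1 l hl))]
        exact hw w hw1
      · rw [map_mul, FreeGroup.lift_apply_of, FreeGroup.lift_apply_of, hf l hl, hf _ (invm l hl),
          hp l hl, mul_inv_cancel]
      · rw [FreeGroup.lift_apply_of]
        simp only [f, if_neg hl]
    refine ⟨PresentedGroup.toGroup hlift, ?_⟩
    intro l hl
    show (PresentedGroup.toGroup hlift) (PresentedGroup.of l) = _
    rw [PresentedGroup.toGroup.of, hf l hl]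
  invm := invm
  l31 := l31
  wl := wl

end Cfsg.Agent.Lib.Helper11.GM
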